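import Cfsg.Agent.N2.Cl.RD.Lnk_m3
import Cfsg.Agent.N2.G2.BD_m3
import Cfsg.Agent.N2.Cl.RAlt.Big_m3
import Cfsg.Agent.N2.Ex.Mu.CT_m3
import Cfsg.Agent.N2.G2.K1s_m3
import Cfsg.Agent.N2.D4m.Cen_m3
import Cfsg.Agent.N2.Tri.HSMcL_m3
import Cfsg.Agent.N2.Cl.RAlt.Tri_m3
import Cfsg.Agent.N2.Cl.FrSp.Num_m3
import Cfsg.Agent.N2.D4m.Dat_m3
import Cfsg.Agent.S0813
import Cfsg.Agent.S0204
import Cfsg.Agent.N2.Defs_m3
import Cfsg.Agent.H341.ThreeList_m3
import Cfsg.Agent.SM.Uj.Loc_mg_m3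
import Cfsg.Agent.StdO8.Gen_m3
import Cfsg.Agent.OddCyclic.ClaimC.SzIso
import Cfsg.Agent.TypeD4Two.Code
import Cfsg.Agent.H902.Iso
import Cfsg.Agent.S0333
import Cfsg.Agent.N2.Cl.RD.Lin_m3
import Cfsg.Agent.H887.DS.SixFive
import Cfsg.Agent.H920.NineBase
import Cfsg.Agent.N2.Ex.Sim.CrU_m3
import Cfsg.Agent.H650.Ppd.Psp_m3
import Cfsg.Agent.H218.SdFin
import Cfsg.Agent.H879.Nine.Ctx_m3
import Cfsg.Agent.H708.ReeSix_m3
import Cfsg.Agent.H909.PpdReeB_m3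
import Cfsg.Agent.H708.ReeTw
import Cfsg.Agent.H963.ReeFive
import Cfsg.Agent.Lib.FinFast
import Cfsg.Agent.FastGrp
import Cfsg.Agent.Prune
set_option linter.all false

section
prune_inst 0x7ffdbdf9fbb8f1dfdfff7e7ff6d9cffe1990dfffe6dff94bffe861ef2bdf230a09e52ba50de050fe0ec2601410b87853fb7eeeffe26fdc7ffffdfff45ffbee4ff5f7bd0851d68c340f380ff703f0778e7f3fffffffffffffffffffffffffffbeffbfffffffff

-- part: N2/Ex/Mu/Num/SC
section
set_option linter.all false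
open scoped Cfsg.Agent.FastGrp

/-!
# N2 (S3519), several components, `q < 32`: the chains (helper83)
-/

set_option autoImplicit false

namespace Cfsg.Agent.N2.Ex.Mu.Sq

open Cfsg Finset

theorem ph_le (n : ℕ) : ph n ≤ n.totient := by
  unfold ph
  split_ifs with h1 h2
  · rw [h1]; decide
  · rcases h2 with rfl | rfl <;> decide
  · exact Nat.zero_le _

theorem rk1_le (l r n : ℕ) : rk1 l r n ≤ rk l r n := by
  have h := ph_le n
  have h' : 4 ∣ n → n ≠ 4 → ph n = 0 := fun h1 h2 => by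
    unfold ph
    rw [if_neg (by omega), if_neg (by omega)]
  unfold rk1 rk
  split_ifs <;> omega

theorem SZ_mono {l a b : ℕ} (hl : l = 4 ∨ l = 6 ∨ l = 7 ∨ l = 8) (h : a ≤ b) : SZ l a ≤ SZ l b := by
  have h1 : ∀ l ∈ [4, 6, 7, 8], ∀ b < 9, ∀ a ≤ b, SZ l a ≤ SZ l b := by decide
  have h2 : ∀ c, SZ l c = SZ l (min c 8) := fun c => by
    rcases le_total c 8 with k | k
    · rw [min_eq_left k]
    · rw [min_eq_right k, SZ, SZ, if_pos (by omega), if_pos (by omega)]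
  rw [h2 a, h2 b]
  exact h1 l (by simpa using hl) _ (by omega) _ (min_le_min_right _ h)

theorem le_avg {e E nx r k : ℕ} (h1 : e < nx) (h2 : e ≤ E) (h3 : Even k) (h4 : 0 < r) (h5 : r * k + e < r * e + nx) :
    k ≤ avg E nx r := by
  rw [avg, fo_eq]
  obtain ⟨d, hd⟩ : ∃ d, min E (nx - 1) = e + d := Nat.exists_eq_add_of_le (by omega)
  have h6 : k ≤ (r * min E (nx - 1) + nx - min E (nx - 1) - 1) / r := by
    rw [Nat.le_div_iff_mul_le h4, hd, mul_add, mul_comm k]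
    have := Nat.le_mul_of_pos_left d h4
    omega
  obtain ⟨m, rfl⟩ := h3
  omega

theorem best_mem {a : Rec} {e : ℕ × ℕ} (h : best a = some e) : e ∈ a.el ∧ 5 ≤ e.1 := by
  rcases Option.or_eq_some_iff.1 h with k | ⟨-, k⟩
  · have k1 := List.find?_some k
    exact ⟨List.mem_of_find?_eq_some k, (of_decide_eq_true k1).1⟩
  · have k1 := List.find?_some k
    exact ⟨List.mem_of_find?_eq_some k, of_decide_eq_true k1⟩

theorem rmin_le {J : List (ℕ × ℕ)} {e : ℕ × ℕ} (h : e ∈ J) : rmin J ≤ e.1 := by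
  induction J with
  | nil => cases h
  | cons a J ih =>
    rcases List.mem_cons.1 h with rfl | k
    exacts [min_le_left _ _, (min_le_right _ _).trans (ih k)]

theorem rmin_pos {J : List (ℕ × ℕ)} (h : ∀ e ∈ J, 5 ≤ e.1) : 0 < rmin J := by
  induction J with
  | nil => decide
  | cons a J ih =>
    exact lt_min (by have := h a List.mem_cons_self; omega) (ih fun e k => h e (List.mem_cons_of_mem _ k))

theorem le_foldr_max {k a : ℕ} {ks : List ℕ} (h : a ∈ k :: ks) : a ≤ ks.foldr max k := by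
  induction ks with
  | nil => exact (List.mem_singleton.1 h).le
  | cons b ks ih =>
    by_cases k1 : a = b
    · exact k1.le.trans (le_max_left _ _)
    · exact (ih (by simp only [List.mem_cons] at h ⊢; tauto)).trans (le_max_right _ _)

/-- the chain of a list of components -/
theorem exists_chain {ι : Type} [DecidableEq ι] (P : Par) (x : ι → Rec) {li : List ι} (h : li.Nodup) {e : ℕ × ℕ}
    (he : fst0 P ((li.map x).filterMap best) = some e) : ∃ (J : Finset ι) (j₀ : ι) (r n : ι → ℕ), j₀ ∈ J ∧ (∀ j ∈ J, j ∈ li) ∧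
      (∀ j ∈ J, 5 ≤ r j ∧ (r j, n j) ∈ (x j).el ∧ rmin ((li.map x).filterMap best) ≤ r j) ∧ e = (r j₀, n j₀) ∧
      0 < rmin ((li.map x).filterMap best) ∧ wt ((li.map x).filterMap best) ≤ ∑ j ∈ J, (n j).totient ∧
      wt ((li.map x).filterMap best) ≤ ∑ j ∈ J.erase j₀, (n j).totient + ph (n j₀) := by
  obtain ⟨lj, b, h1, h2, h3, h4⟩ : ∃ (lj : List ι) (b : ι → ℕ × ℕ), lj.Nodup ∧ (∀ j ∈ lj, j ∈ li) ∧
      (∀ j ∈ lj, best (x j) = some (b j)) ∧ (li.map x).filterMap best = lj.map b := by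
    refine ⟨li.filter fun j => (best (x j)).isSome, fun j => (best (x j)).getD (0, 0), h.filter _,
      fun j k => (List.mem_filter.1 k).1, fun j k => ?_, ?_⟩
    · obtain ⟨c, hc⟩ := Option.isSome_iff_exists.1 (List.mem_filter.1 k).2
      simp [hc]
    · clear he h
      induction li with
      | nil => rfl
      | cons a li ih =>
        rw [List.map_cons, List.filterMap_cons, List.filter_cons]
        cases k : best (x a) <;> simp [k, ← ih]
  rw [h4] at he ⊢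
  obtain ⟨j₀, k1, rfl⟩ := List.mem_map.1 (List.argmin_mem (Option.mem_def.2 he))
  have k2 : wt (lj.map b) = ∑ j ∈ lj.toFinset, ph (b j).2 := by
    rw [wt, List.map_map, List.sum_toFinset _ h1]
    rfl
  refine ⟨lj.toFinset, j₀, fun j => (b j).1, fun j => (b j).2, List.mem_toFinset.2 k1, fun j k => h2 j (List.mem_toFinset.1 k),
    fun j k => ?_, rfl, rmin_pos fun e k => ?_, k2 ▸ sum_le_sum fun j _ => ph_le _, ?_⟩
  · have k3 := best_mem (h3 j (List.mem_toFinset.1 k))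
    exact ⟨k3.2, k3.1, rmin_le (List.mem_map_of_mem (List.mem_toFinset.1 k))⟩
  · obtain ⟨j, k3, rfl⟩ := List.mem_map.1 k
    exact (best_mem (h3 j k3)).2
  · rw [k2, ← sum_erase_add _ _ (List.mem_toFinset.2 k1)]
    exact Nat.add_le_add_right (sum_le_sum fun j _ => ph_le _) _

/-- **[C1]** -/
theorem boxC1 : BoxC1 := by
  intro l tw p f T M ι _ _ S _ G κ W E x X hx hM li hli φ hφ
  unfold rC1 at hφ
  split at hφ
  · cases hφ
  rename_i e he
  obtain ⟨J, j₀, r, n, h1, -, h3, rfl, h5, -, h7⟩ := exists_chain _ x hli he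
  obtain ⟨ρ, e, k1, k2, k3, -, -, k4⟩ := X.c.c1 J j₀ r n h1 fun j k => ⟨(h3 j k).1, (hx j).el _ (h3 j k).2.1⟩
  obtain ⟨k, o, k5, ko, k6, k7⟩ := k4 _ fun j k => (h3 j k).2.2
  have k8 := k1.trans (rk1_le _ _ _)
  simp only [fo_eq] at hφ
  by_cases k9 : rk l (r j₀) (n j₀) + ph (n j₀) < wt ((li.map x).filterMap best)
  · omega
  rw [if_neg k9] at hφ
  rw [List.mem_singleton.1 hφ]
  have k10 := X.a.mono _ _ _ _ _ k5 subset_rfl (le_avg k3 (k2.trans (SZ_mono X.hl (b := rk l (r j₀) (n j₀) + ph (n j₀) -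
    wt ((li.map x).filterMap best)) (by omega))) k6 h5 k7)
  refine Or.inr ⟨J, o, ?_, fun k => absurd rfl k, fun k => absurd rfl k⟩
  dsimp only
  split_ifs with k11
  · rcases min_choice _ 8 with k12 | k12 <;> rw [k12]
    · exact k10
    refine X.a.gap _ _ _ k10 k11.1 (Nat.Coprime.coprime_dvd_left ko ?_) k11.2
    rw [one_mul]
    refine Nat.Coprime.prod_left fun j k => ?_
    have k13 := ((hx j).el _ (h3 j k).2.1).1
    have k14 := (h3 j k).1
    exact Nat.Coprime.mul_right ((Nat.coprime_primes k13 Nat.prime_two).2 (by omega))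
      ((Nat.coprime_primes k13 Nat.prime_three).2 (by omega))
  · exact k10

/-- **[C3]** -/
theorem boxC3 : BoxC3 := by
  intro l tw p f T M ι _ _ S _ G κ W E x X hx hM b i li hli hi hb φ hφ
  unfold rC3 at hφ
  split_ifs at hφ with h0
  swap
  · cases hφ
  split at hφ
  · cases hφ
  rename_i e he
  obtain ⟨J, j₀, r, n, h1, h2, h3, rfl, h5, h6, h7⟩ := exists_chain _ x hli he
  obtain ⟨ρ, ρ', e, y, hy, k1, k2, k3, k4, k5, -, -, k6⟩ := X.c.c3 J j₀ i r n b h1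
    (fun j k => ⟨(h3 j k).1, (hx j).el _ (h3 j k).2.1⟩) (fun k => hi (h2 i k)) h0.1
    ((hx i).card ▸ Nat.dvd_of_mod_eq_zero h0.2) hb
  obtain ⟨k, o, k7, -, k8, k9⟩ := k6 _ fun j k => (h3 j k).2.2
  have k10 := k1.trans (rk1_le _ _ _)
  have k11 : 3 ≤ g3 l := by unfold g3; split_ifs <;> omega
  simp only [fo_eq] at hφ
  generalize wt ((li.map x).filterMap best) = s at *
  generalize rmin ((li.map x).filterMap best) = r₀ at *
  generalize rk l (r j₀) (n j₀) = a at *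
  have k12 : avg (SZ l (if a + ph (n j₀) - s ≤ g3 l then min (y.2 - s) (a + ph (n j₀) - s - 1) else y.2 - s)) y.1 r₀ ∈
      (X3 l b).filterMap fun y => if y.2 < s ∨ a + ph (n j₀) ≤ s then none else
        some (avg (SZ l (if a + ph (n j₀) - s ≤ g3 l then min (y.2 - s) (a + ph (n j₀) - s - 1) else y.2 - s)) y.1 r₀) :=
    List.mem_filterMap.2 ⟨y, hy, if_neg (by omega)⟩
  split at hφ
  · rename_i k13
    rw [k13] at k12
    cases k12
  rename_i k₀ ks k13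
  rw [k13] at k12
  rw [List.mem_singleton.1 hφ]
  refine Or.inr ⟨_, o, X.a.mono _ _ _ _ _ k7 subset_rfl ((le_avg k5 (k4.trans (SZ_mono X.hl ?_)) k8 h5 k9).trans (le_foldr_max k12)),
    fun k => absurd rfl k, fun k => absurd rfl k⟩
  split_ifs <;> omega

end Cfsg.Agent.N2.Ex.Mu.Sq

private theorem dce_6be1d65a7af5 : _root_.True := by
  try have : _root_.True := by simp only [_root_.Cfsg.Agent.N2.Ex.Mu.Sq.avg.eq_1]
  try have : _root_.True := by simp only [_root_.Cfsg.Agent.N2.Ex.Mu.Sq.wt.eq_1]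
  exact _root_.True.intro
end

-- part: N2/Cl/RD/ExcE
section
prune_inst 0x2420404070e202000000009263001e66f2000190006b000169e009420dc94f618d00af21bab0131219eeb2a41078c048110001d90200000000003200411b00a0802b52029318ad0c760089809804000000000000000000000000000000000004000000000
set_option linter.all false
open scoped Cfsg.Agent.FastGrp

/-!
# N2 (S3519), defining characteristic: the rows `F₄`, `E₆`, `E₇`, `E₈`, `²E₆` (helper37)

**`row_f4`**, **`row_e6`**, **`row_e7`**, **`row_e8`**, **`row_te6`**.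
-/

set_option autoImplicit false
set_option linter.unusedSectionVars false
set_option linter.style.haveILetI false

namespace Cfsg.Agent.N2C.RD

open Matrix CoxeterSystem Cfsg.Agent.ChevalleyStructure.CoxeterGeom Cfsg.Agent.Tits.Roots Cfsg.Agent.Tits.Core
  Cfsg.Agent.Tits.Exchange Cfsg.Agent.Nodes.Reps Cfsg.Agent.Nodes.BNOf
open Cfsg.Agent.H915.LD Cfsg.Agent.KFacts.MulOdd.Inst
open Cfsg.Agent.H64.CrossChev (nd isType_F4 isType_E6 isType_E7 isType_E8 parity_E7)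
open Cfsg.Agent.Nodes.RGDChev (IsType)
open Cfsg.Lie Cfsg.Agent.ChevalleyStructure Cfsg.Agent.ChevalleyStructure.Elts
  Cfsg.Agent.ChevalleyStructure.CoxeterGeomTypes Cfsg.Agent.KFacts.MulOdd.InstChev
open Cfsg Cfsg.Geo Cfsg.Agent.N2C.RX Cfsg.Agent.N2C.RD.Rg Cfsg.Agent.H902

namespace Xc

section

variable {t : Kd} {n q p T b : ℕ} {K : Type} [Field K] [Fintype K] {P : Subgroup (GL (Fin n) K)} {G : Prop} {c f : P → ℕ}
  (M : Md0 t q p T b P G c f)
include M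

theorem b_le {X : Art.Sh} {a : ℕ} (D : Nd X p a (Soc P)) (hg : gX X p ≤ 2) : b ≤ (p ^ a) ^ (dX X + 1) := by
  refine (M.b_le D).trans ?_
  rw [pow_succ']
  exact Nat.mul_le_mul_right _ ((Nat.mul_le_mul_right _ hg).trans (two_mul_le M.prime.two_le a))

variable {E : Type} [Field E] [Fintype E] [CharP E p] {D : ChevalleyDatum} {l : ℕ} {C : CoxeterMatrix (Fin l)} (ht : IsType D l C)
  (hpar : parity D l = true) (e : Soc P ≃* D.group E) {δ : ℕ} (hb : b ≤ Fintype.card E ^ δ)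
include ht hpar e hb

theorem chev {x : ℕ}
    (hx : ∀ (_ : Finite C.Group) (J : Set (Fin l)) (i : Fin l), i ∉ J → x ≤ (WJ C.toCoxeterSystem J).index) :
    ∃ (i : Fin l) (j : ℕ), 1 ≤ j ∧ x * j ≤ n ∧ b ≤ Fintype.card K ^ (δ * j) ∧ Wt P (cartanOf D l) i := by
  have := Fact.mk M.prime
  have := M.char
  have hW : Finite C.Group := Nodes.RGDChev.finite_W ht C.toCoxeterSystem
  exact setup' (Nodes.RGDChev.rgd (K := E) ht C.toCoxeterSystem p) (Nodes.RGDChev.G1_eq_top ht C.toCoxeterSystem)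
    (fun s hs t ht' => Subtype.ext (H2.Ppd.diag_comm ht.inList hs ht')) (E := fun _ => E) (nd ht hpar E) e M (fun _ => hb) (hx hW)

theorem chev2 (hδ : δ = 79)
    (hx : ∀ (_ : Finite C.Group) (J : Set (Fin l)) (i : Fin l), i ∉ J → 24 ≤ (WJ C.toCoxeterSystem J).index)
    (ω : List (Fin l)) (L : Fin l → List (List (Fin l) × ℕ))
    (hL : ∀ i, ((pts (L i)).map (orb (cartanOf D l) (Pi.single i 1) ω)).Nodup ∧ (L i).length = 2 ∧
      ((L i).map Prod.snd).sum = 24) : G := by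
  have := Fact.mk M.prime
  have := M.char
  have hW : Finite C.Group := Nodes.RGDChev.finite_W ht C.toCoxeterSystem
  exact of_two (Nodes.RGDChev.rgd (K := E) ht C.toCoxeterSystem p) (Nodes.RGDChev.G1_eq_top ht C.toCoxeterSystem)
    (fun s hs t ht' => Subtype.ext (H2.Ppd.diag_comm ht.inList hs ht')) (E := fun _ => E) (nd ht hpar E) e M (fun _ => hb) hδ (hx hW)
    ω L hL

end

/-- Cartan matrices -/
def aF : Fin 4 → Fin 4 → ℤ := ![![2, -1, 0, 0], ![-1, 2, -2, 0], ![0, -1, 2, -1], ![0, 0, -1, 2]]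

def a6 : Fin 6 → Fin 6 → ℤ := ![![2, 0, -1, 0, 0, 0], ![0, 2, 0, -1, 0, 0], ![-1, 0, 2, -1, 0, 0], ![0, -1, -1, 2, -1, 0],
  ![0, 0, 0, -1, 2, -1], ![0, 0, 0, 0, -1, 2]]

def a7 : Fin 7 → Fin 7 → ℤ := ![![2, 0, -1, 0, 0, 0, 0], ![0, 2, 0, -1, 0, 0, 0], ![-1, 0, 2, -1, 0, 0, 0],
  ![0, -1, -1, 2, -1, 0, 0], ![0, 0, 0, -1, 2, -1, 0], ![0, 0, 0, 0, -1, 2, -1], ![0, 0, 0, 0, 0, -1, 2]]

theorem aF_eq : cartanOf chevF4 4 = aF := by decide +kernel
theorem a6_eq : cartanOf chevE6 6 = a6 := by decide +kernel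
theorem a7_eq : cartanOf chevE7 7 = a7 := by decide +kernel

/-- orbits of the Coxeter elements -/
def lF : Fin 4 → List (List (Fin 4) × ℕ) :=
  ![[([], 12), ([0, 1, 2], 12)], [([], 12), ([1], 12)], [([], 12), ([2], 12)], [([], 12), ([3, 2, 1], 12)]]

def l6 : Fin 6 → List (List (Fin 6) × ℕ) :=
  ![[([], 12), ([0, 2, 3], 12)], [([], 12), ([1, 3], 12)], [([], 12), ([2], 12)], [([], 12), ([3], 12)], [([], 12), ([4], 12)],
    [([], 12), ([5, 4, 3, 1], 12)]]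

def l7 : Fin 7 → List (List (Fin 7) × ℕ) :=
  ![[([], 18), ([0, 2, 3], 18), ([0, 2, 3, 4], 18)], [([], 18), ([1, 3], 18), ([1, 3, 2], 18)],
    [([], 18), ([2], 18), ([2, 3], 18)], [([], 18), ([3], 18), ([3, 1], 18)], [([], 18), ([4], 18), ([4, 3], 18)],
    [([], 18), ([5], 18), ([5, 4], 18)], [([], 18), ([6, 5, 4, 3, 1], 18), ([6, 5, 4, 3, 1, 2, 3], 18)]]

private noncomputable def fcK {β : Type} (x : ℕ) (k : ℕ → β) : β :=
  Nat.rec (motive := fun _ => β) (k 0) (fun n _ => k (Nat.succ n)) x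

private theorem fcK_eq {β : Type} (x : ℕ) (k : ℕ → β) : fcK x k = k x := by cases x <;> rfl

private noncomputable def stK {β : Type} (L : List ℤ) : (List ℤ → β) → β :=
  List.rec (motive := fun _ => (List ℤ → β) → β) (fun k => k []) (fun a _ ih k =>
    Int.rec (motive := fun _ => β) (fun n => fcK n fun n => ih fun t => k (Int.ofNat n :: t))
      (fun n => fcK n fun n => ih fun t => k (Int.negSucc n :: t)) a) L

private theorem stK_eq {β : Type} (L : List ℤ) : ∀ k : List ℤ → β, stK L k = k L := by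
  induction L with
  | nil => exact fun _ => rfl
  | cons a L ih =>
    intro k
    cases a with
    | ofNat n => exact (fcK_eq n fun n => stK L fun t => k (Int.ofNat n :: t)).trans (ih _)
    | negSucc n => exact (fcK_eq n fun n => stK L fun t => k (Int.negSucc n :: t)).trans (ih _)

private def tbK {l : ℕ} (c : Fin l → ℤ) : List ℤ := (List.finRange l).map c

private def fnK (l : ℕ) (L : List ℤ) : Fin l → ℤ := fun m => L.getD m 0

private theorem fnK_tbK {l : ℕ} (c : Fin l → ℤ) : fnK l (tbK c) = c := by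
  funext m
  show ((List.finRange l).map c).getD m 0 = c m
  rw [← List.ofFn_eq_map, List.getD_eq_getElem?_getD, List.getElem?_ofFn, dif_pos m.2]
  rfl

private noncomputable def goK {l : ℕ} (g : (Fin l → ℤ) → Fin l → ℤ) (n : ℕ) : List ℤ → List (List ℤ) :=
  Nat.rec (motive := fun _ => List ℤ → List (List ℤ)) (fun _ => []) (fun _ ih L => L :: stK (tbK (g (fnK l L))) ih) n

private theorem goK_eq {l : ℕ} (g : (Fin l → ℤ) → Fin l → ℤ) (n : ℕ) :
    ∀ x, goK g n (tbK x) = (List.range n).map fun j => tbK (g^[j] x) := by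
  induction n with
  | zero => exact fun _ => rfl
  | succ n ih =>
    intro x
    show tbK x :: stK (tbK (g (fnK l (tbK x)))) (goK g n) = _
    rw [stK_eq, fnK_tbK, ih, List.range_succ_eq_map, List.map_cons, List.map_map]
    rfl

private noncomputable def hsK (L : List ℤ) : ℕ :=
  List.rec (motive := fun _ => ℕ) 0 (fun a _ ih => Nat.add (Int.toNat (a + 32)) (Nat.mul 64 ih)) L

private theorem nd_of {l : ℕ} (A : Fin l → Fin l → ℤ) (c : Fin l → ℤ) (ω : List (Fin l)) (L : List (List (Fin l) × ℕ))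
    (h : ((L.flatMap fun e => stK (tbK (cv A c e.1)) (goK (fun x => cv A x ω) e.2)).map hsK).Nodup) :
    ((pts L).map (orb A c ω)).Nodup := by
  refine List.Nodup.of_map tbK ?_
  have e : ((pts L).map (orb A c ω)).map tbK =
      L.flatMap fun e => stK (tbK (cv A c e.1)) (goK (fun x => cv A x ω) e.2) := by
    delta pts
    rw [List.map_map, List.map_flatMap]
    refine List.flatMap_congr fun e _ => ?_
    rw [stK_eq, goK_eq, List.map_map]
    rfl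
  rw [e]
  exact h.of_map _

theorem lF_ok : ∀ i, ((pts (lF i)).map (orb aF (Pi.single i 1) [0, 1, 2, 3])).Nodup ∧ (lF i).length = 2 ∧
    ((lF i).map Prod.snd).sum = 24 := fun i =>
  ⟨nd_of _ _ _ _ ((by decide +kernel : ∀ i, (((lF i).flatMap fun e => stK (tbK (cv aF (Pi.single i 1) e.1))
    (goK (fun x => cv aF x [0, 1, 2, 3]) e.2)).map hsK).Nodup) i), by revert i; decide +kernel⟩

theorem lT_ok : ∀ i, ((pts (lF i)).map (orb Nodes.RGDTwE6.A (Pi.single i 1) [0, 1, 2, 3])).Nodup ∧ (lF i).length = 2 ∧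
    ((lF i).map Prod.snd).sum = 24 := fun i =>
  ⟨nd_of _ _ _ _ ((by decide +kernel : ∀ i, (((lF i).flatMap fun e => stK (tbK (cv Nodes.RGDTwE6.A (Pi.single i 1) e.1))
    (goK (fun x => cv Nodes.RGDTwE6.A x [0, 1, 2, 3]) e.2)).map hsK).Nodup) i), by revert i; decide +kernel⟩

private noncomputable def _root_.Cfsg.Agent.KOf7db644.k0 : type_of% @Decidable.decide := @(fun x0 x1 => @Decidable.rec.{1} _ @(fun x2 => @Bool) @(fun x2 => @Bool.false) @(fun x2 => @Bool.true) @x1)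
private theorem _root_.Cfsg.Agent.KOf7db644.e0 : @Decidable.decide = @_root_.Cfsg.Agent.KOf7db644.k0 := by delta _root_.Cfsg.Agent.KOf7db644.k0; rfl'
private theorem _root_.Cfsg.Agent.KOf7db644.e3.{ku, kv} {α : Type kv} {M : List α → Sort ku} (φ : ∀ l, M l) {z : M List.nil} {s : ∀ a l, M l → M (List.cons a l)} (h0 : φ List.nil = z) (hs : ∀ a l, φ (List.cons a l) = s a l (φ l)) (l : List α) : φ l = @List.rec α M z s l := List.rec h0 (fun a l ih => (hs a l).trans (congrArg (s a l) ih)) l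
private noncomputable def _root_.Cfsg.Agent.KOf7db644.k4.{ku0} : type_of% @List.decidableBAll.{ku0} := @(fun x0 x1 x2 x3 => @List.rec.{1, ku0} @x0 @(fun x4 => @Decidable ((x5 : @x0) → (@Membership.mem.{ku0, ku0} _ _ _ @x4 @x5) → @x1 @x5)) (@Decidable.isTrue _ (@List.decidableBAll._proof_1.{ku0} _ @x1)) @(fun x4 x5 x6 => @Decidable.rec.{1} _ @(fun x7 => @Decidable ((x8 : @x0) → (@Membership.mem.{ku0, ku0} _ _ _ (@x4 :: @x5) @x8) → @x1 @x8)) @(fun x7 => @Decidable.isFalse _ (@List.decidableBAll._proof_4.{ku0} _ @x1 @x4 @x5 @x7)) @(fun x7 => @Decidable.rec.{1} _ @(fun x8 => @Decidable ((x9 : @x0) → (@Membership.mem.{ku0, ku0} _ _ _ (@x4 :: @x5) @x9) → @x1 @x9)) @(fun x8 => @Decidable.isFalse _ (@List.decidableBAll._proof_3.{ku0} _ @x1 @x4 @x5 @x8)) @(fun x8 => @Decidable.isTrue _ (@List.decidableBAll._proof_2.{ku0} _ @x1 @x4 @x5 @x7 @x8)) @x6) (@x2 @x4)) @x3)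
private theorem _root_.Cfsg.Agent.KOf7db644.e4.{ku0} : @List.decidableBAll.{ku0} = @_root_.Cfsg.Agent.KOf7db644.k4.{ku0} := by delta _root_.Cfsg.Agent.KOf7db644.k4; funext a0 a1 a2 a3; refine (_root_.Cfsg.Agent.KOf7db644.e3 (fun a3 => @List.decidableBAll.{ku0} a0 a1 a2 a3) ?_ (fun c0 c1 => ?_) a3 :) <;> (rfl')
private noncomputable def _root_.Cfsg.Agent.KOf7db644.k12 : type_of% @Nat.decEq := @(fun x0 x1 => @Bool.rec.{1} @(fun x2 => (@Eq.{1} _ (@Nat.beq @x0 @x1) @x2) → @Decidable (@Eq.{1} _ @x0 @x1)) @(fun x2 => @Decidable.isFalse _ (@Nat.ne_of_beq_eq_false _ _ @x2)) @(fun x2 => @Decidable.isTrue _ (@Nat.eq_of_beq_eq_true _ _ @x2)) (@Nat.beq @x0 @x1) (@Eq.refl.{1} _ (@Nat.beq @x0 @x1)))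
private theorem _root_.Cfsg.Agent.KOf7db644.e12 : @Nat.decEq = @_root_.Cfsg.Agent.KOf7db644.k12 := by delta _root_.Cfsg.Agent.KOf7db644.k12; rfl'
private theorem _root_.Cfsg.Agent.KOf7db644.e22.{ku} {M : Nat → Sort ku} (φ : ∀ n, M n) {z : M Nat.zero} {s : ∀ n, M n → M (Nat.succ n)} (h0 : φ Nat.zero = z) (hs : ∀ n, φ (Nat.succ n) = s n (φ n)) (n : Nat) : φ n = @Nat.rec M z s n := Nat.rec h0 (fun n ih => (hs n).trans (congrArg (s n) ih)) n
private noncomputable def _root_.Cfsg.Agent.KOf7db644.k23.{ku0} : type_of% @Fin.induction.go.{ku0} := @(fun x0 x1 x2 x3 x4 x5 => @Nat.rec.{ku0} @(fun x6 => (x7 : @LT.lt.{0} _ _ @x6 (@HAdd.hAdd.{0, 0, 0} _ _ _ _ @x0 ((1 : ℕ)))) → @x1 (@Fin.mk _ @x6 @x7)) @(fun x6 => @Eq.rec.{ku0, (ku0+1)} (Sort ku0) (@x1 (@OfNat.ofNat.{0} _ (nat_lit 0) _)) @(fun x7 x8 => @x7) @x2 (@x1 (@Fin.mk _ ((0 : ℕ)) @x6)) (@Eq.symm.{(ku0+1)} _ _ _ (@Fin.induction.go._proof_1.{ku0} _ _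 @x6))) @(fun x6 x7 x8 => @x3 (@Fin.mk _ @x6 (@Nat.lt_of_succ_lt_succ _ _ @x8)) (@x7 (@Fin.induction.go._proof_2 _ @x6 @x8))) @x4 @x5)
private theorem _root_.Cfsg.Agent.KOf7db644.e23.{ku0} : @Fin.induction.go.{ku0} = @_root_.Cfsg.Agent.KOf7db644.k23.{ku0} := by delta _root_.Cfsg.Agent.KOf7db644.k23; funext a0 a1 a2 a3 a4 a5; refine (congrFun (_root_.Cfsg.Agent.KOf7db644.e22 (fun a4 a5 => @Fin.induction.go.{ku0} a0 a1 a2 a3 a4 a5) ?_ (fun c0 => ?_) a4) a5 :) <;> (rfl')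
private noncomputable def _root_.Cfsg.Agent.KOf7db644.k24.{ku0} : type_of% @Fin.induction.{ku0} := @(fun x0 x1 x2 x3 x4 => @Fin.rec.{ku0} (@Nat.add @x0 (nat_lit 1)) @(fun x5 => @x1 @x5) @(fun x5 x6 => @Cfsg.Agent.KOf7db644.k23.{ku0} _ _ @x2 @x3 @x5 @x6) @x4)
private theorem _root_.Cfsg.Agent.KOf7db644.e24.{ku0} : @Fin.induction.{ku0} = @_root_.Cfsg.Agent.KOf7db644.k24.{ku0} := by delta _root_.Cfsg.Agent.KOf7db644.k24; rewrite [← Cfsg.Agent.KOf7db644.e23.{ku0}]; rfl'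
private noncomputable def _root_.Cfsg.Agent.KOf7db644.k25.{ku0} : type_of% @Fin.cases.{ku0} := @(fun x0 x1 x2 x3 x4 => @Cfsg.Agent.KOf7db644.k24.{ku0} _ @(fun x5 => @x1 @x5) @x2 @(fun x5 x6 => @x3 @x5) @x4)
private theorem _root_.Cfsg.Agent.KOf7db644.e25.{ku0} : @Fin.cases.{ku0} = @_root_.Cfsg.Agent.KOf7db644.k25.{ku0} := by delta _root_.Cfsg.Agent.KOf7db644.k25; rewrite [← Cfsg.Agent.KOf7db644.e24.{ku0}]; rfl'
private noncomputable def _root_.Cfsg.Agent.KOf7db644.k26.{ku0} : type_of% @Fin.cons.{ku0} := @(fun x0 x1 x2 x3 x4 => @Cfsg.Agent.KOf7db644.k25.{ku0} _ @(fun x5 => @x1 @x5) @x2 @x3 @x4)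
private theorem _root_.Cfsg.Agent.KOf7db644.e26.{ku0} : @Fin.cons.{ku0} = @_root_.Cfsg.Agent.KOf7db644.k26.{ku0} := by delta _root_.Cfsg.Agent.KOf7db644.k26; rewrite [← Cfsg.Agent.KOf7db644.e25.{ku0}]; rfl'
private noncomputable def _root_.Cfsg.Agent.KOf7db644.k27.{ku0} : type_of% @Fin.elim0.{ku0} := @(fun x0 x1 => @Fin.rec.{ku0} (nat_lit 0) @(fun x2 => @x0) @(fun x2 x3 => @False.rec.{ku0} @(fun x4 => @x0) (@Nat.not_lt_zero @x2 @x3)) @x1)
private theorem _root_.Cfsg.Agent.KOf7db644.e27.{ku0} : @Fin.elim0.{ku0} = @_root_.Cfsg.Agent.KOf7db644.k27.{ku0} := by delta _root_.Cfsg.Agent.KOf7db644.k27; rfl'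
private noncomputable def _root_.Cfsg.Agent.KOf7db644.k28 : (by first | exact type_of% @Cfsg.Agent.N2C.RD.Xc.a6 | exact Unit : Sort _) := by first | (refine @Subtype.val _ (fun g => @Cfsg.Agent.N2C.RD.Xc.a6 = @g) (@Subtype.mk _ _ (@Cfsg.Agent.KOf7db644.k26.{1} _ @(fun x0 => (@Fin ((6 : ℕ))) → ℤ) (@Cfsg.Agent.KOf7db644.k26.{1} _ @(fun x0 => ℤ) (@Int.ofNat (nat_lit 2)) (@Cfsg.Agent.KOf7db644.k26.{1} _ @(fun x0 => ℤ) (@Int.ofNat (nat_lit 0)) (@Cfsg.Agent.KOf7db644.k26.{1} _ @(fun x0 => ℤ) (@Nat.rec.{1} @(fun x0 => ℤ) (@Int.ofNat (nat_lit 0)) @(fun x0 x1 => @Int.negSucc @x0) (nat_lit 1)) (@Cfsg.Agent.KOf7db644.k26.{1} _ @(fun x0 => ℤ) (@Int.ofNat (nat_lit 0)) (@Cfsg.Agent.KOf7db644.k26.{1} _ @(fun x0 => ℤ) (@Int.ofNat (nat_lit 0)) (@Cfsg.Agent.KOf7db644.k26.{1} _ @(fun x0 => ℤ) (@Int.ofNat (nat_lit 0)) (@Cfsg.Agent.KOf7db644.k27.{1} _))))))) (@Cfsg.Agent.KOf7db644.k26.{1} _ @(fun x0 => (@Fin ((6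 : ℕ))) → ℤ) (@Cfsg.Agent.KOf7db644.k26.{1} _ @(fun x0 => ℤ) (@Int.ofNat (nat_lit 0)) (@Cfsg.Agent.KOf7db644.k26.{1} _ @(fun x0 => ℤ) (@Int.ofNat (nat_lit 2)) (@Cfsg.Agent.KOf7db644.k26.{1} _ @(fun x0 => ℤ) (@Int.ofNat (nat_lit 0)) (@Cfsg.Agent.KOf7db644.k26.{1} _ @(fun x0 => ℤ) (@Nat.rec.{1} @(fun x0 => ℤ) (@Int.ofNat (nat_lit 0)) @(fun x0 x1 => @Int.negSucc @x0) (nat_lit 1)) (@Cfsg.Agent.KOf7db644.k26.{1} _ @(fun x0 => ℤ) (@Int.ofNat (nat_lit 0)) (@Cfsg.Agent.KOf7db644.k26.{1} _ @(fun x0 => ℤ) (@Int.ofNat (nat_lit 0)) (@Cfsg.Agent.KOf7db644.k27.{1} _))))))) (@Cfsg.Agent.KOf7db644.k26.{1} _ @(fun x0 => (@Fin ((6 : ℕ))) → ℤ) (@Cfsg.Agent.KOf7db644.k26.{1} _ @(fun x0 => ℤ) (@Nat.rec.{1} @(fun x0 => ℤ) (@Int.ofNat (nat_lit 0)) @(fun x0 x1 => @Int.negSucc @x0) (nat_lit 1)) (@Cfsg.Agent.KOf7db644.k26.{1} _ @(fun x0 => ℤ) (@Int.ofNat (nat_lit 0)) (@Cfsg.Agent.KOf7db644.k26.{1} _ @(fun x0 => ℤ) (@Int.ofNat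 (nat_lit 2)) (@Cfsg.Agent.KOf7db644.k26.{1} _ @(fun x0 => ℤ) (@Nat.rec.{1} @(fun x0 => ℤ) (@Int.ofNat (nat_lit 0)) @(fun x0 x1 => @Int.negSucc @x0) (nat_lit 1)) (@Cfsg.Agent.KOf7db644.k26.{1} _ @(fun x0 => ℤ) (@Int.ofNat (nat_lit 0)) (@Cfsg.Agent.KOf7db644.k26.{1} _ @(fun x0 => ℤ) (@Int.ofNat (nat_lit 0)) (@Cfsg.Agent.KOf7db644.k27.{1} _))))))) (@Cfsg.Agent.KOf7db644.k26.{1} _ @(fun x0 => (@Fin ((6 : ℕ))) → ℤ) (@Cfsg.Agent.KOf7db644.k26.{1} _ @(fun x0 => ℤ) (@Int.ofNat (nat_lit 0)) (@Cfsg.Agent.KOf7db644.k26.{1} _ @(fun x0 => ℤ) (@Nat.rec.{1} @(fun x0 => ℤ) (@Int.ofNat (nat_lit 0)) @(fun x0 x1 => @Int.negSucc @x0) (nat_lit 1)) (@Cfsg.Agent.KOf7db644.k26.{1} _ @(fun x0 => ℤ) (@Nat.rec.{1} @(fun x0 => ℤ) (@Int.ofNat (nat_lit 0)) @(fun x0 x1 => @Int.negSucc @x0) (nat_lit 1)) (@Cfsg.Agent.KOf7db644.k26.{1} _ @(fun x0 => ℤ) (@Int.ofNat (nat_lit 2)) (@Cfsg.Agent.KOf7db644.k26.{1} _ @(fun x0 => ℤ)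 (@Nat.rec.{1} @(fun x0 => ℤ) (@Int.ofNat (nat_lit 0)) @(fun x0 x1 => @Int.negSucc @x0) (nat_lit 1)) (@Cfsg.Agent.KOf7db644.k26.{1} _ @(fun x0 => ℤ) (@Int.ofNat (nat_lit 0)) (@Cfsg.Agent.KOf7db644.k27.{1} _))))))) (@Cfsg.Agent.KOf7db644.k26.{1} _ @(fun x0 => (@Fin ((6 : ℕ))) → ℤ) (@Cfsg.Agent.KOf7db644.k26.{1} _ @(fun x0 => ℤ) (@Int.ofNat (nat_lit 0)) (@Cfsg.Agent.KOf7db644.k26.{1} _ @(fun x0 => ℤ) (@Int.ofNat (nat_lit 0)) (@Cfsg.Agent.KOf7db644.k26.{1} _ @(fun x0 => ℤ) (@Int.ofNat (nat_lit 0)) (@Cfsg.Agent.KOf7db644.k26.{1} _ @(fun x0 => ℤ) (@Nat.rec.{1} @(fun x0 => ℤ) (@Int.ofNat (nat_lit 0)) @(fun x0 x1 => @Int.negSucc @x0) (nat_lit 1)) (@Cfsg.Agent.KOf7db644.k26.{1} _ @(fun x0 => ℤ) (@Int.ofNat (nat_lit 2)) (@Cfsg.Agent.KOf7db644.k26.{1} _ @(fun x0 => ℤ) (@Nat.rec.{1} @(fun x0 => ℤ) (@Int.ofNat (nat_lit 0)) @(fun x0 x1 => @Int.negSucc @x0) (nat_lit 1)) (@Cfsg.Agent.KOf7db644.k27.{1} _)))))))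 (@Cfsg.Agent.KOf7db644.k26.{1} _ @(fun x0 => (@Fin ((6 : ℕ))) → ℤ) (@Cfsg.Agent.KOf7db644.k26.{1} _ @(fun x0 => ℤ) (@Int.ofNat (nat_lit 0)) (@Cfsg.Agent.KOf7db644.k26.{1} _ @(fun x0 => ℤ) (@Int.ofNat (nat_lit 0)) (@Cfsg.Agent.KOf7db644.k26.{1} _ @(fun x0 => ℤ) (@Int.ofNat (nat_lit 0)) (@Cfsg.Agent.KOf7db644.k26.{1} _ @(fun x0 => ℤ) (@Int.ofNat (nat_lit 0)) (@Cfsg.Agent.KOf7db644.k26.{1} _ @(fun x0 => ℤ) (@Nat.rec.{1} @(fun x0 => ℤ) (@Int.ofNat (nat_lit 0)) @(fun x0 x1 => @Int.negSucc @x0) (nat_lit 1)) (@Cfsg.Agent.KOf7db644.k26.{1} _ @(fun x0 => ℤ) (@Int.ofNat (nat_lit 2)) (@Cfsg.Agent.KOf7db644.k27.{1} _))))))) (@Cfsg.Agent.KOf7db644.k27.{1} _))))))) ?_); rewrite [← Cfsg.Agent.KOf7db644.e27.{1}, ← Cfsg.Agent.KOf7db644.e26.{1}]; rfl') | exact @Cfsg.Agent.N2C.RD.Xc.a6 | exact ()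
private theorem _root_.Cfsg.Agent.KOf7db644.e28 : (by first | exact @Cfsg.Agent.N2C.RD.Xc.a6 = @_root_.Cfsg.Agent.KOf7db644.k28 | exact True : Prop) := by first | (delta _root_.Cfsg.Agent.KOf7db644.k28; exact @Subtype.property _ (fun g => @Cfsg.Agent.N2C.RD.Xc.a6 = @g) _) | rfl | trivial
private noncomputable def _root_.Cfsg.Agent.KOf7db644.k30l (n : Nat) (P : ∀ k, k < n → Prop) (H : ∀ k h, Decidable (P k h)) (m : Nat) : m ≤ n → Bool := @Nat.rec (fun m => m ≤ n → Bool) (fun _ => true) (fun k ih h => @Decidable.rec (P k h) (fun _ => Bool) (fun _ => false) (fun _ => ih (Nat.le_of_succ_le h)) (H k h)) m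
private theorem _root_.Cfsg.Agent.KOf7db644.k30ls (n : Nat) (P : ∀ k, k < n → Prop) (H : ∀ k h, Decidable (P k h)) (m : Nat) : ∀ h : m ≤ n, _root_.Cfsg.Agent.KOf7db644.k30l n P H m h = true ↔ ∀ k (g : k < m), P k (Nat.lt_of_lt_of_le g h) := by induction m with | zero => exact fun _ => ⟨fun _ _ g => absurd g (Nat.not_lt_zero _), fun _ => rfl⟩ | succ m ih => intro h; show @Decidable.rec (P m h) (fun _ => Bool) (fun _ => false) (fun _ => _root_.Cfsg.Agent.KOf7db644.k30l n P H m (Nat.le_of_succ_le h)) (H m h) = true ↔ _; cases H m h with | isFalse q => exact ⟨fun g => absurd g Bool.false_ne_true, fun g => absurd (g m (Nat.lt_succ_self m)) q⟩ | isTrue q => exact ⟨fun g k hk => (Nat.lt_succ_iff_lt_or_eq.1 hk).elim ((ih _).1 g k) fun e => by subst e; exact q, fun g => (ih _).2 fun k hk => g k (Nat.lt_succ_of_lt hk)⟩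
private noncomputable def _root_.Cfsg.Agent.KOf7db644.k30 (n : Nat) (P : ∀ k, k < n → Prop) (H : ∀ k h, Decidable (P k h)) : Decidable (∀ k h, P k h) := @Bool.rec (fun b => _root_.Cfsg.Agent.KOf7db644.k30l n P H n (Nat.le_refl n) = b → Decidable (∀ k h, P k h)) (fun g => isFalse fun q => Bool.false_ne_true (g.symm.trans ((_root_.Cfsg.Agent.KOf7db644.k30ls n P H n _).2 fun k h => q k h))) (fun g => isTrue fun k h => (_root_.Cfsg.Agent.KOf7db644.k30ls n P H n _).1 g k h) (_root_.Cfsg.Agent.KOf7db644.k30l n P H n (Nat.le_refl n)) rfl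
private theorem _root_.Cfsg.Agent.KOf7db644.e30 : @Nat.decidableBallLT = @_root_.Cfsg.Agent.KOf7db644.k30 := funext fun _ => funext fun _ => funext fun _ => Subsingleton.elim _ _
private noncomputable def _root_.Cfsg.Agent.KOf7db644.k31 : type_of% @Nat.decidableForallFin := @(fun x0 x1 x2 => @Decidable.rec.{1} _ @(fun x3 => @Decidable ((x4 : @Fin @x0) → @x1 @x4)) @(fun x3 => @Decidable.isFalse _ (@decidable_of_decidable_of_iff._proof_1 _ _ (@Nat.decidableForallFin._proof_1 _ @x1) @x3)) @(fun x3 => @Decidable.isTrue _ (@Iff.mp _ _ (@Nat.decidableForallFin._proof_1 _ @x1) @x3)) (@Cfsg.Agent.KOf7db644.k30 @x0 @(fun x3 x4 => @x1 (@Fin.mk _ @x3 @x4)) @(fun x3 x4 => @x2 (@Fin.mk _ @x3 @x4))))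
private theorem _root_.Cfsg.Agent.KOf7db644.e31 : @Nat.decidableForallFin = @_root_.Cfsg.Agent.KOf7db644.k31 := by delta _root_.Cfsg.Agent.KOf7db644.k31; rewrite [← Cfsg.Agent.KOf7db644.e30]; rfl'
private noncomputable def _root_.Cfsg.Agent.KOf7db644.k32.{ku0} : type_of% @List.instDecidablePairwise.{ku0} := @(fun x0 x1 x2 x3 => @List.rec.{1, ku0} @x0 @(fun x4 => @Decidable (@List.Pairwise.{ku0} _ @x1 @x4)) (@Decidable.isTrue _ (@List.Pairwise.nil.{ku0} _ _)) @(fun x4 x5 x6 => @Decidable.rec.{1} _ @(fun x7 => @Decidable (@List.Pairwise.{ku0} _ @x1 (@x4 :: @x5))) @(fun x7 => @Decidable.isFalse _ (@List.instDecidablePairwise._proof_3.{ku0} _ _ @x4 @x5 @x7)) @(fun x7 => @Decidable.rec.{1} _ @(fun x8 => @Decidable (@List.Pairwise.{ku0} _ @x1 (@x4 :: @x5))) @(fun x8 => @Decidable.isFalse _ (@List.instDecidablePairwise._proof_1.{ku0} _ _ @x4 @x5 @x8)) @(fun x8 => @Decidable.isTrue _ (@List.instDecidablePairwise._proof_2.{ku0}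 _ _ @x4 @x5 @x7 @x8)) (@Cfsg.Agent.KOf7db644.k4.{ku0} _ (@x1 @x4) (@x2 @x4) @x5)) @x6) @x3)
private theorem _root_.Cfsg.Agent.KOf7db644.e32.{ku0} : @List.instDecidablePairwise.{ku0} = @_root_.Cfsg.Agent.KOf7db644.k32.{ku0} := by delta _root_.Cfsg.Agent.KOf7db644.k32; rewrite [← Cfsg.Agent.KOf7db644.e4.{ku0}]; funext a0 a1 a2 a3; refine (_root_.Cfsg.Agent.KOf7db644.e3 (fun a3 => @List.instDecidablePairwise.{ku0} a0 a1 a2 a3) ?_ (fun c0 c1 => ?_) a3 :) <;> (rfl')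
private noncomputable def _root_.Cfsg.Agent.KOf7db644.k33.{ku0} : type_of% @List.nodupDecidable.{ku0} := @(fun x0 x1 => @Cfsg.Agent.KOf7db644.k32.{ku0} _ @(fun x2 x3 => @Ne.{(ku0+1)} _ @x2 @x3) @(fun x2 x3 => @Decidable.rec.{1} _ @(fun x4 => @Decidable (¬ (@Eq.{(ku0+1)} _ @x2 @x3))) @(fun x4 => @Decidable.isTrue _ @x4) @(fun x4 => @Decidable.isFalse _ (@absurd.{0} _ _ @x4)) (@x1 @x2 @x3)))
private theorem _root_.Cfsg.Agent.KOf7db644.e33.{ku0} : @List.nodupDecidable.{ku0} = @_root_.Cfsg.Agent.KOf7db644.k33.{ku0} := by delta _root_.Cfsg.Agent.KOf7db644.k33; rewrite [← Cfsg.Agent.KOf7db644.e32.{ku0}]; rfl'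
private noncomputable def _root_.Cfsg.Agent.KOf7db644.k34 : type_of% @instDecidableEqNat := @Cfsg.Agent.KOf7db644.k12
private theorem _root_.Cfsg.Agent.KOf7db644.e34 : @instDecidableEqNat = @_root_.Cfsg.Agent.KOf7db644.k34 := by delta _root_.Cfsg.Agent.KOf7db644.k34; rewrite [← Cfsg.Agent.KOf7db644.e12]; rfl'
private noncomputable def _root_.Cfsg.Agent.KOf7db644.k35.{ku0, ku1} : type_of% @List.map.{ku0, ku1} := @(fun x0 x1 x2 x3 => @List.rec.{(ku1+1), ku0} @x0 @(fun x4 => @List.{ku1} @x1) [] @(fun x4 x5 x6 => (@x2 @x4) :: @x6) @x3)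
private theorem _root_.Cfsg.Agent.KOf7db644.e35.{ku0, ku1} : @List.map.{ku0, ku1} = @_root_.Cfsg.Agent.KOf7db644.k35.{ku0, ku1} := by delta _root_.Cfsg.Agent.KOf7db644.k35; funext a0 a1 a2 a3; refine (_root_.Cfsg.Agent.KOf7db644.e3 (fun a3 => @List.map.{ku0, ku1} a0 a1 a2 a3) ?_ (fun c0 c1 => ?_) a3 :) <;> (rfl')
private noncomputable def _root_.Cfsg.Agent.KOf7db644.k36 : type_of% @Int.add := @(fun x0 x1 => @Int.rec.{1} @(fun x2 => ℤ) @(fun x2 => @Int.rec.{1} @(fun x3 => ℤ) @(fun x3 => @Int.ofNat (@Nat.add @x2 @x3)) @(fun x3 => @Nat.rec.{1} @(fun x4 => ℤ) (@Int.ofNat (@Nat.sub @x2 (@Nat.succ @x3))) @(fun x4 x5 => @Int.negSucc @x4) (@Nat.sub (@Nat.succ @x3) @x2)) @x1) @(fun x2 => @Int.rec.{1} @(fun x3 => ℤ) @(fun x3 => @Nat.rec.{1} @(fun x4 => ℤ) (@Int.ofNat (@Nat.sub @x3 (@Nat.succ @x2))) @(fun x4 x5 => @Int.negSucc @x4) (@Nat.sub (@Nat.succ @x2) @x3)) @(fun x3 => @Int.negSucc (@Nat.succ (@Nat.add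 @x2 @x3))) @x1) @x0)
private theorem _root_.Cfsg.Agent.KOf7db644.e36 : @Int.add = @_root_.Cfsg.Agent.KOf7db644.k36 := by delta _root_.Cfsg.Agent.KOf7db644.k36; rfl'
private noncomputable def _root_.Cfsg.Agent.KOf7db644.k37 : (by first | exact type_of% @Cfsg.Agent.N2C.RD.Xc.hsK | exact Unit : Sort _) := by first | (refine @Subtype.val _ (fun g => @Cfsg.Agent.N2C.RD.Xc.hsK = @g) (@Subtype.mk _ _ (@(fun x0 => @List.rec.{1, 0} ℤ @(fun x1 => ℕ) (nat_lit 0) @(fun x1 x2 x3 => @Nat.add (@Int.rec.{1} @(fun x4 => ℕ) @(fun x4 => @x4) @(fun x4 => nat_lit 0) (@Cfsg.Agent.KOf7db644.k36 @x1 (@Int.ofNat (nat_lit 32)))) (@Nat.mul (nat_lit 64) @x3)) @x0)) ?_); rewrite [← Cfsg.Agent.KOf7db644.e36]; rfl') | exact @Cfsg.Agent.N2C.RD.Xc.hsK | exact ()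
private theorem _root_.Cfsg.Agent.KOf7db644.e37 : (by first | exact @Cfsg.Agent.N2C.RD.Xc.hsK = @_root_.Cfsg.Agent.KOf7db644.k37 | exact True : Prop) := by first | (delta _root_.Cfsg.Agent.KOf7db644.k37; exact @Subtype.property _ (fun g => @Cfsg.Agent.N2C.RD.Xc.hsK = @g) _) | rfl | trivial
private noncomputable def _root_.Cfsg.Agent.KOf7db644.k38.{ku0} : type_of% @List.append.{ku0} := @(fun x0 x1 x2 => @List.rec.{(ku0+1), ku0} @x0 @(fun x3 => (@List.{ku0} @x0) → @List.{ku0} @x0) @(fun x3 => @x3) @(fun x3 x4 x5 x6 => @x3 :: (@x5 @x6)) @x1 @x2)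
private theorem _root_.Cfsg.Agent.KOf7db644.e38.{ku0} : @List.append.{ku0} = @_root_.Cfsg.Agent.KOf7db644.k38.{ku0} := by delta _root_.Cfsg.Agent.KOf7db644.k38; funext a0 a1 a2; refine (congrFun (_root_.Cfsg.Agent.KOf7db644.e3 (fun a1 a2 => @List.append.{ku0} a0 a1 a2) ?_ (fun c0 c1 => ?_) a1) a2 :) <;> (rfl')
private noncomputable def _root_.Cfsg.Agent.KOf7db644.k39.{ku0} : type_of% @List.flatten.{ku0} := @(fun x0 x1 => @List.rec.{(ku0+1), ku0} (@List.{ku0} @x0) @(fun x2 => @List.{ku0} @x0) [] @(fun x2 x3 x4 => @Cfsg.Agent.KOf7db644.k38.{ku0} _ @x2 @x4) @x1)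
private theorem _root_.Cfsg.Agent.KOf7db644.e39.{ku0} : @List.flatten.{ku0} = @_root_.Cfsg.Agent.KOf7db644.k39.{ku0} := by delta _root_.Cfsg.Agent.KOf7db644.k39; rewrite [← Cfsg.Agent.KOf7db644.e38.{ku0}]; funext a0 a1; refine (_root_.Cfsg.Agent.KOf7db644.e3 (fun a1 => @List.flatten.{ku0} a0 a1) ?_ (fun c0 c1 => ?_) a1 :) <;> (rfl')
private noncomputable def _root_.Cfsg.Agent.KOf7db644.k40.{ku0, ku1} : type_of% @List.flatMap.{ku0, ku1} := @(fun x0 x1 x2 x3 => @Cfsg.Agent.KOf7db644.k39.{ku1} _ (@Cfsg.Agent.KOf7db644.k35.{ku0, ku1} _ _ @x2 @x3))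
private theorem _root_.Cfsg.Agent.KOf7db644.e40.{ku0, ku1} : @List.flatMap.{ku0, ku1} = @_root_.Cfsg.Agent.KOf7db644.k40.{ku0, ku1} := by delta _root_.Cfsg.Agent.KOf7db644.k40; rewrite [← Cfsg.Agent.KOf7db644.e35.{ku0, ku1}, ← Cfsg.Agent.KOf7db644.e39.{ku1}]; rfl'
private noncomputable def _root_.Cfsg.Agent.KOf7db644.k41 : (by first | exact type_of% @Cfsg.Agent.N2C.RD.Xc.fcK | exact Unit : Sort _) := by first | (refine @Subtype.val _ (fun g => @Cfsg.Agent.N2C.RD.Xc.fcK = @g) (@Subtype.mk _ _ (@(fun x0 x1 x2 => @Nat.rec.{1} @(fun x3 => @x0) (@x2 (nat_lit 0)) @(fun x3 x4 => @x2 (@Nat.succ @x3)) @x1)) ?_); rfl') | exact @Cfsg.Agent.N2C.RD.Xc.fcK | exact ()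
private theorem _root_.Cfsg.Agent.KOf7db644.e41 : (by first | exact @Cfsg.Agent.N2C.RD.Xc.fcK = @_root_.Cfsg.Agent.KOf7db644.k41 | exact True : Prop) := by first | (delta _root_.Cfsg.Agent.KOf7db644.k41; exact @Subtype.property _ (fun g => @Cfsg.Agent.N2C.RD.Xc.fcK = @g) _) | rfl | trivial
private noncomputable def _root_.Cfsg.Agent.KOf7db644.k42 : (by first | exact type_of% @Cfsg.Agent.N2C.RD.Xc.stK | exact Unit : Sort _) := by first | (refine @Subtype.val _ (fun g => @Cfsg.Agent.N2C.RD.Xc.stK = @g) (@Subtype.mk _ _ (@(fun x0 x1 => @List.rec.{1, 0} ℤ @(fun x2 => ((@List.{0} ℤ) → @x0) → @x0) @(fun x2 => @x2 []) @(fun x2 x3 x4 x5 => @Int.rec.{1} @(fun x6 => @x0) @(fun x6 => @Cfsg.Agent.KOf7db644.k41 _ @x6 @(fun x7 => @x4 @(fun x8 => @x5 ((@Int.ofNat @x7) :: @x8)))) @(fun x6 => @Cfsg.Agent.KOf7db644.k41 _ @x6 @(fun x7 => @x4 @(fun x8 => @x5 ((@Int.negSucc @x7) :: @x8)))) @x2) @x1)) ?_); rewrite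 [← Cfsg.Agent.KOf7db644.e41]; (try delta Cfsg.Agent.N2C.RD.Xc.stK); (try generalize @Cfsg.Agent.N2C.RD.Xc.fcK = g0); rfl') | exact @Cfsg.Agent.N2C.RD.Xc.stK | exact ()
private theorem _root_.Cfsg.Agent.KOf7db644.e42 : (by first | exact @Cfsg.Agent.N2C.RD.Xc.stK = @_root_.Cfsg.Agent.KOf7db644.k42 | exact True : Prop) := by first | (delta _root_.Cfsg.Agent.KOf7db644.k42; exact @Subtype.property _ (fun g => @Cfsg.Agent.N2C.RD.Xc.stK = @g) _) | rfl | trivial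
private noncomputable def _root_.Cfsg.Agent.KOf7db644.k43.{ku0} : type_of% @Fin.foldr.loop.{ku0} := @(fun x0 x1 x2 x3 x4 x5 => @Nat.rec.{ku0} @(fun x6 => (@LE.le.{0} _ _ @x6 @x1) → @x0 → @x0) @(fun x6 x7 => @x7) @(fun x6 x7 x8 x9 => @x7 (@Nat.le_of_lt _ _ @x8) (@x2 (@Fin.mk _ @x6 @x8) @x9)) @x3 @x4 @x5)
private theorem _root_.Cfsg.Agent.KOf7db644.e43.{ku0} : @Fin.foldr.loop.{ku0} = @_root_.Cfsg.Agent.KOf7db644.k43.{ku0} := by delta _root_.Cfsg.Agent.KOf7db644.k43; funext a0 a1 a2 a3 a4 a5; refine (congrFun (congrFun (_root_.Cfsg.Agent.KOf7db644.e22 (fun a3 a4 a5 => @Fin.foldr.loop.{ku0} a0 a1 a2 a3 a4 a5) ?_ (fun c0 => ?_) a3) a4) a5 :) <;> (rfl')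
private noncomputable def _root_.Cfsg.Agent.KOf7db644.k44 : (by first | exact type_of% @Cfsg.Agent.N2C.RD.Xc.tbK | exact Unit : Sort _) := by first | (refine @Subtype.val _ (fun g => @Cfsg.Agent.N2C.RD.Xc.tbK = @g) (@Subtype.mk _ _ (@(fun x0 x1 => @Cfsg.Agent.KOf7db644.k35.{0, 0} _ _ @x1 (@Cfsg.Agent.KOf7db644.k43.{1} _ @x0 @(fun x2 x3 => @x2 :: @x3) @x0 (@Nat.le_refl @x0) []))) ?_); rewrite [← Cfsg.Agent.KOf7db644.e43.{1}, ← Cfsg.Agent.KOf7db644.e35.{0, 0}]; rfl') | exact @Cfsg.Agent.N2C.RD.Xc.tbK | exact ()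
private theorem _root_.Cfsg.Agent.KOf7db644.e44 : (by first | exact @Cfsg.Agent.N2C.RD.Xc.tbK = @_root_.Cfsg.Agent.KOf7db644.k44 | exact True : Prop) := by first | (delta _root_.Cfsg.Agent.KOf7db644.k44; exact @Subtype.property _ (fun g => @Cfsg.Agent.N2C.RD.Xc.tbK = @g) _) | rfl | trivial
private noncomputable def _root_.Cfsg.Agent.KOf7db644.k45.{ku0, ku1} : type_of% @List.foldl.{ku0, ku1} := @(fun x0 x1 x2 x3 x4 => @List.rec.{(ku0+1), ku1} @x1 @(fun x5 => @x0 → @x0) @(fun x5 => @x5) @(fun x5 x6 x7 x8 => @x7 (@x2 @x8 @x5)) @x4 @x3)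
private theorem _root_.Cfsg.Agent.KOf7db644.e45.{ku0, ku1} : @List.foldl.{ku0, ku1} = @_root_.Cfsg.Agent.KOf7db644.k45.{ku0, ku1} := by delta _root_.Cfsg.Agent.KOf7db644.k45; funext a0 a1 a2 a3 a4; refine (congrFun (_root_.Cfsg.Agent.KOf7db644.e3 (fun a4 a3 => @List.foldl.{ku0, ku1} a0 a1 a2 a3 a4) ?_ (fun c0 c1 => ?_) a4) a3 :) <;> (rfl')
private noncomputable def _root_.Cfsg.Agent.KOf7db644.k46 : type_of% @Int.mul := @(fun x0 x1 => @Int.rec.{1} @(fun x2 => ℤ) @(fun x2 => @Int.rec.{1} @(fun x3 => ℤ) @(fun x3 => @Int.ofNat (@Nat.mul @x2 @x3)) @(fun x3 => @Nat.rec.{1} @(fun x4 => ℤ) (@Int.ofNat (nat_lit 0)) @(fun x4 x5 => @Int.negSucc @x4) (@Nat.mul @x2 (@Nat.succ @x3))) @x1) @(fun x2 => @Int.rec.{1} @(fun x3 => ℤ) @(fun x3 => @Nat.rec.{1} @(fun x4 => ℤ) (@Int.ofNat (nat_lit 0)) @(fun x4 x5 => @Int.negSucc @x4) (@Nat.mul (@Nat.succ @x2) @x3)) @(fun x3 => @Int.ofNat (@Nat.mul (@Nat.succ @x2)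 (@Nat.succ @x3))) @x1) @x0)
private theorem _root_.Cfsg.Agent.KOf7db644.e46 : @Int.mul = @_root_.Cfsg.Agent.KOf7db644.k46 := by delta _root_.Cfsg.Agent.KOf7db644.k46; rfl'
private noncomputable def _root_.Cfsg.Agent.KOf7db644.k47.{ku0} : (by first | exact type_of% @Cfsg.Agent.H905.DC.fire.{ku0} | exact Unit : Sort _) := by first | (refine @Subtype.val _ (fun g => @Cfsg.Agent.H905.DC.fire.{ku0} = @g) (@Subtype.mk _ _ (@(fun x0 x1 x2 x3 x4 => @Cfsg.Agent.KOf7db644.k36 (@x2 @x4) (@Int.rec.{1} @(fun x5 => ℤ) @(fun x5 => @Nat.rec.{1} @(fun x6 => ℤ) (@Int.ofNat (nat_lit 0)) @(fun x6 x7 => @Int.negSucc @x6) @x5) @(fun x5 => @Int.ofNat (@Nat.succ @x5)) (@Cfsg.Agent.KOf7db644.k46 (@x1 @x3 @x4) (@x2 @x3))))) ?_); rewrite [← Cfsg.Agent.KOf7db644.e46, ← Cfsg.Agent.KOf7db644.e36]; rfl') | exact @Cfsg.Agent.H905.DC.fire.{ku0} | exact ()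
private theorem _root_.Cfsg.Agent.KOf7db644.e47.{ku0} : (by first | exact @Cfsg.Agent.H905.DC.fire.{ku0} = @_root_.Cfsg.Agent.KOf7db644.k47.{ku0} | exact True : Prop) := by first | (delta _root_.Cfsg.Agent.KOf7db644.k47; exact @Subtype.property _ (fun g => @Cfsg.Agent.H905.DC.fire.{ku0} = @g) _) | rfl | trivial
private noncomputable def _root_.Cfsg.Agent.KOf7db644.k48.{ku0} : (by first | exact type_of% @Cfsg.Agent.N2C.RD.Rg.cv.{ku0} | exact Unit : Sort _) := by first | (refine @Subtype.val _ (fun g => @Cfsg.Agent.N2C.RD.Rg.cv.{ku0} = @g) (@Subtype.mk _ _ (@(fun x0 x1 x2 x3 => @Cfsg.Agent.KOf7db644.k45.{ku0, ku0} _ _ (@Cfsg.Agent.KOf7db644.k47.{ku0} _ @x1) @x2 @x3)) ?_); rewrite [← Cfsg.Agent.KOf7db644.e47.{ku0}, ← Cfsg.Agent.KOf7db644.e45.{ku0, ku0}]; (try delta Cfsg.Agent.N2C.RD.Rg.cv); (try generalize @Cfsg.Agent.H905.DC.fire.{ku0} = g0); rfl') | exact @Cfsg.Agent.N2C.RD.Rg.cv.{ku0} | exact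 ()
private theorem _root_.Cfsg.Agent.KOf7db644.e48.{ku0} : (by first | exact @Cfsg.Agent.N2C.RD.Rg.cv.{ku0} = @_root_.Cfsg.Agent.KOf7db644.k48.{ku0} | exact True : Prop) := by first | (delta _root_.Cfsg.Agent.KOf7db644.k48; exact @Subtype.property _ (fun g => @Cfsg.Agent.N2C.RD.Rg.cv.{ku0} = @g) _) | rfl | trivial
private noncomputable def _root_.Cfsg.Agent.KOf7db644.k50.{ku0, ku1} : type_of% @Function.update.{ku0, ku1} := @(fun x0 x1 x2 x3 x4 x5 x6 => @Decidable.rec.{ku1} _ @(fun x7 => @x1 @x6) @(fun x7 => @x3 @x6) @(fun x7 => @Eq.rec.{ku1, ku0} @x0 @x4 @(fun x8 x9 => @x1 @x8) @x5 @x6 (@Eq.symm.{ku0} _ _ _ @x7)) (@x2 @x6 @x4))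
private theorem _root_.Cfsg.Agent.KOf7db644.e50.{ku0, ku1} : @Function.update.{ku0, ku1} = @_root_.Cfsg.Agent.KOf7db644.k50.{ku0, ku1} := by delta _root_.Cfsg.Agent.KOf7db644.k50; rfl'
private noncomputable def _root_.Cfsg.Agent.KOf7db644.k51.{ku0, ku1} : type_of% @Pi.single.{ku0, ku1} := @(fun x0 x1 x2 x3 x4 x5 => @Cfsg.Agent.KOf7db644.k50.{(ku0+1), (ku1+1)} _ _ @x3 @(fun x6 => @Zero.zero.{ku1} _ (@x2 @x6)) @x4 @x5)
private theorem _root_.Cfsg.Agent.KOf7db644.e51.{ku0, ku1} : @Pi.single.{ku0, ku1} = @_root_.Cfsg.Agent.KOf7db644.k51.{ku0, ku1} := by delta _root_.Cfsg.Agent.KOf7db644.k51; rewrite [← Cfsg.Agent.KOf7db644.e50.{(ku0+1), (ku1+1)}]; rfl'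
private noncomputable def _root_.Cfsg.Agent.KOf7db644.k52 : type_of% @instDecidableEqFin := @(fun x0 x1 x2 => @Decidable.rec.{1} _ @(fun x3 => @Decidable (@Eq.{1} _ @x1 @x2)) @(fun x3 => @Decidable.isFalse _ (@instDecidableEqFin._proof_1 @x0 @x1 @x2 @x3)) @(fun x3 => @Decidable.isTrue _ (@Fin.eq_of_val_eq _ _ _ @x3)) (@Cfsg.Agent.KOf7db644.k12 (@Fin.val _ @x1) (@Fin.val _ @x2)))
private theorem _root_.Cfsg.Agent.KOf7db644.e52 : @instDecidableEqFin = @_root_.Cfsg.Agent.KOf7db644.k52 := by delta _root_.Cfsg.Agent.KOf7db644.k52; rewrite [← Cfsg.Agent.KOf7db644.e12]; rfl'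
private noncomputable def _root_.Cfsg.Agent.KOf7db644.k54.{ku0} : type_of% @List.get?Internal.{ku0} := @(fun x0 x1 x2 => @List.rec.{(ku0+1), ku0} @x0 @(fun x3 => ℕ → @Option.{ku0} @x0) @(fun x3 => @Option.none.{ku0} _) @(fun x3 x4 x5 x6 => @Nat.rec.{(ku0+1)} @(fun x7 => @Option.{ku0} @x0) (@Option.some.{ku0} _ @x3) @(fun x7 x8 => @x5 @x7) @x6) @x1 @x2)
private theorem _root_.Cfsg.Agent.KOf7db644.e54.{ku0} : @List.get?Internal.{ku0} = @_root_.Cfsg.Agent.KOf7db644.k54.{ku0} := by delta _root_.Cfsg.Agent.KOf7db644.k54; funext a0 a1 a2; refine (congrFun (_root_.Cfsg.Agent.KOf7db644.e3 (fun a1 a2 => @List.get?Internal.{ku0} a0 a1 a2) ?_ (fun c0 c1 => ?_) a1) a2 :) <;> [(funext b0; (rfl')); (funext b0; (cases b0 with | @zero  => (rfl') | @succ b0_0 => (rfl')))]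
private noncomputable def _root_.Cfsg.Agent.KOf7db644.k55 : (by first | exact type_of% @Cfsg.Agent.N2C.RD.Xc.fnK | exact Unit : Sort _) := by first | (refine @Subtype.val _ (fun g => @Cfsg.Agent.N2C.RD.Xc.fnK = @g) (@Subtype.mk _ _ (@(fun x0 x1 x2 => @Option.rec.{1, 0} ℤ @(fun x3 => ℤ) (@Int.ofNat (nat_lit 0)) @(fun x3 => @x3) (@Cfsg.Agent.KOf7db644.k54.{0} _ @x1 (@Fin.val _ @x2)))) ?_); rewrite [← Cfsg.Agent.KOf7db644.e54.{0}]; rfl') | exact @Cfsg.Agent.N2C.RD.Xc.fnK | exact ()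
private theorem _root_.Cfsg.Agent.KOf7db644.e55 : (by first | exact @Cfsg.Agent.N2C.RD.Xc.fnK = @_root_.Cfsg.Agent.KOf7db644.k55 | exact True : Prop) := by first | (delta _root_.Cfsg.Agent.KOf7db644.k55; exact @Subtype.property _ (fun g => @Cfsg.Agent.N2C.RD.Xc.fnK = @g) _) | rfl | trivial
private noncomputable def _root_.Cfsg.Agent.KOf7db644.k56 : (by first | exact type_of% @Cfsg.Agent.N2C.RD.Xc.goK | exact Unit : Sort _) := by first | (refine @Subtype.val _ (fun g => @Cfsg.Agent.N2C.RD.Xc.goK = @g) (@Subtype.mk _ _ (@(fun x0 x1 x2 => @Nat.rec.{1} @(fun x3 => (@List.{0} ℤ) → @List.{0} (@List.{0} ℤ)) @(fun x3 => []) @(fun x3 x4 x5 => @x5 :: (@Cfsg.Agent.KOf7db644.k42 _ (@Cfsg.Agent.KOf7db644.k44 _ (@x1 (@Cfsg.Agent.KOf7db644.k55 @x0 @x5))) @x4)) @x2)) ?_); rewrite [← Cfsg.Agent.KOf7db644.e55, ← Cfsg.Agent.KOf7db644.e44, ← Cfsg.Agent.KOf7db644.e42]; (try delta Cfsg.Agent.N2C.RD.Xc.goK); (try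 generalize @Cfsg.Agent.N2C.RD.Xc.stK = g0); (try generalize @Cfsg.Agent.N2C.RD.Xc.tbK = g1); (try generalize @Cfsg.Agent.N2C.RD.Xc.fnK = g2); rfl') | exact @Cfsg.Agent.N2C.RD.Xc.goK | exact ()
private theorem _root_.Cfsg.Agent.KOf7db644.e56 : (by first | exact @Cfsg.Agent.N2C.RD.Xc.goK = @_root_.Cfsg.Agent.KOf7db644.k56 | exact True : Prop) := by first | (delta _root_.Cfsg.Agent.KOf7db644.k56; exact @Subtype.property _ (fun g => @Cfsg.Agent.N2C.RD.Xc.goK = @g) _) | rfl | trivial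

theorem l6_ok : ∀ i, ((pts (l6 i)).map (orb a6 (Pi.single i 1) [0, 1, 2, 3, 4, 5])).Nodup ∧ (l6 i).length = 2 ∧
    ((l6 i).map Prod.snd).sum = 24 := fun i =>
  ⟨nd_of _ _ _ _ ((by (first | (refine of_decide_eq_true ?_; rewrite [Cfsg.Agent.KOf7db644.e0, Cfsg.Agent.KOf7db644.e31, Cfsg.Agent.KOf7db644.e33.{0}, Cfsg.Agent.KOf7db644.e34, Cfsg.Agent.KOf7db644.e35.{0, 0}, Cfsg.Agent.KOf7db644.e37, Cfsg.Agent.KOf7db644.e40.{0, 0}, Cfsg.Agent.KOf7db644.e42, Cfsg.Agent.KOf7db644.e44, Cfsg.Agent.KOf7db644.e48.{0}, Cfsg.Agent.KOf7db644.e28, Cfsg.Agent.KOf7db644.e51.{0, 0}, Cfsg.Agent.KOf7db644.e52, Cfsg.Agent.KOf7db644.e56]; decide +kernel) | decide +kernel) : ∀ i, (((l6 i).flatMap fun e => stK (tbK (cv a6 (Pi.single i 1) e.1))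
    (goK (fun x => cv a6 x [0, 1, 2, 3, 4, 5]) e.2)).map hsK).Nodup) i), by revert i; decide +kernel⟩

private noncomputable def _root_.Cfsg.Agent.KOf7db644.k29 : (by first | exact type_of% @Cfsg.Agent.N2C.RD.Xc.a7 | exact Unit : Sort _) := by first | (refine @Subtype.val _ (fun g => @Cfsg.Agent.N2C.RD.Xc.a7 = @g) (@Subtype.mk _ _ (@Cfsg.Agent.KOf7db644.k26.{1} (nat_lit 6) @(fun (x0 : @Fin (@Nat.succ (@OfNat.ofNat.{0} @Nat (nat_lit 6) (@instOfNatNat (nat_lit 6))))) => ((@Fin (@OfNat.ofNat.{0} @Nat (nat_lit 7) (@instOfNatNat (nat_lit 7)))) → @Int)) (@Cfsg.Agent.KOf7db644.k26.{1} (nat_lit 6) @(fun (x0 : @Fin (@Nat.succ (@OfNat.ofNat.{0} @Nat (nat_lit 6) (@instOfNatNat (nat_lit 6))))) => @Int) (@Int.ofNat (nat_lit 2)) (@Cfsg.Agent.KOf7db644.k26.{1} (nat_lit 5) @(fun (x0 : @Fin (@Nat.succ (@OfNat.ofNat.{0} @Nat (nat_lit 5) (@instOfNatNat (nat_lit 5))))) => @Int) (@Int.ofNat (nat_lit 0)) (@Cfsg.Agent.KOf7db644.k26.{1}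 (nat_lit 4) @(fun (x0 : @Fin (@Nat.succ (@OfNat.ofNat.{0} @Nat (nat_lit 4) (@instOfNatNat (nat_lit 4))))) => @Int) (@Nat.rec.{1} @(fun (x0 : @Nat) => @Int) (@Int.ofNat (nat_lit 0)) @(fun (x0 : @Nat) (x1 : @Int) => @Int.negSucc @x0) (nat_lit 1)) (@Cfsg.Agent.KOf7db644.k26.{1} (nat_lit 3) @(fun (x0 : @Fin (@Nat.succ (@OfNat.ofNat.{0} @Nat (nat_lit 3) (@instOfNatNat (nat_lit 3))))) => @Int) (@Int.ofNat (nat_lit 0)) (@Cfsg.Agent.KOf7db644.k26.{1} (nat_lit 2) @(fun (x0 : @Fin (@Nat.succ (@OfNat.ofNat.{0} @Nat (nat_lit 2) (@instOfNatNat (nat_lit 2))))) => @Int) (@Int.ofNat (nat_lit 0)) (@Cfsg.Agent.KOf7db644.k26.{1} (nat_lit 1) @(fun (x0 : @Fin (@Nat.succ (@OfNat.ofNat.{0} @Nat (nat_lit 1) (@instOfNatNat (nat_lit 1))))) => @Int) (@Int.ofNat (nat_lit 0)) (@Cfsg.Agent.KOf7db644.k26.{1} (nat_lit 0) @(fun (x0 : @Fin (@Nat.succ (@OfNat.ofNat.{0} @Nat (nat_lit 0) (@instOfNatNat (nat_lit 0))))) => @Int)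 (@Int.ofNat (nat_lit 0)) (@Cfsg.Agent.KOf7db644.k27.{1} @Int)))))))) (@Cfsg.Agent.KOf7db644.k26.{1} (nat_lit 5) @(fun (x0 : @Fin (@Nat.succ (@OfNat.ofNat.{0} @Nat (nat_lit 5) (@instOfNatNat (nat_lit 5))))) => ((@Fin (@OfNat.ofNat.{0} @Nat (nat_lit 7) (@instOfNatNat (nat_lit 7)))) → @Int)) (@Cfsg.Agent.KOf7db644.k26.{1} (nat_lit 6) @(fun (x0 : @Fin (@Nat.succ (@OfNat.ofNat.{0} @Nat (nat_lit 6) (@instOfNatNat (nat_lit 6))))) => @Int) (@Int.ofNat (nat_lit 0)) (@Cfsg.Agent.KOf7db644.k26.{1} (nat_lit 5) @(fun (x0 : @Fin (@Nat.succ (@OfNat.ofNat.{0} @Nat (nat_lit 5) (@instOfNatNat (nat_lit 5))))) => @Int) (@Int.ofNat (nat_lit 2)) (@Cfsg.Agent.KOf7db644.k26.{1} (nat_lit 4) @(fun (x0 : @Fin (@Nat.succ (@OfNat.ofNat.{0} @Nat (nat_lit 4) (@instOfNatNat (nat_lit 4))))) => @Int) (@Int.ofNat (nat_lit 0)) (@Cfsg.Agent.KOf7db644.k26.{1} (nat_lit 3) @(fun (x0 : @Fin (@Nat.succ (@OfNat.ofNat.{0} @Nat (nat_lit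 3) (@instOfNatNat (nat_lit 3))))) => @Int) (@Nat.rec.{1} @(fun (x0 : @Nat) => @Int) (@Int.ofNat (nat_lit 0)) @(fun (x0 : @Nat) (x1 : @Int) => @Int.negSucc @x0) (nat_lit 1)) (@Cfsg.Agent.KOf7db644.k26.{1} (nat_lit 2) @(fun (x0 : @Fin (@Nat.succ (@OfNat.ofNat.{0} @Nat (nat_lit 2) (@instOfNatNat (nat_lit 2))))) => @Int) (@Int.ofNat (nat_lit 0)) (@Cfsg.Agent.KOf7db644.k26.{1} (nat_lit 1) @(fun (x0 : @Fin (@Nat.succ (@OfNat.ofNat.{0} @Nat (nat_lit 1) (@instOfNatNat (nat_lit 1))))) => @Int) (@Int.ofNat (nat_lit 0)) (@Cfsg.Agent.KOf7db644.k26.{1} (nat_lit 0) @(fun (x0 : @Fin (@Nat.succ (@OfNat.ofNat.{0} @Nat (nat_lit 0) (@instOfNatNat (nat_lit 0))))) => @Int) (@Int.ofNat (nat_lit 0)) (@Cfsg.Agent.KOf7db644.k27.{1} @Int)))))))) (@Cfsg.Agent.KOf7db644.k26.{1} (nat_lit 4) @(fun (x0 : @Fin (@Nat.succ (@OfNat.ofNat.{0} @Nat (nat_lit 4) (@instOfNatNat (nat_lit 4))))) => ((@Fin (@OfNat.ofNat.{0} @Nat (nat_lit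 7) (@instOfNatNat (nat_lit 7)))) → @Int)) (@Cfsg.Agent.KOf7db644.k26.{1} (nat_lit 6) @(fun (x0 : @Fin (@Nat.succ (@OfNat.ofNat.{0} @Nat (nat_lit 6) (@instOfNatNat (nat_lit 6))))) => @Int) (@Nat.rec.{1} @(fun (x0 : @Nat) => @Int) (@Int.ofNat (nat_lit 0)) @(fun (x0 : @Nat) (x1 : @Int) => @Int.negSucc @x0) (nat_lit 1)) (@Cfsg.Agent.KOf7db644.k26.{1} (nat_lit 5) @(fun (x0 : @Fin (@Nat.succ (@OfNat.ofNat.{0} @Nat (nat_lit 5) (@instOfNatNat (nat_lit 5))))) => @Int) (@Int.ofNat (nat_lit 0)) (@Cfsg.Agent.KOf7db644.k26.{1} (nat_lit 4) @(fun (x0 : @Fin (@Nat.succ (@OfNat.ofNat.{0} @Nat (nat_lit 4) (@instOfNatNat (nat_lit 4))))) => @Int) (@Int.ofNat (nat_lit 2)) (@Cfsg.Agent.KOf7db644.k26.{1} (nat_lit 3) @(fun (x0 : @Fin (@Nat.succ (@OfNat.ofNat.{0} @Nat (nat_lit 3) (@instOfNatNat (nat_lit 3))))) => @Int) (@Nat.rec.{1} @(fun (x0 : @Nat) => @Int) (@Int.ofNat (nat_lit 0)) @(fun (x0 : @Nat) (x1 : @Int) =>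 @Int.negSucc @x0) (nat_lit 1)) (@Cfsg.Agent.KOf7db644.k26.{1} (nat_lit 2) @(fun (x0 : @Fin (@Nat.succ (@OfNat.ofNat.{0} @Nat (nat_lit 2) (@instOfNatNat (nat_lit 2))))) => @Int) (@Int.ofNat (nat_lit 0)) (@Cfsg.Agent.KOf7db644.k26.{1} (nat_lit 1) @(fun (x0 : @Fin (@Nat.succ (@OfNat.ofNat.{0} @Nat (nat_lit 1) (@instOfNatNat (nat_lit 1))))) => @Int) (@Int.ofNat (nat_lit 0)) (@Cfsg.Agent.KOf7db644.k26.{1} (nat_lit 0) @(fun (x0 : @Fin (@Nat.succ (@OfNat.ofNat.{0} @Nat (nat_lit 0) (@instOfNatNat (nat_lit 0))))) => @Int) (@Int.ofNat (nat_lit 0)) (@Cfsg.Agent.KOf7db644.k27.{1} @Int)))))))) (@Cfsg.Agent.KOf7db644.k26.{1} (nat_lit 3) @(fun (x0 : @Fin (@Nat.succ (@OfNat.ofNat.{0} @Nat (nat_lit 3) (@instOfNatNat (nat_lit 3))))) => ((@Fin (@OfNat.ofNat.{0} @Nat (nat_lit 7) (@instOfNatNat (nat_lit 7)))) → @Int)) (@Cfsg.Agent.KOf7db644.k26.{1} (nat_lit 6) @(fun (x0 : @Fin (@Nat.succ (@OfNat.ofNat.{0} @Nat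 (nat_lit 6) (@instOfNatNat (nat_lit 6))))) => @Int) (@Int.ofNat (nat_lit 0)) (@Cfsg.Agent.KOf7db644.k26.{1} (nat_lit 5) @(fun (x0 : @Fin (@Nat.succ (@OfNat.ofNat.{0} @Nat (nat_lit 5) (@instOfNatNat (nat_lit 5))))) => @Int) (@Nat.rec.{1} @(fun (x0 : @Nat) => @Int) (@Int.ofNat (nat_lit 0)) @(fun (x0 : @Nat) (x1 : @Int) => @Int.negSucc @x0) (nat_lit 1)) (@Cfsg.Agent.KOf7db644.k26.{1} (nat_lit 4) @(fun (x0 : @Fin (@Nat.succ (@OfNat.ofNat.{0} @Nat (nat_lit 4) (@instOfNatNat (nat_lit 4))))) => @Int) (@Nat.rec.{1} @(fun (x0 : @Nat) => @Int) (@Int.ofNat (nat_lit 0)) @(fun (x0 : @Nat) (x1 : @Int) => @Int.negSucc @x0) (nat_lit 1)) (@Cfsg.Agent.KOf7db644.k26.{1} (nat_lit 3) @(fun (x0 : @Fin (@Nat.succ (@OfNat.ofNat.{0} @Nat (nat_lit 3) (@instOfNatNat (nat_lit 3))))) => @Int) (@Int.ofNat (nat_lit 2)) (@Cfsg.Agent.KOf7db644.k26.{1} (nat_lit 2) @(fun (x0 : @Fin (@Nat.succ (@OfNat.ofNat.{0} @Nat (nat_lit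 2) (@instOfNatNat (nat_lit 2))))) => @Int) (@Nat.rec.{1} @(fun (x0 : @Nat) => @Int) (@Int.ofNat (nat_lit 0)) @(fun (x0 : @Nat) (x1 : @Int) => @Int.negSucc @x0) (nat_lit 1)) (@Cfsg.Agent.KOf7db644.k26.{1} (nat_lit 1) @(fun (x0 : @Fin (@Nat.succ (@OfNat.ofNat.{0} @Nat (nat_lit 1) (@instOfNatNat (nat_lit 1))))) => @Int) (@Int.ofNat (nat_lit 0)) (@Cfsg.Agent.KOf7db644.k26.{1} (nat_lit 0) @(fun (x0 : @Fin (@Nat.succ (@OfNat.ofNat.{0} @Nat (nat_lit 0) (@instOfNatNat (nat_lit 0))))) => @Int) (@Int.ofNat (nat_lit 0)) (@Cfsg.Agent.KOf7db644.k27.{1} @Int)))))))) (@Cfsg.Agent.KOf7db644.k26.{1} (nat_lit 2) @(fun (x0 : @Fin (@Nat.succ (@OfNat.ofNat.{0} @Nat (nat_lit 2) (@instOfNatNat (nat_lit 2))))) => ((@Fin (@OfNat.ofNat.{0} @Nat (nat_lit 7) (@instOfNatNat (nat_lit 7)))) → @Int)) (@Cfsg.Agent.KOf7db644.k26.{1} (nat_lit 6) @(fun (x0 : @Fin (@Nat.succ (@OfNat.ofNat.{0} @Nat (nat_lit 6) (@instOfNatNat (nat_lit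 6))))) => @Int) (@Int.ofNat (nat_lit 0)) (@Cfsg.Agent.KOf7db644.k26.{1} (nat_lit 5) @(fun (x0 : @Fin (@Nat.succ (@OfNat.ofNat.{0} @Nat (nat_lit 5) (@instOfNatNat (nat_lit 5))))) => @Int) (@Int.ofNat (nat_lit 0)) (@Cfsg.Agent.KOf7db644.k26.{1} (nat_lit 4) @(fun (x0 : @Fin (@Nat.succ (@OfNat.ofNat.{0} @Nat (nat_lit 4) (@instOfNatNat (nat_lit 4))))) => @Int) (@Int.ofNat (nat_lit 0)) (@Cfsg.Agent.KOf7db644.k26.{1} (nat_lit 3) @(fun (x0 : @Fin (@Nat.succ (@OfNat.ofNat.{0} @Nat (nat_lit 3) (@instOfNatNat (nat_lit 3))))) => @Int) (@Nat.rec.{1} @(fun (x0 : @Nat) => @Int) (@Int.ofNat (nat_lit 0)) @(fun (x0 : @Nat) (x1 : @Int) => @Int.negSucc @x0) (nat_lit 1)) (@Cfsg.Agent.KOf7db644.k26.{1} (nat_lit 2) @(fun (x0 : @Fin (@Nat.succ (@OfNat.ofNat.{0} @Nat (nat_lit 2) (@instOfNatNat (nat_lit 2))))) => @Int) (@Int.ofNat (nat_lit 2)) (@Cfsg.Agent.KOf7db644.k26.{1} (nat_lit 1) @(fun (x0 : @Fin (@Nat.succ (@OfNat.ofNat.{0}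 @Nat (nat_lit 1) (@instOfNatNat (nat_lit 1))))) => @Int) (@Nat.rec.{1} @(fun (x0 : @Nat) => @Int) (@Int.ofNat (nat_lit 0)) @(fun (x0 : @Nat) (x1 : @Int) => @Int.negSucc @x0) (nat_lit 1)) (@Cfsg.Agent.KOf7db644.k26.{1} (nat_lit 0) @(fun (x0 : @Fin (@Nat.succ (@OfNat.ofNat.{0} @Nat (nat_lit 0) (@instOfNatNat (nat_lit 0))))) => @Int) (@Int.ofNat (nat_lit 0)) (@Cfsg.Agent.KOf7db644.k27.{1} @Int)))))))) (@Cfsg.Agent.KOf7db644.k26.{1} (nat_lit 1) @(fun (x0 : @Fin (@Nat.succ (@OfNat.ofNat.{0} @Nat (nat_lit 1) (@instOfNatNat (nat_lit 1))))) => ((@Fin (@OfNat.ofNat.{0} @Nat (nat_lit 7) (@instOfNatNat (nat_lit 7)))) → @Int)) (@Cfsg.Agent.KOf7db644.k26.{1} (nat_lit 6) @(fun (x0 : @Fin (@Nat.succ (@OfNat.ofNat.{0} @Nat (nat_lit 6) (@instOfNatNat (nat_lit 6))))) => @Int) (@Int.ofNat (nat_lit 0)) (@Cfsg.Agent.KOf7db644.k26.{1} (nat_lit 5) @(fun (x0 : @Fin (@Nat.succ (@OfNat.ofNat.{0} @Nat (nat_lit 5) (@instOfNatNat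 (nat_lit 5))))) => @Int) (@Int.ofNat (nat_lit 0)) (@Cfsg.Agent.KOf7db644.k26.{1} (nat_lit 4) @(fun (x0 : @Fin (@Nat.succ (@OfNat.ofNat.{0} @Nat (nat_lit 4) (@instOfNatNat (nat_lit 4))))) => @Int) (@Int.ofNat (nat_lit 0)) (@Cfsg.Agent.KOf7db644.k26.{1} (nat_lit 3) @(fun (x0 : @Fin (@Nat.succ (@OfNat.ofNat.{0} @Nat (nat_lit 3) (@instOfNatNat (nat_lit 3))))) => @Int) (@Int.ofNat (nat_lit 0)) (@Cfsg.Agent.KOf7db644.k26.{1} (nat_lit 2) @(fun (x0 : @Fin (@Nat.succ (@OfNat.ofNat.{0} @Nat (nat_lit 2) (@instOfNatNat (nat_lit 2))))) => @Int) (@Nat.rec.{1} @(fun (x0 : @Nat) => @Int) (@Int.ofNat (nat_lit 0)) @(fun (x0 : @Nat) (x1 : @Int) => @Int.negSucc @x0) (nat_lit 1)) (@Cfsg.Agent.KOf7db644.k26.{1} (nat_lit 1) @(fun (x0 : @Fin (@Nat.succ (@OfNat.ofNat.{0} @Nat (nat_lit 1) (@instOfNatNat (nat_lit 1))))) => @Int) (@Int.ofNat (nat_lit 2)) (@Cfsg.Agent.KOf7db644.k26.{1} (nat_lit 0) @(fun (x0 : @Fin (@Nat.succ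 (@OfNat.ofNat.{0} @Nat (nat_lit 0) (@instOfNatNat (nat_lit 0))))) => @Int) (@Nat.rec.{1} @(fun (x0 : @Nat) => @Int) (@Int.ofNat (nat_lit 0)) @(fun (x0 : @Nat) (x1 : @Int) => @Int.negSucc @x0) (nat_lit 1)) (@Cfsg.Agent.KOf7db644.k27.{1} @Int)))))))) (@Cfsg.Agent.KOf7db644.k26.{1} (nat_lit 0) @(fun (x0 : @Fin (@Nat.succ (@OfNat.ofNat.{0} @Nat (nat_lit 0) (@instOfNatNat (nat_lit 0))))) => ((@Fin (@OfNat.ofNat.{0} @Nat (nat_lit 7) (@instOfNatNat (nat_lit 7)))) → @Int)) (@Cfsg.Agent.KOf7db644.k26.{1} (nat_lit 6) @(fun (x0 : @Fin (@Nat.succ (@OfNat.ofNat.{0} @Nat (nat_lit 6) (@instOfNatNat (nat_lit 6))))) => @Int) (@Int.ofNat (nat_lit 0)) (@Cfsg.Agent.KOf7db644.k26.{1} (nat_lit 5) @(fun (x0 : @Fin (@Nat.succ (@OfNat.ofNat.{0} @Nat (nat_lit 5) (@instOfNatNat (nat_lit 5))))) => @Int) (@Int.ofNat (nat_lit 0)) (@Cfsg.Agent.KOf7db644.k26.{1} (nat_lit 4) @(fun (x0 : @Fin (@Nat.succ (@OfNat.ofNat.{0} @Nat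 (nat_lit 4) (@instOfNatNat (nat_lit 4))))) => @Int) (@Int.ofNat (nat_lit 0)) (@Cfsg.Agent.KOf7db644.k26.{1} (nat_lit 3) @(fun (x0 : @Fin (@Nat.succ (@OfNat.ofNat.{0} @Nat (nat_lit 3) (@instOfNatNat (nat_lit 3))))) => @Int) (@Int.ofNat (nat_lit 0)) (@Cfsg.Agent.KOf7db644.k26.{1} (nat_lit 2) @(fun (x0 : @Fin (@Nat.succ (@OfNat.ofNat.{0} @Nat (nat_lit 2) (@instOfNatNat (nat_lit 2))))) => @Int) (@Int.ofNat (nat_lit 0)) (@Cfsg.Agent.KOf7db644.k26.{1} (nat_lit 1) @(fun (x0 : @Fin (@Nat.succ (@OfNat.ofNat.{0} @Nat (nat_lit 1) (@instOfNatNat (nat_lit 1))))) => @Int) (@Nat.rec.{1} @(fun (x0 : @Nat) => @Int) (@Int.ofNat (nat_lit 0)) @(fun (x0 : @Nat) (x1 : @Int) => @Int.negSucc @x0) (nat_lit 1)) (@Cfsg.Agent.KOf7db644.k26.{1} (nat_lit 0) @(fun (x0 : @Fin (@Nat.succ (@OfNat.ofNat.{0} @Nat (nat_lit 0) (@instOfNatNat (nat_lit 0))))) => @Int) (@Int.ofNat (nat_lit 2)) (@Cfsg.Agent.KOf7db644.k27.{1} @Int))))))))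 (@Cfsg.Agent.KOf7db644.k27.{1} ((@Fin (@OfNat.ofNat.{0} @Nat (nat_lit 7) (@instOfNatNat (nat_lit 7)))) → @Int))))))))) ?_); rewrite [← Cfsg.Agent.KOf7db644.e27.{1}, ← Cfsg.Agent.KOf7db644.e26.{1}]; rfl') | exact @Cfsg.Agent.N2C.RD.Xc.a7 | exact ()
private theorem _root_.Cfsg.Agent.KOf7db644.e29 : (by first | exact @Cfsg.Agent.N2C.RD.Xc.a7 = @_root_.Cfsg.Agent.KOf7db644.k29 | exact True : Prop) := by first | (delta _root_.Cfsg.Agent.KOf7db644.k29; exact @Subtype.property _ (fun g => @Cfsg.Agent.N2C.RD.Xc.a7 = @g) _) | rfl | trivial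

theorem l7_ok : ∀ i, ((pts (l7 i)).map (orb a7 (Pi.single i 1) [0, 1, 2, 3, 4, 5, 6])).Nodup ∧ (l7 i).length = 3 ∧
    ((l7 i).map Prod.snd).sum = 54 := fun i =>
  ⟨nd_of _ _ _ _ ((by (first | (refine of_decide_eq_true ?_; rewrite [Cfsg.Agent.KOf7db644.e0, Cfsg.Agent.KOf7db644.e31, Cfsg.Agent.KOf7db644.e33.{0}, Cfsg.Agent.KOf7db644.e34, Cfsg.Agent.KOf7db644.e35.{0, 0}, Cfsg.Agent.KOf7db644.e37, Cfsg.Agent.KOf7db644.e40.{0, 0}, Cfsg.Agent.KOf7db644.e42, Cfsg.Agent.KOf7db644.e44, Cfsg.Agent.KOf7db644.e48.{0}, Cfsg.Agent.KOf7db644.e29, Cfsg.Agent.KOf7db644.e51.{0, 0}, Cfsg.Agent.KOf7db644.e52, Cfsg.Agent.KOf7db644.e56]; decide +kernel) | decide +kernel) : ∀ i, (((l7 i).flatMap fun e => stK (tbK (cv a7 (Pi.single i 1) e.1))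
    (goK (fun x => cv a7 x [0, 1, 2, 3, 4, 5, 6]) e.2)).map hsK).Nodup) i), by revert i; decide +kernel⟩

end Xc

open Xc

theorem row_f4 : Row (fX chevF4 0) := by
  rintro t n q p T b K _ _ P G c f M ⟨E, _, _, _, -, ⟨e⟩⟩
  obtain ⟨a, ha, hE⟩ := exists_f E p
  have h1 := b_le M.toMd0 (nd_F4 M.core.simple M.core.nonabelian M.prime ha hE e) (by simp only [gX]; split_ifs <;> norm_num)
  rw [← hE] at h1
  exact chev2 M.toMd0 isType_F4 parity_F4 e (h1.trans (Nat.pow_le_pow_right Fintype.card_pos (by norm_num [dX]))) rfl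
    (fun _ J i hi => H2.Ppd.index_F4 _ hi) _ lF (aF_eq ▸ lF_ok)

theorem row_e6 : Row (fX chevE6 0) := by
  rintro t n q p T b K _ _ P G c f M ⟨E, _, _, _, -, ⟨e⟩⟩
  obtain ⟨a, ha, hE⟩ := exists_f E p
  have h1 := b_le M.toMd0 (nd_E6 M.core.simple M.core.nonabelian M.prime ha hE e) le_rfl
  rw [← hE] at h1
  exact chev2 M.toMd0 isType_E6 parity_E6 e h1 rfl (fun _ J i hi => H2.Ppd.index_E6 _ hi) _ l6 (a6_eq ▸ l6_ok)

theorem row_e7 : Row (fX chevE7 0) := by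
  rintro t n q p T b K _ _ P G c f M ⟨E, _, _, _, -, ⟨e⟩⟩
  obtain ⟨a, ha, hE⟩ := exists_f E p
  have h1 := b_le M.toMd0 (nd_E7 M.core.simple M.core.nonabelian M.prime ha hE e) one_le_two
  rw [← hE] at h1
  obtain ⟨i, j, h2, h3, h4, h5⟩ := chev M.toMd0 isType_E7 parity_E7 e h1 (fun _ J i hi => SM.Ti.Lo.index_E7 _ hi)
  obtain ⟨h6, -⟩ := h5 _ (l7 i) 3 54 (a7_eq ▸ (l7_ok i).1) (l7_ok i).2.1 (l7_ok i).2.2
  exact sc_mul M.toMd0 h4 h2 h3 (y := 38) h6 (by norm_num [dX])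

theorem row_e8 : Row (fX chevE8 0) := by
  rintro t n q p T b K _ _ P G c f M ⟨E, _, _, _, -, ⟨e⟩⟩
  obtain ⟨a, ha, hE⟩ := exists_f E p
  have h1 := b_le M.toMd0 (nd_E8 M.core.simple M.core.nonabelian M.prime ha hE e) one_le_two
  rw [← hE] at h1
  obtain ⟨i, j, h2, h3, h4, -⟩ := chev M.toMd0 isType_E8 parity_E8 e h1 (fun _ J i hi => SM.Ti.Lo.index_E8 _ hi)
  exact sc_mul M.toMd0 h4 h2 h3 (y := 46) (by omega) (by norm_num [dX])

theorem row_te6 : Row f2E6 := by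
  classical
  rintro t n q p T b K _ _ P G c f M ⟨E, _, _, _, s, hq, hE, ⟨e⟩⟩
  have hp := Fact.mk M.prime
  have := M.char
  obtain ⟨a, ha, rfl⟩ := exists_f' E M.prime two_ne_zero hE
  have h1 := b_le M.toMd0 (nd_2E6 M.core.simple M.core.nonabelian M.prime ha hE e) le_rfl
  have hq1 := hq.one_lt
  obtain ⟨φ, hφ, hqq⟩ := TwE6Basic.exists_frob hq hE
  let _ : ∀ i : Fin 4, Fintype (Nodes.RGDFoldSL.Fx φ ((Nodes.RGDTwNode.E6.rest i).length + 1)) :=
    fun i => Fintype.ofFinite _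
  have hch : ∀ i : Fin 4, CharP (Nodes.RGDFoldSL.Fx φ ((Nodes.RGDTwNode.E6.rest i).length + 1)) p :=
    fun i => (RingHom.charP_iff (Nodes.RGDFoldSL.Fx φ _).subtype (Nodes.RGDFoldSL.Fx φ _).subtype_injective p).2 inferInstance
  have hN := fun i : Fin 4 =>
    H59.CrossTw.nd_fold (Nodes.RGDTwE6.foldGrp hφ hqq) (Nodes.RGDTwNode.E6.nodeOK i) (φ := φ)
      (fun s hs t => by rw [Nodes.RGDTwNode.E6.eps_one i s hs, Int.cast_one, one_mul])
      (KFacts.MulOdd.InstTw.parityTw_spec KFacts.MulOdd.InstTw.parity_E6 i).choose_spec.1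
      (KFacts.MulOdd.InstTw.parityTw_spec KFacts.MulOdd.InstTw.parity_E6 i).choose_spec.2
  have hW : Finite CoxeterMatrix.F₄.Group :=
    Nodes.RGDFold.finite_W (hp := isType_E6) CoxeterMatrix.F₄.toCoxeterSystem Nodes.RGDTwE6.isCartan Nodes.RGDTwE6.foldData
  have hcard : ∀ i : Fin 4, p ^ a ≤ Fintype.card (Nodes.RGDFoldSL.Fx φ ((Nodes.RGDTwNode.E6.rest i).length + 1)) := by
    have e1 : Nat.card (Nodes.RGDFoldSL.Fx φ 1) = p ^ a := by
      have h2 := H59.CrossTw.card_Fx_one hq1 hE hφ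
      have h3 : 0 < Nat.card (Nodes.RGDFoldSL.Fx φ 1) := Nat.card_pos
      omega
    have e2 := H59.CrossTw.card_Fx_eq hE hφ
    have e3 : p ^ a ≤ (p ^ a) ^ 2 := Nat.le_self_pow two_ne_zero _
    intro i
    rw [← Nat.card_eq_fintype_card]
    fin_cases i
    exacts [e1.ge, e1.ge, e3.trans e2.ge, e3.trans e2.ge]
  exact of_two
    (Nodes.RGDFold.rgd CoxeterMatrix.F₄.toCoxeterSystem Nodes.RGDTwE6.isCartan Nodes.RGDTwE6.foldData
      (Nodes.RGDTwE6.foldGrp hφ hqq) p)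
    (Nodes.RGDFold.G1_eq_top CoxeterMatrix.F₄.toCoxeterSystem Nodes.RGDTwE6.isCartan Nodes.RGDTwE6.foldData
      (Nodes.RGDTwE6.foldGrp hφ hqq) p)
    (fun s hs t ht' => Subtype.ext (H2.Ppd.diag_comm isType_E6.inList (Subgroup.mem_subgroupOf.1 hs).1
      (Subgroup.mem_subgroupOf.1 ht').1)) hN e M.toMd0 (fun i => h1.trans (Nat.pow_le_pow_left (hcard i) _)) rfl
    (fun J i hi => H2.Ppd.index_F4 _ hi) _ lF lT_ok

end Cfsg.Agent.N2C.RD

private theorem dce_1bd75bacdc3c : _root_.True := by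
  try have : _root_.True := by simp only [_root_.Cfsg.Agent.N2C.RD.dX.eq_13]
  try have : _root_.True := by simp only [_root_.Cfsg.Agent.N2C.RD.dX.eq_10]
  try have : _root_.True := by simp only [_root_.Cfsg.Agent.N2C.RD.dX.eq_15]
  try have : _root_.True := by simp only [_root_.Cfsg.Agent.N2C.RD.dX.eq_1]
  try have : _root_.True := by simp only [_root_.Cfsg.Agent.N2C.RD.dX.eq_11]
  try have : _root_.True := by simp only [_root_.Cfsg.Agent.N2C.RD.dX.eq_4]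
  try have : _root_.True := by simp only [_root_.Cfsg.Agent.N2C.RD.dX.eq_8]
  try have : _root_.True := by simp only [_root_.Cfsg.Agent.N2C.RD.dX.eq_2]
  try have : _root_.True := by simp only [_root_.Cfsg.Agent.N2C.RD.dX.eq_3]
  try have : _root_.True := by simp only [_root_.Cfsg.Agent.N2C.RD.dX.eq_6]
  try have : _root_.True := by simp only [_root_.Cfsg.Agent.N2C.RD.dX.eq_14]
  try have : _root_.True := by simp only [_root_.Cfsg.Agent.N2C.RD.dX.eq_12]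
  try have : _root_.True := by simp only [_root_.Cfsg.Agent.N2C.RD.dX.eq_5]
  try have : _root_.True := by simp only [_root_.Cfsg.Agent.N2C.RD.dX.eq_9]
  try have : _root_.True := by simp only [_root_.Cfsg.Agent.N2C.RD.dX.eq_7]
  exact _root_.True.intro
end

-- part: N2/Cl/RD/Part
section
set_option linter.all false

/-!
# N2 (S3519), class S in the defining characteristic: assembly of the first rows (helper69)
-/

set_option autoImplicit false

namespace Cfsg.Agent.N2C.RD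

end Cfsg.Agent.N2C.RD
end

-- part: N2/Cl/RD/Part_mg
section

end

-- part: N2/G2/Ods
section
prune_inst 0x420404010e202000000009201001a6662000190002b000168e10d4208004f600d00af0088a01503482a82800000004000000090000000000000000000010020802a52009318ad0c56008f801084000000000000000000000000000000000004000000000
set_option linter.all false
open scoped Cfsg.Agent.FastGrp

/-!
# N2, `³D₄(q)`, `q` odd: the socles `A₅`, `A₆`, `L₂(7)`, `L₂(8)` (helper85)
-/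

set_option autoImplicit false
set_option linter.unusedSectionVars false

namespace Cfsg.Agent.N2.G2

open Subgroup Cfsg Cfsg.Agent.FP3 Cfsg.Agent.N2C.N4 Cfsg.Agent.N2.Tg Cfsg.Agent.N2.Tg.Eng
open Cfsg.Agent.SB.Low (EA Nz Cz)

namespace Ods

/-- generating triples -/
def T3 (S : Type) [Group S] (a b c : ℕ) : Prop :=
  ∃ x y : S, x ^ a = 1 ∧ y ^ b = 1 ∧ _root_.Subgroup.closure ({x, y} : Set S) = ⊤ ∧ (x * y) ^ c = 1 ∧ x * y ≠ 1

section data

variable {S : Type} [Group S]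

theorem of_tri {a b c : ℕ} (h : Tri S a b c) (hc : c ≠ 1) : T3 S a b c := by
  obtain ⟨x, y, h1, h2, h3, h4⟩ := h
  exact ⟨x, y, h1, h2, h4, h3 ▸ pow_orderOf_eq_one _, fun e => hc (by rw [← h3, e, orderOf_one])⟩

theorem of_has {p B n o a b c : ℕ} {X Y : List ℕ} (H : Has p B n S o [X, Y]) (L : List (ℕ × ℕ × ℕ × List (List ℕ)))
    (h : chkT p B n X Y L o a b c = true) : T3 S a b c :=
  let ⟨_, _, _, _, _, _, _, C, k⟩ := H
  C.core k h

theorem a5 : Tri (alternatingGroup (Fin 5)) 2 5 5 :=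
  N2C.RAlt.tri_of (a := 1) (b := 4) (x := 3277888) (y := 69729) (w := [false, true, true]) (k := 1) (m := 5)
    (by norm_num) (by decide +kernel)

theorem a6 : Tri (alternatingGroup (Fin 6)) 3 4 3 :=
  N2C.RAlt.tri_of (a := 2) (b := 3) (x := 106039328) (y := 67245153) (w := [false]) (k := 1) (m := 7)
    (by norm_num) (by decide +kernel)

theorem l27 (h : OrdDiv.Real (.psl 2 7) S) : T3 S 3 3 4 :=
  of_has ((has_L (B := 128) (n := 2) (o := 336) (rg_prime 7 (by norm_num)) (il_fin 2 (by decide)) h (by decide)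
    (by decide +kernel) (by decide)
    [mat 7 ([1] : List (ZMod 7)) Fin.val [[6, 6], [2, 1]], mat 7 ([1] : List (ZMod 7)) Fin.val [[1, 5], [5, 5]]]
    (two_mem (by simp only [Matrix.det_fin_two]; decide +kernel))).ext [[1], [0, 1, 1, 0]] [[641, 645], [641, 4]]
    (by decide +kernel)) [(1, 48, 48, [[0, 0, 1]]), (128, 7, 7, [])] (by decide +kernel)

theorem l28 (h : OrdDiv.Real (.psl 2 8) S) : T3 S 2 7 7 ∧ T3 S 2 3 9 := by
  have H := has_L (B := 8) (n := 6) (o := 504) rg8 (il_fin 2 (by decide)) h (by decide) (by decide +kernel) (by decide)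
    [mat 2 (b3 2) Fin.val [[4, 4], [3, 4]], mat 2 (b3 2) Fin.val [[7, 2], [7, 6]]]
    (two_mem (by simp only [Matrix.det_fin_two]; decide +kernel))
  exact ⟨of_has (H.ext [[0], [1, 0, 1]]
      [[4672, 36873, 37448, 32832, 4617, 36936], [584, 4169, 32833, 33288, 576, 4105]] (by decide +kernel))
      [(1, 63, 63, [[0, 1, 1, 0, 1, 1, 1], [0, 1, 0, 1, 0, 1, 1, 1], [1, 1, 0, 1, 1, 1, 1, 1]]), (512, 8, 8, [])]
      (by decide +kernel),
    of_has (H.ext [[0], [1, 0, 1, 0, 1, 1]]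
      [[4672, 36873, 37448, 32832, 4617, 36936], [32833, 4609, 36872, 32776, 4672, 36873]] (by decide +kernel))
      [(1, 63, 63, [[1, 1, 0, 1, 0, 1, 1, 0, 1], [0, 1, 1, 0, 1, 1, 0, 1, 0, 1, 0],
        [0, 1, 1, 0, 1, 0, 1, 1, 0, 1, 0, 1, 0, 1]]), (512, 8, 8, [])] (by decide +kernel)⟩

theorem v4 (F : Type) [Field F] [Fintype F] [IsSimpleGroup (PSL 2 F)] (hn : ¬ IsMulCommutative (PSL 2 F))
    (hF : Fintype.card F ≤ 10) : V4 (PSL 2 F) := by
  obtain ⟨p, hc⟩ := CharP.exists F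
  have hp := CharP.char_is_prime F p
  have := Fact.mk hp
  obtain ⟨V, hV⟩ := S0204.result (G := PSL 2 F) fun k => hn inferInstance
  have h1 : ∀ x ∈ V, x ^ 2 = 1 := fun x hx =>
    congrArg Subtype.val (hV.exponent_two ▸ Monoid.pow_exponent_eq_one (⟨x, hx⟩ : V))
  have h2 : V ≠ ⊥ := fun e => by
    have := hV.card_four
    rw [e, card_bot] at this
    omega
  have h3 : ∀ x ∈ V, ∀ y ∈ V, x * y = y * x := fun x hx y hy => by
    have k : ∀ z ∈ V, z⁻¹ = z := fun z hz => inv_eq_of_mul_eq_one_right (sq z ▸ h1 z hz)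
    rw [← k _ (mul_mem hx hy), mul_inv_rev, k x hx, k y hy]
  refine ⟨V, ⟨Nat.prime_two, h2, h1, h3⟩, hV.card_four, fun g hg ho => by_contra fun h4 => ?_⟩
  obtain ⟨⟨u, hu⟩, h5⟩ := ne_bot_iff_exists_ne_one.1 h2
  have h6 : Commute u g := hg u hu
  have h7 : 3 ≤ orderOf g := by
    have := mt orderOf_eq_one_iff.1 h4
    obtain ⟨a, ha⟩ := ho
    omega
  have h8 : orderOf u = 2 := orderOf_eq_prime (h1 u hu) fun e => h5 (Subtype.ext e)
  have h9 : orderOf (u * g) = 2 * orderOf g := by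
    rw [h6.orderOf_mul_eq_mul_orderOf_of_coprime (h8.symm ▸ ho.coprime_two_left), h8]
  have h10 : ∀ r : ℕ, r.Prime → (u * g) ^ r ≠ 1 := fun r hr e => by
    have k := h9 ▸ orderOf_dvd_of_pow_eq_one e
    have := Nat.le_of_dvd hr.pos k
    have := (Nat.prime_dvd_prime_iff_eq Nat.prime_two hr).1 ((dvd_mul_right _ _).trans k)
    omega
  have h11 := L2.cn_le p (x := u * g) (sq (u * g) ▸ h10 2 Nat.prime_two) (h10 p hp)
  have h12 : 4 * orderOf g ∣ cn (u * g) := by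
    rw [← hV.card_four, ← Nat.card_zpowers]
    refine Nat.Coprime.mul_dvd_of_dvd_of_dvd ?_ (card_dvd_of_le fun v hv => mem_centralizer_singleton_iff.2
      (Commute.mul_right (h3 v hv u hu) (hg v hv))) (card_dvd_of_le (zpowers_le.2 (mem_centralizer_singleton_iff.2
        (h6.symm.mul_right (Commute.refl g)))))
    rw [hV.card_four, Nat.card_zpowers]
    exact ho.coprime_two_left.pow_left 2
  have h13 : 4 * orderOf g ≤ cn (u * g) := Nat.le_of_dvd Nat.card_pos h12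
  have h14 := Nat.le_mul_of_pos_right (cn (u * g)) (Nat.gcd_pos_of_pos_left (Fintype.card F - 1) two_pos)
  omega

/-- the data of `L₂(n)` -/
theorem l2 [IsSimpleGroup S] (hn : ¬ IsMulCommutative S) {F : Type} [Field F] [Fintype F] (e : S ≃* PSL 2 F) {r f : ℕ}
    (hr : r.Prime) (hF : Fintype.card F = r ^ f) (h4 : 1 ≤ f ∧ 4 ≤ r ^ f ∧ r ^ f ≤ 10) :
    V4 S ∧ Nat.card S * Nat.gcd 2 (r ^ f - 1) = r ^ f * ((r ^ f) ^ 2 - 1) ∧
      Nat.card (MulAut S) = f * (r ^ f * ((r ^ f) ^ 2 - 1)) := by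
  have := Fact.mk hr
  have : IsSimpleGroup (PSL 2 F) := e.symm.isSimpleGroup
  refine ⟨(v4 F (fun k => hn ⟨⟨fun a b => e.injective (by rw [map_mul, map_mul, mul_comm'])⟩⟩) (hF ▸ h4.2.2)).congr e, ?_, ?_⟩
  · rw [Nat.card_congr e.toEquiv, ← hF]
    exact ClassicalGeometry.PSL2Basic.card_PSL2_gcd F
  · rw [Nat.card_congr (MulAut.congr e).toEquiv, S0813.result r f h4.1 hF 2 le_rfl fun _ => h4.2.1,
      ClassicalGeometry.PSL2Basic.card_PGL2, hF, if_pos rfl, one_mul]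

theorem ne_one {x y : S} (hn : ¬ IsMulCommutative S) (h : _root_.Subgroup.closure ({x, y} : Set S) = ⊤) : x ≠ 1 ∧ y ≠ 1 := by
  have k : ∀ z : S, _root_.Subgroup.closure ({x, y} : Set S) ≤ zpowers z → False := fun z hz => hn ⟨⟨fun a b => by
    obtain ⟨i, rfl⟩ := hz (h.ge (mem_top a))
    obtain ⟨j, rfl⟩ := hz (h.ge (mem_top b))
    exact (Commute.refl z).zpow_zpow i j⟩⟩
  refine ⟨fun e => k y ((closure_le _).2 ?_), fun e => k x ((closure_le _).2 ?_)⟩ <;> rintro _ (rfl | rfl)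
  exacts [e ▸ one_mem _, mem_zpowers _, mem_zpowers _, e ▸ one_mem _]

end data

theorem num {q : ℕ} (h : 5 ≤ q) : (4 * q ^ 9) ^ 3 * 60 ≤ 10 ^ 3 * ord 3 q := by
  obtain ⟨a, rfl⟩ := Nat.exists_eq_add_of_le' h
  zify
  rw [ordZ3 (by omega), ← sub_nonneg]
  push_cast
  ring_nf
  (clear * -; positivity)

variable {p q : ℕ} {T : Type} [Group T] [Finite T] [IsSimpleGroup T] {d : T → ℕ} {A S : Subgroup T}
  {Γ : Subgroup (MulAut T)} (h : Sh p 3 q T d) (C : Cx p A Γ) (hS : Sim A Γ S) (hp : p ≠ 2)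
include h C hS hp

theorem good {o a b c : ℕ} (hV : V4 S) (ho : Nat.card (MulAut S) = o * Nat.card S)
    (hi : 0 < o ∧ o ≤ 6 ∧ o * Nat.card S ≤ 3 ^ 10) (t : T3 S a b c) (hc : ¬ p ∣ a * b * c) : Good A := by
  obtain ⟨x, y, h1, h2, h3, h4, h5⟩ := t
  have h6 : 3 ≤ q := by
    have := h.par
    obtain ⟨a, rfl⟩ := h.q_odd hp
    omega
  have k : ∀ (z : S) (m : ℕ), z ^ m = 1 → m ∣ a * b * c → (orderOf z).Coprime p := fun z m k1 k2 =>
    ((h.prime.coprime_iff_not_dvd.2 hc).coprime_dvd_right ((orderOf_dvd_of_pow_eq_one k1).trans k2)).symm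
  exact good_tri h C hS hp ho.dvd hi.1 (by omega) hV h3 (ne_one hS.nonab h3).1 (ne_one hS.nonab h3).2 h5
    (k x a h1 ((dvd_mul_right _ _).mul_right _)) (k y b h2 ((dvd_mul_left _ _).mul_right _)) (k _ c h4 (dvd_mul_left _ _))
    (hi.2.2.trans (Nat.pow_le_pow_left h6 10))

/-- `A₅` in characteristic five -/
theorem five (h5 : p = 5) (hV : V4 S) (hc : Nat.card S = 60) (ho : Nat.card (MulAut S) = 2 * Nat.card S) (t : Tri S 2 3 5) :
    Good A := by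
  obtain ⟨x, y, h1, h2, h3, h4⟩ := t
  subst h5
  have h6 : 5 ≤ q := by
    obtain ⟨f, hf, rfl⟩ := h.pw
    exact Nat.le_self_pow hf.ne' 5
  obtain ⟨k1, k2⟩ := ne_one hS.nonab h4
  have h7 := no_four h C hS hp ho.dvd two_pos (by omega) hV h4
  rw [h.inv hp x (by rw [orderOf_coe]; exact orderOf_eq_prime h1 k1)] at h7
  have : Fact (Nat.Prime 3) := ⟨Nat.prime_three⟩
  have h8 : (orderOf (y : T)).Coprime 5 := by
    rw [orderOf_coe, orderOf_eq_prime h2 k2]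
    decide
  have h9 : (y : T) ≠ 1 := fun e => k2 (Subtype.ext e)
  by_cases k3 : d y ≤ 7
  · exact h.good_cm (hS.le y.2) h8 h9 k3 ((hS.card_le C).trans (by rw [ho, hc]; exact le_trans (by norm_num) (Nat.pow_le_pow_left h6 10)))
      (num_c3 (by omega))
  have k4 : d (x * y) ≤ 6 := by rcases h.cls y h8 h9 with e | e | e | e <;> omega
  have k5 : Cy1 S 5 10 := cy1_of_prime (n := 12) Nat.prime_five hc (by decide) fun m hm e => by
    have := Nat.le_of_dvd (by decide) hm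
    interval_cases m <;> (clear * - hm e; omega)
  refine hS.good C ho.dvd (by decide) k5 (by decide) (c := 4 * q ^ 9) (fun u hu e => (card_norm_le ?_).trans
    (Nat.mul_le_mul_left 4 (h.u5 rfl rfl u e ?_))) (by rw [hc, h.card]; exact num h6)
  · have k6 : ((zpowers u : Set T) \ {1}).ncard = 4 := by
      rw [Set.ncard_sdiff_singleton_of_mem (one_mem (zpowers u)), ← Nat.card_coe_set_eq, SetLike.coe_sort_coe,
        Nat.card_zpowers, e]
    refine k6 ▸ Set.ncard_le_ncard fun z hz => ⟨hz.1, fun k => ?_⟩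
    rw [isConj_one_left.1 (show IsConj u 1 from Set.mem_singleton_iff.1 k ▸ hz.2), orderOf_one] at e
    omega
  · rwa [h.d_cy k5 hu (mul_mem x.2 y.2) e (by rw [← coe_mul, orderOf_coe, h3])]

end Ods

open Ods in
/-- **[Ods]** -/
theorem boxOds : BoxOds := by
  rintro p k q T _ _ _ d A Γ h C ⟨rfl, hp⟩ S hS hP
  have := hS.simple
  have hq := h.prime
  have nd : ∀ {m r : ℕ}, r.Prime → p ≠ r → m ∣ (2 * r) ^ 3 → ¬ p ∣ m := fun hr k1 k2 k3 =>
    (hq.dvd_mul.1 (hq.dvd_of_dvd_pow (k3.trans k2))).elim (fun k => hp ((Nat.prime_dvd_prime_iff_eq hq Nat.prime_two).1 k))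
      fun k => k1 ((Nat.prime_dvd_prime_iff_eq hq hr).1 k)
  rcases hP with ⟨⟨e⟩⟩ | ⟨⟨e⟩⟩ | ⟨F, _, _, hF, ⟨e⟩⟩ | ⟨rfl, F, _, _, hF, ⟨e⟩⟩
  · have : Fact (Nat.Prime 5) := ⟨Nat.prime_five⟩
    obtain ⟨e'⟩ := S0253.result (ZMod.card 5)
    obtain ⟨h1, h2, h3⟩ := l2 hS.nonab (e.trans e'.symm) (r := 5) (f := 1) Nat.prime_five (ZMod.card 5) (by decide)
    have h4 : Nat.card S = 60 := by norm_num only [] at h2; omega
    have h5 : Nat.card (MulAut S) = 2 * Nat.card S := by rw [h3, h4]; norm_num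
    by_cases k : p = 5
    · exact five h C hS hp k h1 h4 h5 (N2C.RAlt.tri_5_2_3_5.congr e.symm)
    · exact good h C hS hp h1 h5 (by rw [h4]; norm_num) (of_tri (a5.congr e.symm) (by decide))
        (nd Nat.prime_five k (by decide))
  · have : Fact (Nat.Prime 3) := ⟨Nat.prime_three⟩
    have := Fintype.ofFinite (GaloisField 3 2)
    have hF : Fintype.card (GaloisField 3 2) = 3 ^ 2 := Nat.card_eq_fintype_card.symm.trans (GaloisField.card 3 2 two_ne_zero)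
    obtain ⟨e'⟩ := S0254.result hF
    obtain ⟨h1, h2, h3⟩ := l2 hS.nonab (e.trans e'.symm) Nat.prime_three hF (by decide)
    have h4 : Nat.card S = 360 := by norm_num only [] at h2; omega
    have h5 : Nat.card (MulAut S) = 4 * Nat.card S := by rw [h3, h4]; norm_num
    by_cases k : p = 5
    · exact good h C hS hp h1 h5 (by rw [h4]; norm_num) (of_tri (a6.congr e.symm) (by decide)) (k ▸ by decide)
    · exact good h C hS hp h1 h5 (by rw [h4]; norm_num) (of_tri (N2C.RAlt.tri_6_2_4_5.congr e.symm) (by decide))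
        (nd Nat.prime_five k (by decide))
  · obtain ⟨h1, h2, h3⟩ := l2 hS.nonab e (r := 2) (f := 3) Nat.prime_two hF (by decide)
    have h4 : Nat.card S = 504 := by norm_num only [_root_.mul_one] at h2; omega
    have h5 : Nat.card (MulAut S) = 3 * Nat.card S := by rw [h3, h4]; norm_num
    obtain ⟨t1, t2⟩ := l28 (S := S) ⟨F, _, _, hF, ⟨e⟩⟩
    by_cases k : p = 7
    · exact good h C hS hp h1 h5 (by rw [h4]; norm_num) t2 (k ▸ by decide)
    · exact good h C hS hp h1 h5 (by rw [h4]; norm_num) t1 (nd (by norm_num) k (by decide))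
  · obtain ⟨h1, h2, h3⟩ := l2 hS.nonab e (r := 7) (f := 1) hq hF (by decide)
    have h4 : Nat.card S = 168 := by norm_num only [] at h2; omega
    exact good h C hS hp h1 (o := 2) (by rw [h3, h4]; norm_num) (by rw [h4]; norm_num) (l27 ⟨F, _, _, hF, ⟨e⟩⟩) (by decide)

end Cfsg.Agent.N2.G2
end

-- part: N2/Tri/U56_mg
section
prune_inst 0x4000000000000000000000000000000000000000000100000108000000000000000000014000000000000000000000000000000000000000000000000000000000000000000000000000000000000000000000000000000000000000000000000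
set_option linter.all false
open scoped Cfsg.Agent.FastGrp

-- part: N2/Tri/U56
section
/-!
# N2 (S3519): triples of `U₅(2)` and `U₆(2)` (helper10)
-/

set_option autoImplicit false

namespace Cfsg.Agent.N2.Tg.U56

open Cfsg Matrix Subgroup Cfsg.Agent.SporadicA.FieldFour F4 Cfsg.Agent.H852.USixElts Cfsg.Agent.H410.QA Cfsg.Agent.H365.RIM
  Cfsg.Agent.SM.Uj

section sub

variable {G : Type*} [Group G] [Finite G] {T : Subgroup G}

theorem tri_sub {a b c : ℕ} {x y : G} (hx : x ∈ T) (hy : y ∈ T) (h1 : x ^ a = 1) (h2 : y ^ b = 1) (h3 : orderOf (x * y) = c)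
    (h4 : Nat.card T ≤ Nat.card (closure {x, y} : Subgroup G)) : Tri T a b c := by
  refine ⟨⟨x, hx⟩, ⟨y, hy⟩, Subtype.ext h1, Subtype.ext h2, (orderOf_coe _).symm.trans h3, map_injective T.subtype_injective ?_⟩
  rw [MonoidHom.map_closure, Set.image_pair, ← MonoidHom.range_eq_map, range_subtype]
  exact eq_of_le_of_card_ge ((closure_le _).2 (Set.pair_subset hx hy)) h4

end sub

def X5 : M6 := !![z,z,v,w,o,z; z,o,z,z,z,z; w,z,o,z,w,z; v,z,z,o,v,z; o,z,v,w,z,z; z,z,z,z,z,o]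
def Y4 : M6 := !![w,w,w,v,v,z; v,o,o,v,w,z; z,o,w,z,o,z; v,w,w,w,v,z; z,v,w,z,w,z; z,z,z,z,z,o]
def X6 : M6 := !![o,v,v,v,w,z; w,z,o,z,z,w; w,o,z,z,z,w; w,z,z,o,z,w; v,z,z,z,o,v; z,v,v,v,w,o]
def Y6 : M6 := !![w,v,w,z,w,w; o,o,w,z,z,z; v,w,w,z,o,o; o,z,w,o,o,w; z,z,z,w,o,o; o,z,w,o,w,o]

def A5 : ℕ := 0x8004000720e13832421213130080042701e0
def B5 : ℕ := 0x80040036d2db0c508f3fb2a61eb3960470ce
def A6 : ℕ := 0x9fc7a8e03902481c43409c07421c131fe3a9
def B6 : ℕ := 0xae3592ea3952b80640cff8aa03902789b476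

private theorem rX5 : SM.Uj.Rep A5 X5 := by unfold SM.Uj.Rep; decide +kernel
private theorem rY4 : SM.Uj.Rep B5 Y4 := by unfold SM.Uj.Rep; decide +kernel
private theorem rX6 : SM.Uj.Rep A6 X6 := by unfold SM.Uj.Rep; decide +kernel
private theorem rY6 : SM.Uj.Rep B6 Y6 := by unfold SM.Uj.Rep; decide +kernel

private theorem det_of {P : ℕ} {A : M6} (h : SM.Uj.Rep P A) (n : ℕ) (e : Nat.beq (pw P n) idC = true)
    (hn : ∀ x : F4, x ^ n = 1 → x = 1) : A.det = 1 :=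
  det_one_of_pow n ((h.pow n).eq (by rw [Nat.eq_of_beq_eq_true e]; exact rep_one)) hn

private theorem dX5 : X5.det = 1 := det_of rX5 2 (by decide +kernel) (by decide +kernel)
private theorem dY4 : Y4.det = 1 := det_of rY4 4 (by decide +kernel) (by decide +kernel)
private theorem dX6 : X6.det = 1 := det_of rX6 2 (by decide +kernel) (by decide +kernel)
private theorem dY6 : Y6.det = 1 := by
  have h := det_of (rX6.mul rY6) 11 (by decide +kernel) (by decide +kernel)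
  rwa [Matrix.det_mul, dX6, one_mul] at h

def a5 : SU6 := mk X5 (by decide +kernel) (id dX5)
def b5 : SU6 := mk Y4 (by decide +kernel) (id dY4)
def a6 : SU6 := mk X6 (by decide +kernel) (id dX6)
def b6 : SU6 := mk Y6 (by decide +kernel) (id dY6)

theorem rA5 : SM.Uj.Rep A5 (mat a5) := rX5
theorem rB5 : SM.Uj.Rep B5 (mat b5) := rY4
theorem rA6 : SM.Uj.Rep A6 (mat a6) := rX6
theorem rB6 : SM.Uj.Rep B6 (mat b6) := rY6

theorem pr_pow {P : ℕ} {a : SU6} (h : SM.Uj.Rep P (mat a)) (n : ℕ) (e : Nat.beq (pw P n) idC = true) : pr a ^ n = 1 := by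
  rw [← map_pow, (h.p n).eq' (b := 1) rep_one e, map_one]

theorem ord11 {P Q : ℕ} {a b : SU6} (h : SM.Uj.Rep P (mat a)) (h' : SM.Uj.Rep Q (mat b))
    (e : Nat.beq (pw (cmp P Q) 11) idC = true) (e' : dec (SM.Uj.get (cmp P Q) 0) 1 ≠ 0) : orderOf (pr a * pr b) = 11 := by
  rw [← map_mul]
  exact orderOf_pr (by norm_num) (((h.m h').p 11).eq' rep_one e) ((h.m h').ne e')

theorem ins' {P Q : ℕ} {a b : SU6} (h : SM.Uj.Rep P (mat a)) (h' : SM.Uj.Rep Q (mat b)) (n : ℕ) :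
    ∀ R ∈ [P, Q, pw Q n, cW], In ((closure {pr a, pr b} : Subgroup G0).comap pr) R := by
  simp only [List.mem_cons, List.not_mem_nil, or_false, forall_eq_or_imp, forall_eq]
  exact ⟨⟨_, subset_closure (by simp), h⟩, ⟨_, subset_closure (by simp), h'⟩,
    ⟨_, pow_mem (mem_comap.2 (subset_closure (by simp))) n, h'.p n⟩, ⟨ww, by rw [mem_comap, pr_ww]; exact one_mem _, rW⟩⟩

theorem le5 : 13685760 ≤ Nat.card (closure {pr a5, pr b5} : Subgroup G0) :=
  leT (mem_of_ev (ins' rA5 rB5 3) (w := [0, 1, 0, 1, 0, 1, 0, 2, 0, 1, 0, 1, 0, 1, 0, 2, 0, 2, 0, 2, 0, 1, 1, 0, 2, 0, 2, 0, 1,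
      0, 1, 1, 0, 1, 0, 2]) rX (by decide +kernel))
    (mem_of_ev (ins' rA5 rB5 3) (w := [0, 2, 0, 2, 0, 1, 0, 2, 0, 1, 1, 0, 1, 0, 2, 0, 1, 0, 1, 1, 0, 2, 0, 1]) rF
      (by decide +kernel))
    (mem_of_ev (ins' rA5 rB5 3) (w := [3, 3, 0, 2, 0, 1, 0, 2, 0, 2, 0, 1, 0, 1, 0, 2, 0, 2, 0, 1, 0, 2, 0, 2, 0, 1, 0, 1, 0, 1,
      1, 0, 1, 1, 0]) rC (by decide +kernel))

theorem le6 : 9196830720 ≤ Nat.card (closure {pr a6, pr b6} : Subgroup G0) := by
  have k := chain_le [(1024, 2016, [[0, 2, 0, 1, 0, 1, 0, 1, 0, 1, 0, 2, 0, 1, 0, 1, 0, 1, 0, 2, 0, 1, 0, 2, 0, 2, 0, 2, 0, 2, 0,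
      1, 0, 2, 0, 1, 0, 2, 0, 1, 0, 1, 0, 1, 0, 2, 0, 1, 0, 2, 0, 1, 0, 2, 0, 1, 0, 1, 0, 1, 0, 2, 0, 1, 0, 1, 0, 1, 0],
      [2, 0, 2, 0, 2, 0, 1, 0, 1, 0, 1, 0, 1, 0, 2, 0, 1, 0, 1, 0, 2, 0, 2, 0, 1, 0, 2, 0, 2, 0, 1, 0, 1, 0, 2, 0, 1, 0, 1, 0, 2,
        0, 1, 0, 2, 0, 2, 0, 1, 0, 1, 0, 2, 0, 1, 0, 1, 0, 2, 0, 1, 0, 1, 0, 2, 0, 1, 0, 2, 0, 2],
      [0, 1, 0, 2, 0, 1, 0, 1, 0, 2, 0, 1, 0, 2, 0, 1, 0, 2, 0, 1, 0, 1, 0, 1, 0, 2, 0, 2, 0, 1, 0, 2, 0, 2, 0, 1, 0, 1, 0, 1, 0,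
        2, 0, 1, 0, 1, 0, 2, 0, 2, 0, 1, 0, 2, 0, 2, 0, 1, 0, 2, 0, 2, 0, 1]]),
    (1, 528, [[0, 2, 0, 0, 2, 0, 2, 0, 2], [2, 1, 1, 1, 0, 2, 0, 2, 2, 0, 2]]),
    (4, 120, [[1, 1, 0, 1, 1, 0, 1, 1, 1, 0, 0, 0], [0, 1, 1, 1, 1, 0]]), (16, 36, [[0, 1, 0, 0, 1, 0], [1, 0, 0, 1]]),
    (64, 6, [])] _ _ (ins' rA6 rB6 2) (by decide +kernel)
  rw [card_comap] at k
  exact Nat.le_of_mul_le_mul_left (c := 3) (le_of_eq_of_le (by norm_num) k) (by norm_num)

theorem t6 : Tri G0 2 3 11 := by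
  have := finite_PSU
  exact ⟨pr a6, pr b6, pr_pow rA6 2 (by decide +kernel), pr_pow rB6 3 (by decide +kernel),
    ord11 rA6 rB6 (by decide +kernel) (by decide +kernel),
    eq_top_of_le_card _ (card_PSU ▸ le6)⟩

theorem fx3 : f ^ 4 * x * (f ^ 4)⁻¹ = x ^ 3 := by
  rw [conj_iter fx 4, pow_eq_pow_mod _ (ord_x ▸ pow_orderOf_eq_one x : x ^ 11 = 1), show 4 ^ 4 % 11 = 3 from rfl]

theorem cx : centralizer {x} ≤ zpowers x := by
  have := finite_PSU
  exact (eq_of_le_of_card_ge (zpowers_le.2 (mem_centralizer_singleton_iff.2 rfl))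
    (by rw [Nat.card_zpowers, ord_x, cent_eleven ord_x])).ge

/-- **`U₆(2)`** -/
theorem dat_u62 {N : Type} [Group N] (h : OrdDiv.Real (.psu 6 2) N) : Tri N 2 3 11 ∧ Cj N 11 3 ∧ SC N 11 := by
  obtain ⟨F, _, _, hF, ⟨e⟩⟩ := h
  let e' := (e.trans (LieClassical.FieldTransfer.psuCongr 6 2
    (FiniteField.ringEquivOfCardEq (hF.trans (by decide : 2 ^ 2 = Fintype.card F4))))).symm
  exact ⟨t6.congr e', Cj.congr e' ⟨x, ord_x, isConj_iff.2 ⟨_, fx3⟩⟩, SC.congr e' ⟨x, ord_x, cx⟩⟩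

/-- the subgroup `U₅(2)` -/
def T5 : Subgroup G0 := (SM.Uc.emb hF4).range

theorem mem5 {a : SU6} (h : mat a *ᵥ SM.Uc.lst F4 = SM.Uc.lst F4) : pr a ∈ T5 := by
  rw [T5, SM.Uc.range_emb]
  exact (SM.Uc.pr_mem_Pt hF4 (by norm_num) SM.Uc.lst_ne).2 ⟨1, h.trans (one_smul _ _).symm⟩

theorem card5 : Nat.card T5 = 13685760 :=
  (Nat.card_congr (MonoidHom.ofInjective (SM.Uc.emb_injective hF4)).toEquiv).symm.trans (SM.Uc.card_su5 hF4)

theorem x5 : x ∈ T5 := mem5 (show XM *ᵥ _ = _ by decide +kernel)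

theorem f5' : f ∈ T5 := mem5 (show P5 *ᵥ _ = _ by decide +kernel)

/-- **`U₅(2)`** -/
theorem dat_u52 {N : Type} [Group N] (h : OrdDiv.Real (.psu 5 2) N) : Tri N 2 4 11 ∧ Cj N 11 3 ∧ SC N 11 := by
  have := finite_PSU
  obtain ⟨F, _, _, hF, ⟨e⟩⟩ := h
  let e' : T5 ≃* N := (((e.trans (LieClassical.FieldTransfer.psuCongr 5 2
    (FiniteField.ringEquivOfCardEq (hF.trans (by decide : 2 ^ 2 = Fintype.card F4))))).trans
      (MulEquiv.ofBijective _ ⟨SM.Uc.pr_injective5 hF4, H674.SUBlock.pr_surjective⟩).symm).trans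
        (MonoidHom.ofInjective (SM.Uc.emb_injective hF4))).symm
  have ho : orderOf (⟨x, x5⟩ : T5) = 11 := (orderOf_coe _).symm.trans ord_x
  refine ⟨Tri.congr e' (tri_sub (mem5 (a := a5) (show X5 *ᵥ _ = _ by decide +kernel))
    (mem5 (a := b5) (show Y4 *ᵥ _ = _ by decide +kernel)) (pr_pow rA5 2 (by decide +kernel)) (pr_pow rB5 4 (by decide +kernel))
    (ord11 rA5 rB5 (by decide +kernel) (by decide +kernel)) (card5 ▸ le5)),
    Cj.congr e' ⟨_, ho, isConj_iff.2 ⟨@HPow.hPow _ _ _ instHPow ⟨f, f5'⟩ (4 : ℕ), Subtype.ext fx3⟩⟩, SC.congr e' ⟨_, ho, fun y hy => ?_⟩⟩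
  obtain ⟨k, hk⟩ := cx (mem_centralizer_singleton_iff.2 (congrArg Subtype.val (mem_centralizer_singleton_iff.1 hy)))
  exact ⟨k, Subtype.ext hk⟩

end Cfsg.Agent.N2.Tg.U56
end

-- part: N2/Tri/O8p
section
/-!
# N2 triples: `Ω₈⁺(2)` is `(2, 4, 7)`-generated; elements of order `7` (helper38)
-/

set_option autoImplicit false

namespace Cfsg.Agent.N2.Tg.O8p

open Subgroup Cfsg.Agent.LieClassical.OrthCore Cfsg.Agent.N2.Tg.Orth
open Cfsg.Agent.StdO8.Model (V q Om Om_le O8_B)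
open Cfsg.Agent.StdO8.Code (dec qn Bn dec_xor dec_surj dec_inj dec_zero q_dec B_dec cc_inj)

theorem cod : Cod q dec qn := ⟨dec_xor, dec_surj, q_dec⟩

def lx : List (ℕ × ℕ) := [(146, 106), (157, 58)]
def ly : List (ℕ × ℕ) := [(4, 128), (40, 222), (87, 136)]
def tx : ℕ := 0xa063ad6e36f53bf8f734fa3961a26caf17d41ad981428c4f40834d8ed615db1877b47ab9e122ec2f20e32deeb675bb78c003cd0e56955b9897549a5901c20ccf47844a89d112dc1f10d31dde86458b48f033fd3e66a56ba8a764aa6931f23cff90539d5e06c50bc8c704ca0951925c9f27e42ae9b172bc7f70b37dbee625eb28884b85461edd13d0df1cd211498a44873ffc32f1a96aa46768ab65a6fe3df3305f9c5291c90ac40708cb05c69e5d9350e82be5267ebd73b0bf7cb27129ea24e76fac62a1f93af43738fb35f6ae6da360d81bd5164e8d43808f4c824119da14d7b87bb5762eed23e0ef2ce22179ba74b70fcc02c1995a9457589b5596ce0dc300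
def ty : ℕ := 0xc56540e53090b518dd7d58fd2888ad06b313369346e6c36eab0b2e8b5efedb7772d2f752872702af6acaef4a9f3f1ab104a48124f15174d91cbc993ce9496cc97cdcf95c89290ca164c4e144913114bf0aaa8f2aff5f7ad712b29732e74762cecb6b4eeb3e9ebb16d37356f32686a308bd1d389d48e8cd60a505208550f0d575b010359045e5c06da8082d885dfdd873c66643e63393b61bde7e5bfe2b8bae0207a78227f25277da1fbf9a3fea4a6fc471d1f451842401ac69c9ec499c3c19bc09a98c29fc5c79d411b19431e44461ca7fdffa5f8a2a0fa267c7e247923217bbbe1e3b9e4bebce63a606238653f3d67dc8684de83d9db815d07055f02585a00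
def wR : List Bool := bits 200 731
def wL : List (List Bool) := [1, 1750701, 3501431, 5626554, 7002859, 7255517].map (bits 200)
def wT : ℕ := 0x36ae000000000000000000000000000377000000000000000006ad000000155b000000000000000000000000006aea0000000d5a00000000000000000002000000000000000000000000003d5a000000000000000000000000000d7500000005750000001aba00000001ea000000000000000000000000000dd600000002ab000000000000000000000000000000000000000000000006ba00000002aa0000000000000000dabb00000000000000000057000000035d0000000000000000055d0000000000000000d5d500000000000000001ab500000000000000000000000000000500000000000000007ab5000000003600000002ad00000055770000000037000000000000000000000000000000000000000000000000000000000000000000000000000000000000000156000000006b000000daba000000001b00000000000000002abb000000003d00000000000000000000000000000300000000ae000000000000000000da00000000000000000000000001b5760000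0001ba0000000000000000000000000005570000001ead000000356b000000000000000000000000000f560000000daa000000000000000000000000000000000000000000000006d500000015d600000000000000000000000000006a0000001b5700000002ba000000000000000d75d500000000000000000dd7000000000000000036ad00000000000000000000000001aeba000000000000000000d7000000000000000000070000000000000000015d00000000000000000000000000000000000000000000000000000000000000000000000000000000000000157600000000dd0000000dd50000002ad5000000055600000000150000000d5d00000001ab000000000000000000550000001baa00000000000000006bae000000000000000000000000006ead000000000000000000d5000000000a000000000000000006ea000000000000000000000000000abb000000001a00000003d500000000000000000000000000000000000000000000000aeb000000000f000000001e00000007ab00000000000000000000000000000000000000000000000001000000036b000001aebb000000000000000037560000000000000000000000000001570000000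000000000156b000000035700000000000000000aad000000000000000000000000001bab000000000000000001bb000000000000000000000000000000000000000000000000aa000000007a00000003750000000aae00000000000000000000000000000000000000000000001b5600000000f5000006baeb00000006eb000000000d00000000000000000000000000003500000015d700000000000000000000000006baea0000035d750000000000000000000000000035750000001aeb0000000000000000000000000002bb00000000000000000000000000356a000000036a000000000000000000000000000dab000000035600000000000000000000000000002a00000d75d600000000000000000000000006d5da000001abaa000000000000000035d7000000000000000001aa0000000000000000155d00000000000000000155000000000000000001b500000000000000036aed000000000000000000060000000000000000006d000000002b000000006e000000156a0000006d5d0000002ab700000002ae00000001ae00000006ae0000002ad60000001bae000000155a000000d75d000000055a0000000ab500000000ab0000000000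
def lg : List (ℕ × ℕ) := [(22, 102), (64, 50), (55, 80)]
def lh : List (ℕ × ℕ) := [(159, 23), (36, 70), (64, 19)]
def tg : ℕ := 0xedefe9ebeeeceae8e5e7e1e3e6e4e2e0dddfd9dbdedcdad8d5d7d1d3d6d4d2d0adafa9abaeacaaa8a5a7a1a3a6a4a2a09d9f999b9e9c9a989597919396949290fdfff9fbfefcfaf8f5f7f1f3f6f4f2f0cdcfc9cbcecccac8c5c7c1c3c6c4c2c0bdbfb9bbbebcbab8b5b7b1b3b6b4b2b08d8f898b8e8c8a8885878183868482806d6f696b6e6c6a6865676163666462605d5f595b5e5c5a5855575153565452502d2f292b2e2c2a2825272123262422201d1f191b1e1c1a1815171113161412107d7f797b7e7c7a7875777173767472704d4f494b4e4c4a4845474143464442403d3f393b3e3c3a3835373133363432300d0f090b0e0c0a080507010306040200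
def th : ℕ := 0xbdadddcdfded9d8d3d2d5d4d7d6d1d0dbcacdcccfcec9c8c3c2c5c4c7c6c1c0cbfafdfcfffef9f8f3f2f5f4f7f6f1f0fbeaedecefeee9e8e3e2e5e4e7e6e1e0ebbabdbcbfbeb9b8b3b2b5b4b7b6b1b0bbaaadacafaea9a8a3a2a5a4a7a6a1a0ab9a9d9c9f9e999893929594979691909b8a8d8c8f8e898883828584878681808b5a5d5c5f5e595853525554575651505b4a4d4c4f4e494843424544474641404b7a7d7c7f7e797873727574777671707b6a6d6c6f6e696863626564676661606b3a3d3c3f3e393833323534373631303b2a2d2c2f2e292823222524272621202b1a1d1c1f1e191813121514171611101b0a0d0c0f0e090803020504070601000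

private noncomputable def _root_.Cfsg.Agent.LsF.f6aca71_2 : {f // @Cfsg.Agent.N2.Tg.Orth.bn = f} := ⟨_, by first | (delta Cfsg.Agent.N2.Tg.Orth.bn; rewrite [Cfsg.Agent.LsF.nxor_pat, Cfsg.Agent.LsF.bxor_eq]; exact rfl) | exact rfl⟩
private noncomputable def _root_.Cfsg.Agent.LsF.f6aca71_3 : {f // @Cfsg.Agent.N2.Tg.Orth.ok = f} := ⟨_, by first | (delta Cfsg.Agent.N2.Tg.Orth.ok; rewrite [Cfsg.Agent.LsF.f6aca71_2.2, Cfsg.Agent.LsF.and_eq, Cfsg.Agent.LsF.not_eq]; exact rfl) | exact rfl⟩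
private noncomputable def _root_.Cfsg.Agent.LsF.f6aca71_4 : {f // @Cfsg.Agent.N2.Tg.Orth.al = f} := ⟨_, by first | (delta Cfsg.Agent.N2.Tg.Orth.al; rewrite [Cfsg.Agent.LsF.all_eq, Cfsg.Agent.LsF.range_eq]; exact rfl) | exact rfl⟩
private noncomputable def _root_.Cfsg.Agent.LsF.f6aca71_5 : {f // @Cfsg.Agent.N2.Tg.Orth.lk = f} := ⟨_, by first | (delta Cfsg.Agent.N2.Tg.Orth.lk; rewrite [Cfsg.Agent.LsF.nmul_pat, Cfsg.Agent.LsF.nmod_pat, Cfsg.Agent.LsF.nshr_pat]; exact rfl) | exact rfl⟩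
private noncomputable def _root_.Cfsg.Agent.LsF.f6aca71_6 : {f // @Cfsg.Agent.N2.Tg.Orth.xn = f} := ⟨_, by first | (delta Cfsg.Agent.N2.Tg.Orth.xn; rewrite [Cfsg.Agent.LsF.f6aca71_2.2, Cfsg.Agent.LsF.nxor_pat, Cfsg.Agent.LsF.and_eq, Cfsg.Agent.LsF.dBoolEq_eq, Cfsg.Agent.LsF.ite_eq]; exact rfl) | exact rfl⟩
private noncomputable def _root_.Cfsg.Agent.LsF.f6aca71_7 : {f // @Cfsg.Agent.N2.Tg.Orth.ev = f} := ⟨_, by first | (delta Cfsg.Agent.N2.Tg.Orth.ev List.brecOn List.brecOn.go Cfsg.Agent.N2.Tg.Orth.ev._f; rewrite [Cfsg.Agent.LsF.f6aca71_6.2]; (try delta Cfsg.Agent.N2.Tg.Orth.ev.match_1); (try delta List.casesOn); first | dsimp -zeta only | exact rfl) | exact rfl⟩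
private noncomputable def _root_.Cfsg.Agent.LsF.f6aca71_8 : {f // @Cfsg.Agent.N2.Tg.Orth.tabChk = f} := ⟨_, by first | (delta Cfsg.Agent.N2.Tg.Orth.tabChk; rewrite [Cfsg.Agent.LsF.f6aca71_3.2, Cfsg.Agent.LsF.f6aca71_4.2, Cfsg.Agent.LsF.f6aca71_5.2, Cfsg.Agent.LsF.f6aca71_7.2, Cfsg.Agent.LsF.nbeq_pat, Cfsg.Agent.LsF.and_eq, Cfsg.Agent.LsF.all_eq]; exact rfl) | exact rfl⟩
theorem cx : tabChk qn lx tx = true := by ((try (rewrite [Cfsg.Agent.LsF.f6aca71_8.2])); decide +kernel)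
theorem cy : tabChk qn ly ty = true := by ((try (rewrite [Cfsg.Agent.LsF.f6aca71_8.2])); decide +kernel)
theorem cg : tabChk qn lg tg = true := by ((try (rewrite [Cfsg.Agent.LsF.f6aca71_8.2])); decide +kernel)
theorem ch : tabChk qn lh th = true := by ((try (rewrite [Cfsg.Agent.LsF.f6aca71_8.2])); decide +kernel)
theorem c2 : al (fun a => (lk tx)^[2] a == id a) = true := by decide +kernel
theorem c4 : al (fun a => (lk ty)^[4] a == id a) = true := by decide +kernel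
theorem c7 : al (fun a => (fun b => lk tx (lk ty b))^[7] a == id a) = true := by decide +kernel
theorem g7 : al (fun a => (lk tg)^[7] a == id a) = true := by decide +kernel
private noncomputable def _root_.Cfsg.Agent.LsF.f6aca71_10 : {f // @Cfsg.Agent.N2.Tg.Orth.sums = f} := ⟨_, by first | (delta Cfsg.Agent.N2.Tg.Orth.sums List.brecOn List.brecOn.go Cfsg.Agent.N2.Tg.Orth.sums._f; rewrite [Cfsg.Agent.LsF.nxor_pat, Cfsg.Agent.LsF.lappend_pat, Cfsg.Agent.LsF.map_eq]; (try delta Cfsg.Agent.N2.Tg.Orth.sums.match_1); (try delta List.casesOn); first | dsimp -zeta only | exact rfl) | exact rfl⟩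
private noncomputable def _root_.Cfsg.Agent.LsF.f6aca71_11 : {f // @Cfsg.Agent.N2.Tg.Orth.bits = f} := ⟨_, by first | (delta Cfsg.Agent.N2.Tg.Orth.bits Cfsg.Agent.N2.Tg.Orth.bits._f Nat.brecOn.go Nat.brecOn; rewrite [Cfsg.Agent.LsF.ndiv_pat, Cfsg.Agent.LsF.nmod_pat, Cfsg.Agent.LsF.nbeq_pat, Cfsg.Agent.LsF.decLe_eq, Cfsg.Agent.LsF.ite_eq]; (try delta Cfsg.Agent.N2.Tg.Orth.bits.match_1); (try delta Nat.casesOn); first | dsimp -zeta only | exact rfl) | exact rfl⟩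
private noncomputable def _root_.Cfsg.Agent.LsF.f6aca71_12 : {f // @Cfsg.Agent.N2.Tg.Orth.lw = f} := ⟨_, by first | (delta Cfsg.Agent.N2.Tg.Orth.lw; rewrite [Cfsg.Agent.LsF.nmul_pat, Cfsg.Agent.LsF.nmod_pat, Cfsg.Agent.LsF.nshr_pat]; exact rfl) | exact rfl⟩
private noncomputable def _root_.Cfsg.Agent.LsF.f6aca71_13 : {f // @Cfsg.Agent.N2.Tg.Orth.topChk = f} := ⟨_, by first | (delta Cfsg.Agent.N2.Tg.Orth.topChk List.brecOn List.brecOn.go Cfsg.Agent.N2.Tg.Orth.ew._f Cfsg.Agent.N2.Tg.Orth.ew; rewrite [Cfsg.Agent.LsF.f6aca71_3.2, Cfsg.Agent.LsF.f6aca71_4.2, Cfsg.Agent.LsF.f6aca71_6.2, Cfsg.Agent.LsF.f6aca71_2.2, Cfsg.Agent.LsF.f6aca71_10.2, Cfsg.Agent.LsF.f6aca71_11.2, Cfsg.Agent.LsF.f6aca71_12.2, Cfsg.Agent.LsF.nbeq_pat, Cfsg.Agent.LsF.instNBEq_pat, Cfsg.Agent.LsF.and_eq, Cfsg.Agent.LsF.or_eq, Cfsg.Agent.LsF.decLt_eq, Cfsg.Agent.LsF.all_eq, Cfsg.Agent.LsF.map_eq, Cfsg.Agent.LsF.contains_eq, Cfsg.Agent.LsF.dBoolEq_eq,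 Cfsg.Agent.LsF.ite_eq, Cfsg.Agent.LsF.decide_eq]; (try delta Cfsg.Agent.N2.Tg.Orth.ew.match_1); (try delta List.casesOn); first | dsimp -zeta only | exact rfl) | exact rfl⟩
private noncomputable def _root_.Cfsg.Agent.LsF.f6aca71_14 : {f // @Cfsg.Agent.N2.Tg.O8p.wR = f} := ⟨_, by first | (delta Cfsg.Agent.N2.Tg.O8p.wR; rewrite [Cfsg.Agent.LsF.f6aca71_11.2]; exact rfl) | exact rfl⟩
private noncomputable def _root_.Cfsg.Agent.LsF.f6aca71_15 : {f // @Cfsg.Agent.N2.Tg.O8p.wL = f} := ⟨_, by first | (delta Cfsg.Agent.N2.Tg.O8p.wL; rewrite [Cfsg.Agent.LsF.f6aca71_11.2, Cfsg.Agent.LsF.map_eq]; exact rfl) | exact rfl⟩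
theorem ct : topChk qn (lk tx) (lk ty) 97 146 wR wL wT = true := by ((try (rewrite [Cfsg.Agent.LsF.f6aca71_13.2, Cfsg.Agent.LsF.f6aca71_5.2, Cfsg.Agent.LsF.f6aca71_14.2, Cfsg.Agent.LsF.f6aca71_15.2])); decide +kernel)
theorem cj : al (fun a => ew (lk tg) (lk th) [true, false] a == ew (lk tg) (lk th) [false, false, false, true] a) = true := by
  decide +kernel

theorem ord {g : Om} {f : ℕ → ℕ} (hg : Ac dec g f) (h7 : al (fun a => f^[7] a == id a) = true) (h1 : f 1 ≠ 1) :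
    orderOf g = 7 := by
  have : Fact (Nat.Prime 7) := ⟨by norm_num⟩
  refine orderOf_eq_prime (cod.pow_one hg h7) ?_
  rintro rfl
  obtain ⟨h2, h3⟩ := hg 1 (by norm_num)
  exact h1 (dec_inj h2 (by norm_num) h3.symm)

theorem tri : Tri Om 2 4 7 :=
  ⟨_, _, cod.pow_one (cod.tab cx) c2, cod.pow_one (cod.tab cy) c4,
    ord ((cod.tab cx).mul (cod.tab cy)) c7 (by decide +kernel), cod.top_of_chk (cod.tab cx) (cod.tab cy) ct⟩

theorem ord_g : orderOf (word q dec lg) = 7 := ord (cod.tab cg) g7 (by decide +kernel)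

theorem conj : Cj Om 7 3 := by
  refine ⟨_, ord_g, isConj_iff.2 ⟨word q dec lh, ?_⟩⟩
  have h := cod.rel (cod.tab cg) (cod.tab ch) cj
  simp only [wd_cons, wd_nil, if_true, Bool.false_eq_true, if_false, mul_one] at h
  rw [h, pow_three]
  group

/-- `X³ + X + 1` -/
def pa (a : ℕ) : ℕ := lk tg (lk tg (lk tg a)) ^^^ lk tg a ^^^ a
/-- `X³ + X² + 1` -/
def pb (a : ℕ) : ℕ := lk tg (lk tg (lk tg a)) ^^^ lk tg (lk tg a) ^^^ a

theorem ka : ∀ b < 256, pa b = 0 → b ≠ 0 → ∃ i < 7, (lk tg)^[i] 1 = b := by decide +kernel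
theorem kb : ∀ a ∈ [16, 32, 64], pb a = 0 ∧ ∀ b < 256, pb b = 0 → Bn 1 b = Bn 1 a → Bn 2 b = Bn 2 a → Bn 4 b = Bn 4 a →
    b = a := by decide +kernel

theorem step {c : Om} (hc : c * word q dec lg = word q dec lg * c) {a b : ℕ} (ha : a < 256) (hb : b < 256)
    (h : (c : V ≃ₗ[ZMod 2] V) (dec a) = dec b) : (c : V ≃ₗ[ZMod 2] V) (dec (lk tg a)) = dec (lk tg b) := by
  rw [← (cod.tab cg a ha).2, ← (cod.tab cg b hb).2, ← h]
  generalize word q dec lg = g at hc ⊢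
  exact congrArg (fun z : Om => (z : V ≃ₗ[ZMod 2] V) (dec a)) hc

theorem xor_lt {a b : ℕ} (ha : a < 256) (hb : b < 256) : a ^^^ b < 256 := Nat.xor_lt_two_pow (n := 8) ha hb

theorem zero_of {c : Om} {a b : ℕ} (hb : b < 256) (h : (c : V ≃ₗ[ZMod 2] V) (dec a) = dec b) (ha : a = 0) : b = 0 := by
  rw [ha, dec_zero, map_zero, ← dec_zero] at h
  exact (dec_inj (by norm_num) hb h).symm

theorem eq_one {c : Om} (hc : c * word q dec lg = word q dec lg * c) (h1 : (c : V ≃ₗ[ZMod 2] V) (dec 1) = dec 1) : c = 1 := by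
  have e1 : lk tg 1 = 2 := by decide +kernel
  have e2 : lk tg 2 = 4 := by decide +kernel
  have h2 := step hc (by norm_num) (by norm_num) h1
  rw [e1] at h2
  have h4 := step hc (by norm_num) (by norm_num) h2
  rw [e2] at h4
  have key : ∀ a ∈ [16, 32, 64], (c : V ≃ₗ[ZMod 2] V) (dec a) = dec a := by
    intro a ha
    have ha' : a < 256 := by
      simp only [List.mem_cons, List.not_mem_nil, or_false] at ha
      omega
    obtain ⟨b, hb, e⟩ := dec_surj ((c : V ≃ₗ[ZMod 2] V) (dec a))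
    have s1 := step hc ha' hb e.symm
    have s2 := step hc (lk_lt _ _) (lk_lt _ _) s1
    have s3 := step hc (lk_lt _ _) (lk_lt _ _) s2
    have s4 : (c : V ≃ₗ[ZMod 2] V) (dec (pb a)) = dec (pb b) := by
      rw [pb, pb, dec_xor, dec_xor, dec_xor, dec_xor, map_add, map_add, s3, s2, e]
    have hB : ∀ u, (c : V ≃ₗ[ZMod 2] V) (dec u) = dec u → Bn u b = Bn u a := by
      intro u hu
      apply cc_inj
      rw [← B_dec, ← B_dec, e, ← O8_B (Om_le c.2) (dec u) (dec a), hu]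
    rw [← e, (kb a ha).2 b hb (zero_of (xor_lt (xor_lt (lk_lt _ _) (lk_lt _ _)) hb) s4 (kb a ha).1) (hB _ h1) (hB _ h2)
      (hB _ h4)]
  refine StdO8.Gen.fin_step c fun a ha => ?_
  simp only [List.mem_cons, List.not_mem_nil, or_false] at ha
  rcases ha with rfl | rfl | rfl | rfl | rfl | rfl
  · exact key _ (by simp)
  · exact h4
  · exact h1
  · exact h2
  · exact key _ (by simp)
  · exact key _ (by simp)

theorem sc : SC Om 7 := by
  refine ⟨_, ord_g, fun c hc => ?_⟩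
  have hc' : c * word q dec lg = word q dec lg * c := mem_centralizer_singleton_iff.1 hc
  obtain ⟨b, hb, e⟩ := dec_surj ((c : V ≃ₗ[ZMod 2] V) (dec 1))
  have s1 := step hc' (by norm_num) hb e.symm
  have s2 := step hc' (lk_lt _ _) (lk_lt _ _) s1
  have s3 := step hc' (lk_lt _ _) (lk_lt _ _) s2
  have s4 : (c : V ≃ₗ[ZMod 2] V) (dec (pa 1)) = dec (pa b) := by
    rw [pa, pa, dec_xor, dec_xor, dec_xor, dec_xor, map_add, map_add, s3, s1, e]
  have h0 : b ≠ 0 := by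
    rintro rfl
    rw [dec_zero, eq_comm, LinearEquiv.map_eq_zero_iff, ← dec_zero] at e
    exact absurd (dec_inj (by norm_num) (by norm_num) e) (by norm_num)
  obtain ⟨i, -, hi⟩ := ka b hb (zero_of (xor_lt (xor_lt (lk_lt _ _) (lk_lt _ _)) hb) s4 (by decide +kernel)) h0
  have h1 := ((cod.tab cg).pow i 1 (by norm_num)).2
  rw [hi, e] at h1
  have h2 : (word q dec lg ^ i)⁻¹ * c = 1 := by
    refine eq_one ?_ ?_
    · simp only [mul_assoc ((word q dec lg ^ i)⁻¹) c (word q dec lg), hc', ← mul_assoc ((word q dec lg ^ i)⁻¹) (word q dec lg) c, ← mul_assoc (word q dec lg) ((word q dec lg ^ i)⁻¹) c, ((Commute.refl (word q dec lg)).pow_left i).inv_left.eq]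
    · show ((word q dec lg ^ i : Om) : V ≃ₗ[ZMod 2] V).symm ((c : V ≃ₗ[ZMod 2] V) (dec 1)) = dec 1
      rw [← h1, LinearEquiv.symm_apply_apply]
  rw [← inv_mul_eq_one.1 h2]
  exact pow_mem (mem_zpowers _) i

/-- **`Ω₈⁺(2)`** -/
theorem dat_o8p {N : Type} [Group N] (h : OrdDiv.Real (.oplus 4 2) N) : Tri N 2 4 7 ∧ Cj N 7 3 ∧ SC N 7 := by
  obtain ⟨F, _, _, hF, ⟨e⟩⟩ := h
  obtain ⟨e'⟩ := StdO8.Model.exists_equiv hF
  have e1 := (e.trans e').symm
  exact ⟨tri.congr e1, conj.congr e1, sc.congr e1⟩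

end Cfsg.Agent.N2.Tg.O8p
end

-- part: N2/Tri/Sz8
section
/-!
# N2 triples: `Sz(8)` is `(2, 4, 13)`-generated; elements of order `13` (helper38)
-/

set_option autoImplicit false

namespace Cfsg.Agent.N2.Tg.Sz8

open Subgroup Cfsg.Agent.N2.Tg.Orth Cfsg.Agent.LieExceptional.SuzukiBasic Cfsg.Agent.TypeD4Two Cfsg.Agent.TypeD4Two.F8
open scoped MatrixGroups

theorem hF : Fintype.card F8 = 2 ^ (2 * 1 + 1) := card_F8

/-- the group -/
abbrev G : Type := ↥(Cfsg.Sz F8 1)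

/-- decoding of the points of the ovoid -/
def dec (n : ℕ) : Projectivization F8 (Fin 4 → F8) :=
  if n < 64 then pt 1 (ofN n) (ofN (n / 8)) else suzukiPointInfinity F8

theorem dec_lt {n : ℕ} (h : n < 64) : dec n = pt 1 (ofN n) (ofN (n / 8)) := if_pos h
theorem dec_64 : dec 64 = suzukiPointInfinity F8 := if_neg (by norm_num)
theorem dec_0 : dec 0 = suzukiPointZero F8 := pt_zero_zero 1
theorem dec_1 : dec 1 = pt 1 (1 : F8) 0 := rfl

/-- `g` acts on the codes as `f` -/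
def Ac (g : G) (f : ℕ → ℕ) : Prop := ∀ a < 65, f a < 65 ∧ (g : SL(4, F8)) • dec a = dec (f a)

theorem Ac.one : Ac 1 id := fun _ ha => ⟨ha, one_smul _ _⟩

theorem Ac.mul {g g' : G} {f f' : ℕ → ℕ} (h : Ac g f) (h' : Ac g' f') : Ac (g * g') (fun a => f (f' a)) := by
  intro a ha
  obtain ⟨h1, h2⟩ := h' a ha
  obtain ⟨h3, h4⟩ := h _ h1
  exact ⟨h3, by rw [coe_mul, mul_smul, h2, h4]⟩

theorem Ac.wd {x y : G} {fx fy : ℕ → ℕ} (hx : Ac x fx) (hy : Ac y fy) : ∀ l : List Bool, Ac (wd x y l) (ew fx fy l)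
  | [] => Ac.one
  | false :: l => hx.mul (Ac.wd hx hy l)
  | true :: l => hy.mul (Ac.wd hx hy l)

theorem Ac.pow {g : G} {f : ℕ → ℕ} (h : Ac g f) : ∀ n : ℕ, Ac (g ^ n) f^[n]
  | 0 => by rw [pow_zero]; exact Ac.one
  | n + 1 => by rw [pow_succ, Function.iterate_succ]; exact (Ac.pow h n).mul h

theorem Ac.ext {g g' : G} {f f' : ℕ → ℕ} (h : Ac g f) (h' : Ac g' f') (e : f 64 = f' 64 ∧ f 0 = f' 0 ∧ f 1 = f' 1) :
    g = g' := by
  have key : ∀ a < 65, f a = f' a → ((g'⁻¹ * g : G) : SL(4, F8)) • dec a = dec a := by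
    intro a ha e
    rw [coe_mul, mul_smul, (h a ha).2, e, ← (h' a ha).2, coe_inv, inv_smul_smul]
  have h1 := key 64 (by norm_num) e.1
  have h2 := key 0 (by norm_num) e.2.1
  have h3 := key 1 (by norm_num) e.2.2
  rw [dec_64] at h1
  rw [dec_0] at h2
  rw [dec_1] at h3
  have h4 := eq_one_of_fix_three le_rfl hF (g'⁻¹ * g).2 (infinity_mem_ovoid 1) (zero_mem_ovoid 1) (pt_mem_ovoid 1 1 0)
    zero_ne_infinity.symm (pt_ne_infinity 1 1 0).symm
    (by rw [← pt_zero_zero 1, Ne, pt_eq_pt_iff]; exact fun h => zero_ne_one h.1) h1 h2 h3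
  exact (inv_mul_eq_one.1 (Subtype.ext h4)).symm

/-- the involution -/
def x : G := ⟨W F8, W_mem hF⟩
/-- the element of order four -/
def y : G := ⟨U 1 (ofN 2) 0, U_mem hF _ _⟩

def tx : ℕ := 0x361e2f2c1f2534051c3f0f390a3132043d13243c1d1a22030e213a2d0d2926023b3e2b37122a16070b190c112e1b140635272315173309011810383028200840
def ty : ℕ := 0x401d2c271631000b3a15242f1e390803320d3c370621101b2a05343f0e291813223d0c073611202b1a35040f3e192823122d1c172601303b0a25141f2e09383302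

theorem cx : ∀ n < 64, n ≠ 0 → lk tx n < 64 ∧ zc 1 (ofN n) (ofN (n / 8)) ≠ 0 ∧
    ofN (n / 8) / zc 1 (ofN n) (ofN (n / 8)) = ofN (lk tx n) ∧ ofN n / zc 1 (ofN n) (ofN (n / 8)) = ofN (lk tx n / 8) := by
  decide +kernel

theorem cy : ∀ n < 64, lk ty n < 64 ∧ ofN n + ofN 2 = ofN (lk ty n) ∧
    ofN (n / 8) + 0 + ofN 2 ^ 2 ^ (1 + 1) * ofN n = ofN (lk ty n / 8) := by
  decide +kernel

theorem hx : Ac x (lk tx) := by
  intro a ha
  by_cases h1 : a = 64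
  · rw [h1, show lk tx 64 = 0 by decide +kernel, dec_64, dec_0]
    exact ⟨by norm_num, W_smul_infinity⟩
  by_cases h0 : a = 0
  · rw [h0, show lk tx 0 = 64 by decide +kernel, dec_64, dec_0]
    exact ⟨by norm_num, W_smul_zero⟩
  have h2 : a < 64 := by omega
  obtain ⟨h3, h4, h5, h6⟩ := cx a h2 h0
  rw [dec_lt h2, dec_lt h3, ← h5, ← h6]
  exact ⟨by omega, W_smul_pt hF _ _ h4⟩

theorem hy : Ac y (lk ty) := by
  intro a ha
  by_cases h1 : a = 64
  · rw [h1, show lk ty 64 = 64 by decide +kernel, dec_64]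
    exact ⟨by norm_num, U_smul_infinity _ _⟩
  have h2 : a < 64 := by omega
  obtain ⟨h3, h5, h6⟩ := cy a h2
  rw [dec_lt h2, dec_lt h3, ← h5, ← h6]
  exact ⟨by omega, U_smul_pt hF _ _ _ _⟩

theorem dec_ne : ∀ n < 64, n ≠ 1 → ¬ (ofN n = 1 ∧ ofN (n / 8) = 0) := by decide +kernel

theorem ne_one {g : G} {f : ℕ → ℕ} (h : Ac g f) (h1 : f 1 < 64 ∧ f 1 ≠ 1) : g ≠ 1 := by
  rintro rfl
  have h2 := (h 1 (by norm_num)).2
  rw [coe_one, one_smul, dec_1, dec_lt h1.1, eq_comm, pt_eq_pt_iff] at h2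
  exact dec_ne _ h1.1 h1.2 h2

theorem ord : orderOf (x * y) = 13 := by
  have : Fact (Nat.Prime 13) := ⟨by norm_num⟩
  exact orderOf_eq_prime (((hx.mul hy).pow 13).ext Ac.one (by decide +kernel)) (ne_one (hx.mul hy) (by decide +kernel))

theorem pow_surj : ∀ e : F8, ∃ a : F8, a ^ (2 ^ (1 + 1) + 1) = e := by decide +kernel

/-- generation from the torus, one unipotent element and the involution -/
theorem le_of {M : Subgroup SL(4, F8)} (hH : ∀ l : F8ˣ, H 1 l ∈ M) {c d : F8} (hc : c ≠ 0) (hcd : U 1 c d ∈ M)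
    (hW : W F8 ∈ M) : Cfsg.Sz F8 1 ≤ M := by
  have hconj : ∀ (l : F8ˣ) (c d : F8), U 1 c d ∈ M → U 1 (l * c) ((l : F8) ^ (2 ^ (1 + 1) + 1) * d) ∈ M := by
    intro l c d h
    have h1 : U 1 (l * c) ((l : F8) ^ (2 ^ (1 + 1) + 1) * d) = H 1 l * U 1 c d * (H 1 l)⁻¹ := by
      rw [H_mul_U hF]; group
    rw [h1]
    exact M.mul_mem (M.mul_mem (hH l) h) (M.inv_mem (hH l))
  have h1 : ∀ a : F8, ∃ b : F8, U 1 a b ∈ M := by
    intro a
    by_cases ha0 : a = 0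
    · exact ⟨0, by rw [ha0, U_zero_zero]; exact M.one_mem⟩
    · have := hconj (Units.mk0 (a / c) (div_ne_zero ha0 hc)) c d hcd
      rw [Units.val_mk0, div_mul_cancel₀ a hc] at this
      exact ⟨_, this⟩
  have h2 : ∀ e : F8, U 1 0 e ∈ M := by
    intro e
    obtain ⟨a, rfl⟩ := pow_surj e
    obtain ⟨b, hb⟩ := h1 a
    have h3 := M.mul_mem hb hb
    rw [U_mul hF, LieExceptional.SuzukiBasic.add_self hF, LieExceptional.SuzukiBasic.add_self hF, zero_add,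
      ← pow_succ] at h3
    exact h3
  have h3 : ∀ a b : F8, U 1 a b ∈ M := by
    intro a b
    obtain ⟨b', hb'⟩ := h1 a
    have h4 := M.mul_mem hb' (h2 (b - b'))
    rw [U_mul hF, add_zero, mul_zero, add_zero, add_sub_cancel] at h4
    exact h4
  intro g hg
  rcases bruhat le_rfl hF hg with ⟨a, b, l, rfl⟩ | ⟨a, b, l, c, d, rfl⟩
  · exact M.mul_mem (h3 a b) (hH l)
  · exact M.mul_mem (M.mul_mem (M.mul_mem (h3 a b) hW) (hH l)) (h3 c d)

theorem top : closure ({x, y} : Set G) = ⊤ := by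
  set K := closure ({x, y} : Set G) with hK
  have mx : x ∈ K := subset_closure (by simp)
  have my : y ∈ K := subset_closure (by simp)
  have ht := hx.wd hy (bits 40 60247)
  have mt := wd_mem mx my (bits 40 60247)
  have nt := ne_one ht (by decide +kernel)
  have e1 := (ht 64 (by norm_num)).2
  have e2 := (ht 0 (by norm_num)).2
  rw [show ew (lk tx) (lk ty) (bits 40 60247) 64 = 64 by decide +kernel, dec_64] at e1
  rw [show ew (lk tx) (lk ty) (bits 40 60247) 0 = 0 by decide +kernel, dec_0] at e2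
  generalize wd x y (bits 40 60247) = t at mt nt e1 e2
  obtain ⟨k, hk⟩ := eq_H_of_fix_two le_rfl hF t.2 e1 e2
  have k1 : k ≠ 1 := by
    rintro rfl
    exact nt (Subtype.ext (hk.trans (H_one 1)))
  have : Fact (Nat.Prime 7) := ⟨by norm_num⟩
  have c7 : Nat.card F8ˣ = 7 := by rw [Nat.card_units, Nat.card_eq_fintype_card, card_F8]
  have hH : ∀ l : F8ˣ, H 1 l ∈ K.map (Cfsg.Sz F8 1).subtype := by
    let f : F8ˣ →* SL(4, F8) := ⟨⟨H 1, H_one 1⟩, fun x y => (H_mul 1 x y).symm⟩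
    intro l
    obtain ⟨n, rfl⟩ := mem_zpowers_iff.1 (mem_zpowers_of_prime_card c7 k1 (g' := l))
    have : H 1 (k ^ n) = H 1 k ^ n := map_zpow f k n
    rw [this]
    exact Subgroup.zpow_mem _ (mem_map.2 ⟨t, mt, hk⟩) n
  have h := le_of hH (c := ofN 2) (d := 0) (by decide +kernel) ⟨y, my, rfl⟩ ⟨x, mx, rfl⟩
  rw [eq_top_iff]
  intro g _
  obtain ⟨g', h1, h2⟩ := h g.2
  rwa [← show g' = g from Subtype.ext h2]

theorem tri : Tri G 2 4 13 :=
  ⟨x, y, (hx.pow 2).ext Ac.one (by decide +kernel), (hy.pow 4).ext Ac.one (by decide +kernel), ord, top⟩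

theorem conj : Cj G 13 5 := by
  refine ⟨_, ord, isConj_iff.2 ⟨wd x y (bits 40 177837), ?_⟩⟩
  have ht := hx.wd hy (bits 40 177837)
  rw [(ht.mul (hx.mul hy)).ext (((hx.mul hy).pow 5).mul ht) (by decide +kernel), mul_inv_cancel_right]

theorem sc : SC G 13 := by
  obtain ⟨U, -, h1, h2, -⟩ := S0333.result (F := F8) le_rfl hF 13 (Or.inl (by norm_num))
  have : Fact (Nat.Prime 13) := ⟨by norm_num⟩
  have : Finite U := Nat.finite_of_card_ne_zero (by rw [h1]; norm_num)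
  have : Nontrivial U := Finite.one_lt_card_iff_nontrivial.1 (by rw [h1]; norm_num)
  obtain ⟨u, hu⟩ := exists_ne (1 : U)
  have hu' : (u : G) ≠ 1 := fun h => hu (Subtype.ext h)
  refine ⟨u, ?_, ?_⟩
  · refine orderOf_eq_prime ?_ hu'
    rw [← coe_pow, ← h1, pow_card_eq_one', coe_one]
  · rw [h2 u u.2 hu']
    intro v hv
    obtain ⟨n, hn⟩ := mem_zpowers_iff.1 (mem_zpowers_of_prime_card h1 hu (g' := ⟨v, hv⟩))
    exact ⟨n, congrArg Subtype.val hn⟩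

theorem real : OrdDiv.Real (.sz 8) G :=
  ⟨F8, inferInstance, inferInstance, 1, le_rfl, card_F8, by norm_num, OddCyclic.ClaimC.SzIso.iso le_rfl hF⟩

/-- **`Sz(8)`** -/
theorem dat_sz8 {N : Type} [Group N] (h : OrdDiv.Real (.sz 8) N) : Tri N 2 4 13 ∧ Cj N 13 5 ∧ SC N 13 := by
  obtain ⟨e⟩ := H902.Iso.real_unique _ real h
  exact ⟨tri.congr e, conj.congr e, sc.congr e⟩

end Cfsg.Agent.N2.Tg.Sz8
end

-- part: N2/Cl/RD/A2A
section
/-!
# N2 (S3519), defining characteristic, `L₃`: eigenfunctions of the elements of the torus `s² + s + 1` (helper38)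

* `Ex u f μ` : the right translates of `f` are combinations of eigenfunctions of `u` with the eigenvalues `μ`;
* `Dz`, `exists_dz` : the element;  `dm_sym`, `dm_nine`, `le_eight`, `ev_sym`, `ev_ad` : the bounds.
-/

set_option autoImplicit false
set_option linter.unusedSectionVars false

namespace Cfsg.Agent.N2C.RD.A2

open Matrix Module Cfsg.Agent.H887.DS
open Cfsg.Agent.H905.Md (acRep)
open Cfsg.Agent.H911 (lin)
open scoped MatrixGroups

section ex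

variable {Y k : Type} [Group Y] [Field k] {u : Y} {f f' : Y → k} {A B : Type} [Fintype A] [Fintype B] {μ : A → k} {ν : B → k}

/-- the translates of `f` are combinations of eigenfunctions -/
def Ex (u : Y) (f : Y → k) (μ : A → k) : Prop := ∃ F : A → Y → k,
  (∀ y, ∃ c : A → k, ∀ g, f (g * y) = ∑ a, c a * F a g) ∧ ∀ a g, F a (g * u) = μ a * F a g

theorem Ex.congr (h : Ex u f μ) (e : ∀ g, f' g = f g) : Ex u f' μ := (funext e : f' = f) ▸ h

theorem Ex.mul (h : Ex u f μ) (h' : Ex u f' ν) : Ex u (fun g => f g * f' g) fun a : A × B => μ a.1 * ν a.2 := by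
  obtain ⟨F, h1, h2⟩ := h
  obtain ⟨F', h3, h4⟩ := h'
  refine ⟨fun a g => F a.1 g * F' a.2 g, fun y => ?_, fun a g => ?_⟩
  · obtain ⟨c, hc⟩ := h1 y
    obtain ⟨c', hc'⟩ := h3 y
    refine ⟨fun a => c a.1 * c' a.2, fun g => ?_⟩
    beta_reduce
    rw [hc, hc', Finset.sum_mul_sum, Fintype.sum_prod_type]
    exact Finset.sum_congr rfl fun _ _ => Finset.sum_congr rfl fun _ _ => mul_mul_mul_comm ..
  · beta_reduce
    rw [h2, h4, mul_mul_mul_comm]

theorem Ex.frob (h : Ex u f μ) (p : ℕ) [Fact p.Prime] [CharP k p] (i : ℕ) :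
    Ex u (fun g => f g ^ p ^ i) fun a => μ a ^ p ^ i := by
  obtain ⟨F, h1, h2⟩ := h
  refine ⟨fun a g => F a g ^ p ^ i, fun y => ?_, fun a g => ?_⟩
  · obtain ⟨c, hc⟩ := h1 y
    refine ⟨fun a => c a ^ p ^ i, fun g => ?_⟩
    beta_reduce
    rw [hc, sum_pow_char_pow]
    exact Finset.sum_congr rfl fun _ _ => mul_pow ..
  · beta_reduce
    rw [h2, mul_pow]

/-- the monomials of degree `r` -/
abbrev Mn (r : ℕ) : Type := ↥(Finset.piAntidiag (Finset.univ : Finset (Fin 3)) r)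

theorem card_Mn (r : ℕ) : Fintype.card (Mn r) = (3 + r - 1).choose r := by
  rw [Fintype.card_coe, card_piAntidiag_univ]

theorem Ex.pow {μ : Fin 3 → k} (h : Ex u f μ) (r : ℕ) : Ex u (fun g => f g ^ r) fun e : Mn r => ∏ i, μ i ^ e.1 i := by
  obtain ⟨F, h1, h2⟩ := h
  refine ⟨fun e g => ∏ i, F i g ^ e.1 i, fun y => ?_, fun e g => ?_⟩
  · obtain ⟨c, hc⟩ := h1 y
    refine ⟨fun e => Nat.multinomial Finset.univ e.1 * ∏ i, c i ^ e.1 i, fun g => ?_⟩
    beta_reduce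
    rw [hc, Finset.sum_pow_eq_sum_piAntidiag, ← Finset.sum_coe_sort]
    exact Finset.sum_congr rfl fun e _ => by simp only [mul_pow, Finset.prod_mul_distrib, mul_assoc]
  · simp only [h2, mul_pow, Finset.prod_mul_distrib]

end ex

section cr

variable {Y K : Type} [Group Y] [Field K] {n : ℕ} {φ : Y →* GL (Fin n) K}
  (hirr : ∀ L : Submodule (AlgebraicClosure K) (Fin n → AlgebraicClosure K), (∀ g, ∀ w ∈ L, lin (acRep φ) g w ∈ L) →
    L = ⊥ ∨ L = ⊤) {v : Fin n → AlgebraicClosure K} {ψ : Dual (AlgebraicClosure K) (Fin n → AlgebraicClosure K)}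
  (hv : v ≠ 0) (hψ : ψ ≠ 0) {u : Y} {A B : Type} [Fintype A] [Fintype B] {μ : A → AlgebraicClosure K}
  (h : Ex u (fun g => ψ (lin (acRep φ) g v)) μ)
include hirr hv hψ h

theorem Ex.dim : n ≤ Fintype.card A := by
  classical
  obtain ⟨F, h1, h2⟩ := h
  exact cr_dim (emb_of (G := ⊤) (fun L hL => hirr L fun g => hL g trivial) hψ hv F (fun y _ => (h1 y).imp fun _ h g _ => h g)
    (Subgroup.mem_top u) μ fun a g _ => h2 a g)

theorem Ex.ev (t : A → B) (ht : ∀ a a', μ a = 1 → μ a' = 1 → t a = t a' → a = a') : ev (φ u) 1 ≤ Fintype.card B := by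
  classical
  obtain ⟨F, h1, h2⟩ := h
  exact (cr_ev (emb_of (G := ⊤) (fun L hL => hirr L fun g => hL g trivial) hψ hv F (fun y _ => (h1 y).imp fun _ h g _ => h g)
    (Subgroup.mem_top u) μ fun a g _ => h2 a g)).trans (Finset.card_le_card_of_injOn t (fun _ _ => Finset.mem_univ _)
      fun a ha a' ha' => ht a a' (Finset.mem_filter.1 ha).2 (Finset.mem_filter.1 ha').2)

theorem Ex.dm (t : A → B) (ht : ∀ a a', μ a = μ a' → t a = t a' → a = a') : dm (φ u) ≤ Fintype.card B * n := by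
  classical
  obtain ⟨F, h1, h2⟩ := h
  exact cr_dm (emb_of (G := ⊤) (fun L hL => hirr L fun g => hL g trivial) hψ hv F (fun y _ => (h1 y).imp fun _ h g _ => h g)
    (Subgroup.mem_top u) μ fun a g _ => h2 a g) fun z => Finset.card_le_card_of_injOn t (fun _ _ => Finset.mem_univ _)
      fun a ha a' ha' => ht a a' ((Finset.mem_filter.1 ha).2.trans (Finset.mem_filter.1 ha').2.symm)

end cr

variable {E k : Type} [Field E] [Finite E] [Field k]

/-- an element of the torus of order `s² + s + 1` -/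
structure Dz (ι : E →+* k) (m : ℕ) (u : SL(3, E)) (ζ : k) : Prop where
  prim : IsPrimitiveRoot ζ m
  dvd : m ∣ Nat.card E ^ 2 + Nat.card E + 1
  cop : m.Coprime 3
  lt : 4 < m
  pow : u ^ m = 1
  diag : ∃ C C' : Matrix (Fin 3) (Fin 3) k, C * C' = 1 ∧ u.1.map ι * C = C * diagonal fun i : Fin 3 => ζ ^ Nat.card E ^ i.1

theorem map_mul' (ι : E →+* k) (g y : SL(3, E)) : (g * y).1.map ι = g.1.map ι * y.1.map ι := Matrix.map_mul

/-- the norm form -/
theorem exp_inj {m s r : ℕ} (hd : m ∣ s ^ 2 + s + 1) (h3 : m.Coprime 3) (hr : r ^ 2 < m) {a b c a' b' c' : ℕ} (e : a + b + c = r)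
    (e' : a' + b' + c' = r) (h : a + s * b + s ^ 2 * c ≡ a' + s * b' + s ^ 2 * c' [MOD m]) : a = a' ∧ b = b' ∧ c = c' := by
  have h1 : (m : ℤ) ∣ _ := h.dvd
  have h2 : (m : ℤ) ∣ (s : ℤ) ^ 2 + s + 1 := by exact_mod_cast hd
  push_cast at h1
  zify at e e' hr
  obtain ⟨x, hx⟩ : ∃ x : ℤ, x = a' - a := ⟨_, rfl⟩
  obtain ⟨y, hy⟩ : ∃ y : ℤ, y = b' - b := ⟨_, rfl⟩
  have h4 : (m : ℤ) ∣ 3 * (x ^ 2 + x * y + y ^ 2) := by
    have k := (h1.mul_right (2 * x + y + (x + 2 * y) * s ^ 2)).add (h2.mul_right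
      ((x + y) * (2 * x + y + (x + 2 * y) * s ^ 2) - (2 * x + y) * (x + 2 * y) - (x + 2 * y) ^ 2 * (s - 1)))
    refine k.trans (dvd_of_eq ?_)
    rw [show (c' : ℤ) = c - x - y by linarith, show (a' : ℤ) = a + x by linarith, show (b' : ℤ) = b + y by linarith]
    ring
  have h5 : (m : ℤ) ∣ x ^ 2 + x * y + y ^ 2 := (Nat.isCoprime_iff_coprime.2 h3).dvd_of_dvd_mul_left h4
  have h6 : x ^ 2 + x * y + y ^ 2 ≤ (r : ℤ) ^ 2 := by
    have k1 : (a : ℤ) ^ 2 + b ^ 2 + c ^ 2 ≤ r ^ 2 := by rw [← e]; linarith [mul_nonneg (Nat.cast_nonneg a : (0 : ℤ) ≤ a) (Nat.cast_nonneg b), mul_nonneg (Nat.cast_nonneg a : (0 : ℤ) ≤ a) (Nat.cast_nonneg c), mul_nonneg (Nat.cast_nonneg b : (0 : ℤ) ≤ b) (Nat.cast_nonneg c)]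
    have k2 : (a' : ℤ) ^ 2 + b' ^ 2 + c' ^ 2 ≤ r ^ 2 := by rw [← e']; linarith [mul_nonneg (Nat.cast_nonneg a' : (0 : ℤ) ≤ a') (Nat.cast_nonneg b'), mul_nonneg (Nat.cast_nonneg a' : (0 : ℤ) ≤ a') (Nat.cast_nonneg c'), mul_nonneg (Nat.cast_nonneg b' : (0 : ℤ) ≤ b') (Nat.cast_nonneg c')]
    have k3 : 2 * (x ^ 2 + x * y + y ^ 2) = (a' - a) ^ 2 + (b' - b) ^ 2 + ((c' : ℤ) - c) ^ 2 := by
      rw [show (c' : ℤ) = c - x - y by linarith, ← hx, ← hy]; ring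
    linarith [mul_nonneg (Nat.cast_nonneg a : (0 : ℤ) ≤ a) (Nat.cast_nonneg a'), mul_nonneg (Nat.cast_nonneg b : (0 : ℤ) ≤ b) (Nat.cast_nonneg b'),
      mul_nonneg (Nat.cast_nonneg c : (0 : ℤ) ≤ c) (Nat.cast_nonneg c')]
  have h7 : x ^ 2 + x * y + y ^ 2 = 0 :=
    Int.eq_zero_of_dvd_of_nonneg_of_lt (by linarith [sq_nonneg (2 * x + y), sq_nonneg y]) (h6.trans_lt hr) h5
  have h8 : y = 0 := (pow_eq_zero_iff two_ne_zero).1 (le_antisymm (by linarith [sq_nonneg (2 * x + y)]) (sq_nonneg y))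
  have h9 : x = 0 := by rw [h8] at h7; exact (pow_eq_zero_iff two_ne_zero).1 (by linarith)
  omega

theorem exists_dz [IsAlgClosed k] (ι : E →+* k) (p : ℕ) [hp : Fact p.Prime] [CharP E p] [CharP k p] {m : ℕ} (h4 : 4 < m)
    (h3 : m.Coprime 3) (hd : m ∣ Nat.card E ^ 2 + Nat.card E + 1) : ∃ u ζ, Dz ι m u ζ := by
  have := Fintype.ofFinite E
  obtain ⟨a, -, ha⟩ := FiniteField.card E p
  rw [← Nat.card_eq_fintype_card] at ha
  have : NeZero m := ⟨by omega⟩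
  have : NeZero (m : k) := ⟨fun e => hp.out.one_lt.ne' (Nat.dvd_one.1 ((Nat.dvd_add_right (by
    rw [ha]; exact Nat.dvd_add (dvd_pow (dvd_pow_self p a.ne_zero) two_ne_zero) (dvd_pow_self p a.ne_zero))).1
      (((CharP.cast_eq_zero_iff k p m).1 e).trans hd)))⟩
  obtain ⟨x, hx⟩ := HasEnoughRootsOfUnity.exists_primitiveRoot k m
  obtain ⟨σ, hσ⟩ : ∃ σ : k →+* k, ∀ w, σ w = w ^ Nat.card E := ⟨iterateFrobenius k p a, fun w => by rw [ha]; rfl⟩
  obtain ⟨y, hy⟩ : ∃ y, σ x = y := ⟨_, rfl⟩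
  obtain ⟨z, hz⟩ : ∃ z, σ y = z := ⟨_, rfl⟩
  have h1 : x * y * z = 1 := by
    rw [← hz, ← hy, hσ, hσ, ← pow_mul, ← (hx.pow_eq_one_iff_dvd _).2 hd]
    ring
  have h5 : σ z = x := by
    have k := congrArg σ h1
    rw [map_mul, map_mul, hy, hz, map_one] at k
    linear_combination x * k - σ z * h1
  have xy : x ≠ y := fun e => absurd (Nat.le_of_dvd three_pos ((hx.pow_eq_one_iff_dvd 3).1 (by
    rw [← h1, ← hz, ← e, hy, ← e]
    ring))) (by omega)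
  have yz : y ≠ z := fun e => xy (σ.injective (by rw [hy, hz, e]))
  have zx : z ≠ x := fun e => yz (σ.injective (by rw [hz, h5, e]))
  obtain ⟨α, hα⟩ := H920.Nine.mem_range_of_pow ι (x := x + y + z) (by
    rw [← hσ, map_add, map_add, hy, hz, h5]
    ring)
  obtain ⟨β, hβ⟩ := H920.Nine.mem_range_of_pow ι (x := x * y + y * z + z * x) (by
    simp only [← hσ, map_add, map_mul, hy, hz, h5]
    ring)
  let C : Matrix (Fin 3) (Fin 3) k := !![1, 1, 1; x, y, z; x * x, y * y, z * z]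
  have hC : IsUnit C.det := by
    rw [isUnit_iff_ne_zero, show C.det = (y - x) * (z - y) * (z - x) by
      simp [C, det_fin_three]
      ring]
    exact mul_ne_zero (mul_ne_zero (sub_ne_zero.2 xy.symm) (sub_ne_zero.2 yz.symm)) (sub_ne_zero.2 zx)
  let u : SL(3, E) := ⟨!![0, 1, 0; 0, 0, 1; 1, -β, α], by simp [det_fin_three]⟩
  have hu : u.1.map ι * C = C * diagonal ![x, y, z] := by
    ext i j
    rw [mul_diagonal, mul_apply, Fin.sum_univ_three]
    fin_cases i <;> fin_cases j <;> simp [u, C, hα, hβ] <;> grind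
  refine ⟨u, x, hx, hd, h3, h4, Subtype.ext (map_injective ι.injective ?_), C, C⁻¹, mul_nonsing_inv C hC, hu.trans ?_⟩
  · have k : ∀ i, (u ^ i).1.map ι * C = C * diagonal (![x, y, z] ^ i) := fun i => by
      induction i with
      | zero => simp [diagonal_one']
      | succ i ih => rw [pow_succ, map_mul', mul_assoc, hu, ← mul_assoc, ih, mul_assoc,
          diagonal_mul_diagonal, pow_succ]; rfl
    have hy' : y ^ m = 1 := by rw [← hy, ← map_pow, hx.pow_eq_one, map_one]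
    have hz' : z ^ m = 1 := by rw [← hz, ← map_pow, hy', map_one]
    have k' := congrArg (· * C⁻¹) (k m)
    rw [show ![x, y, z] ^ m = 1 from funext fun i => by fin_cases i <;> simp [hx.pow_eq_one, hy', hz']] at k'
    simpa [mul_assoc, mul_nonsing_inv C hC, diagonal_one'] using k'
  · congr 2
    funext i
    fin_cases i <;> simp [← hz, ← hy, hσ, ← pow_mul, pow_two]

/-- the eigenvalues -/
noncomputable def lm (E : Type) (ζ : k) (i : Fin 3) : k := ζ ^ Nat.card E ^ i.1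

/-- the pairs other than `(2, 2)` -/
def pa : Fin 2 ⊕ Fin 6 → Fin 3 × Fin 3 :=
  Sum.elim ![(0, 0), (1, 1)] ![(0, 1), (0, 2), (1, 0), (1, 2), (2, 0), (2, 1)]

section dz

variable {ι : E →+* k} {m : ℕ} {u : SL(3, E)} {ζ : k} (D : Dz ι m u ζ)
include D

theorem Dz.ne (i : Fin 3) : lm E ζ i ≠ 0 := pow_ne_zero _ (D.prim.ne_zero (by have := D.lt; omega))

theorem Dz.inj {r : ℕ} (hr : r ^ 2 < m) : Function.Injective fun e : Mn r => ∏ i, lm E ζ i ^ e.1 i := fun e e' h => by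
  have h1 := (Finset.mem_piAntidiag.1 e.2).1
  have h2 := (Finset.mem_piAntidiag.1 e'.2).1
  simp only [Fin.prod_univ_three, Fin.sum_univ_three, lm, ← pow_mul, ← pow_add] at h h1 h2
  have h3 := D.prim.eq_orderOf ▸ (isOfFinOrder_iff_pow_eq_one.2 ⟨m, by omega, D.prim.pow_eq_one⟩).pow_eq_pow_iff_modEq.1 h
  obtain ⟨k1, k2, k3⟩ := exp_inj D.dvd D.cop hr h1 h2 (by simpa using h3)
  exact Subtype.ext (funext fun i => by fin_cases i <;> assumption)

theorem Dz.inj' {r : ℕ} (hr : r ^ 2 < m) : Function.Injective fun e : Mn r => ∏ i, (lm E ζ i)⁻¹ ^ e.1 i := fun e e' h =>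
  D.inj hr (inv_injective (by simpa only [inv_pow, Finset.prod_inv_distrib] using h))

theorem Dz.two {i j i' j' : Fin 3} (h : lm E ζ i * lm E ζ j = lm E ζ i' * lm E ζ j') : i = i' ∧ j = j' ∨ i = j' ∧ j = i' := by
  have key : ∀ i j : Fin 3, Pi.single i 1 + Pi.single j 1 ∈ Finset.piAntidiag (Finset.univ : Finset (Fin 3)) 2 := by decide
  have k2 : ∀ i j : Fin 3, ∏ l, lm E ζ l ^ (Pi.single i 1 + Pi.single j 1 : Fin 3 → ℕ) l = lm E ζ i * lm E ζ j := fun i j => by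
    simp only [Pi.add_apply, pow_add, Finset.prod_mul_distrib]
    simp [Pi.single_apply]
  have k3 : ∀ i j i' j' : Fin 3, (Pi.single i 1 + Pi.single j 1 : Fin 3 → ℕ) = Pi.single i' 1 + Pi.single j' 1 →
    i = i' ∧ j = j' ∨ i = j' ∧ j = i' := by decide
  exact k3 _ _ _ _ (congrArg Subtype.val (D.inj (r := 2) D.lt (a₁ := ⟨_, key i j⟩) (a₂ := ⟨_, key i' j'⟩)
    ((k2 i j).trans (h.trans (k2 i' j').symm))))

theorem Dz.noncentral : u ∉ Subgroup.center SL(3, E) := fun h => by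
  obtain ⟨r, -, hr⟩ := Matrix.SpecialLinearGroup.mem_center_iff.1 h
  obtain ⟨C, C', h1, h2⟩ := D.diag
  have h3 : ∀ i, lm E ζ i = ι r := fun i => by
    have k : C' * (u.1.map ι * C) = C' * (C * diagonal (lm E ζ)) := congrArg (C' * ·) h2
    rw [← hr, ← mul_assoc C' C, mul_eq_one_comm.1 h1, one_mul, scalar_apply, diagonal_map (map_zero ι),
      ← smul_one_eq_diagonal, smul_mul_assoc, mul_smul_comm, one_mul, mul_eq_one_comm.1 h1] at k
    simpa using (congrFun (congrFun k i) i).symm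
  exact absurd (D.two (i := 0) (j := 0) (i' := 1) (j' := 1) (by simp only [h3])) (by decide)

theorem Dz.exs : Ex u (fun g => ι (g.1 0 0)) (lm E ζ) ∧ Ex u (fun g => ι ((g⁻¹).1 2 2)) (fun i => (lm E ζ i)⁻¹) ∧
    Ex u (fun g => ι (g.1 0 0) * ι ((g⁻¹).1 2 2)) fun a => lm E ζ (pa a).1 * (lm E ζ (pa a).2)⁻¹ := by
  obtain ⟨C, C', h1, h2⟩ := D.diag
  have sp : ∀ g y : SL(3, E), (g * y).1.map ι = g.1.map ι * C * (C' * y.1.map ι) := fun g y => by
    rw [map_mul', mul_assoc, ← mul_assoc C, h1, one_mul]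
  have rt : ∀ (g : SL(3, E)) i, ((g * u).1.map ι * C) 0 i = lm E ζ i * (g.1.map ι * C) 0 i := fun g i => by
    rw [map_mul', mul_assoc, h2, ← mul_assoc, mul_diagonal, mul_comm]; rfl
  have lf : ∀ (g : SL(3, E)) i, (C' * ((g * u)⁻¹).1.map ι) i 2 = (lm E ζ i)⁻¹ * (C' * (g⁻¹).1.map ι) i 2 := fun g i => by
    have k : (C' * (u * (g * u)⁻¹).1.map ι) i 2 = lm E ζ i * (C' * ((g * u)⁻¹).1.map ι) i 2 := by
      rw [sp, h2, ← mul_assoc, ← mul_assoc C', mul_eq_one_comm.1 h1, one_mul, diagonal_mul]; rfl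
    rw [show u * (g * u)⁻¹ = g⁻¹ by group] at k
    rw [k, inv_mul_cancel_left₀ (D.ne _)]
  have e1 : ∀ g y : SL(3, E), ι ((g * y).1 0 0) = ∑ i, (C' * y.1.map ι) i 0 * (g.1.map ι * C) 0 i := fun g y => by
    change (g * y).1.map ι 0 0 = _
    rw [sp, mul_apply]
    exact Finset.sum_congr rfl fun _ _ => mul_comm ..
  have e2 : ∀ g y : SL(3, E), ι (((g * y)⁻¹).1 2 2) = ∑ i, ((y⁻¹).1.map ι * C) 2 i * (C' * (g⁻¹).1.map ι) i 2 := fun g y => by
    rw [_root_.mul_inv_rev]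
    change (y⁻¹ * g⁻¹).1.map ι 2 2 = _
    rw [sp, mul_apply]
  refine ⟨⟨fun i g => (g.1.map ι * C) 0 i, fun y => ⟨_, fun g => e1 g y⟩, fun i g => rt g i⟩,
    ⟨fun i g => (C' * (g⁻¹).1.map ι) i 2, fun y => ⟨_, fun g => e2 g y⟩, fun i g => lf g i⟩,
    fun a g => (g.1.map ι * C) 0 (pa a).1 * (C' * (g⁻¹).1.map ι) (pa a).2 2, fun y => ⟨fun a =>
      (C' * y.1.map ι) (pa a).1 0 * ((y⁻¹).1.map ι * C) 2 (pa a).2 -
        if (pa a).1 = (pa a).2 then (C' * y.1.map ι) 2 0 * ((y⁻¹).1.map ι * C) 2 2 else 0, fun g => ?_⟩, fun a g => ?_⟩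
  · have k : ∑ i, (g.1.map ι * C) 0 i * (C' * (g⁻¹).1.map ι) i 2 = 0 := by
      rw [← mul_apply, ← sp, mul_inv_cancel]
      exact map_zero ι
    rw [Fin.sum_univ_three] at k
    simp only [e1, e2]
    generalize (g.1.map ι * C) 0 = L at k ⊢
    generalize C' * (g⁻¹).1.map ι = L' at k ⊢
    generalize C' * y.1.map ι = c
    generalize ((y⁻¹).1.map ι * C) 2 = c'
    simp [Fin.sum_univ_three, Fin.sum_univ_six, pa]
    linear_combination c 2 0 * c' 2 * k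
  · simp only [rt, lf]
    ring

theorem Dz.ad : ∃ ν : Fin 2 ⊕ Fin 6 → k, Ex u (fun g => ι (g.1 0 0) * ι ((g⁻¹).1 2 2)) ν ∧ (∀ a, ν a ≠ 0) ∧
    (∀ a, ν (.inl a) = 1) ∧ ∀ a b, ν a = ν (.inr b) → a = .inr b := by
  have key : ∀ a b, ((pa a).1 = (pa (.inr b)).1 ∧ (pa (.inr b)).2 = (pa a).2 ∨ (pa a).1 = (pa a).2 ∧ (pa (.inr b)).2 = (pa (.inr b)).1) →
    a = .inr b := by decide
  refine ⟨_, D.exs.2.2, fun a => mul_ne_zero (D.ne _) (inv_ne_zero (D.ne _)), fun a => ?_, fun a b e => key a b (D.two ?_)⟩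
  · fin_cases a <;> exact mul_inv_cancel₀ (D.ne _)
  · rwa [← div_eq_mul_inv, ← div_eq_mul_inv, div_eq_div_iff (D.ne _) (D.ne _)] at e

end dz

theorem fr_inj (p : ℕ) [Fact p.Prime] [CharP k p] (l : ℕ) {x y : k} (e : x ^ p ^ l = y ^ p ^ l) : x = y :=
  (iterateFrobenius k p l).injective e

variable {K : Type} [Field K] {n m : ℕ} {u : SL(3, E)} {φ : SL(3, E) →* GL (Fin n) K} {ι : E →+* AlgebraicClosure K}
  (hirr : ∀ L : Submodule (AlgebraicClosure K) (Fin n → AlgebraicClosure K), (∀ g, ∀ w ∈ L, lin (acRep φ) g w ∈ L) →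
    L = ⊥ ∨ L = ⊤) {v : Fin n → AlgebraicClosure K} {ψ : Dual (AlgebraicClosure K) (Fin n → AlgebraicClosure K)}
  (hv : v ≠ 0) (hψ : ψ ≠ 0) {ζ : AlgebraicClosure K} (D : Dz ι m u ζ) (p : ℕ) [hp : Fact p.Prime] [CharP (AlgebraicClosure K) p]
  {a b : ℕ} (hf : ∀ g, ψ (lin (acRep φ) g v) = xi (l := 2) ι a b g)
include hirr hv hψ D hp hf

/-- symmetric powers -/
theorem dm_sym {r i : ℕ} (hr : r ^ 2 < m) (h : a = r * p ^ i ∧ b = 0 ∨ a = 0 ∧ b = r * p ^ i) : dm (φ u) ≤ n := by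
  rcases h with ⟨rfl, rfl⟩ | ⟨rfl, rfl⟩
  · refine (Ex.dm hirr hv hψ (((D.exs.1.pow r).frob p i).congr fun g => ?_) (fun _ => ()) fun e e' k _ =>
      D.inj hr (fr_inj p i k)).trans (by simp)
    rw [hf, xi, pow_zero, mul_one, pow_mul]
  · refine (Ex.dm hirr hv hψ (((D.exs.2.1.pow r).frob p i).congr fun g => ?_) (fun _ => ()) fun e e' k _ =>
      D.inj' hr (fr_inj p i k)).trans (by simp)
    rw [hf, xi, pow_zero, one_mul, pow_mul]; rfl

/-- `L₃(4) < L₉(2)` -/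
theorem dm_nine (hE : Nat.card E = 4) (hm : m = 7) (h2 : p = 2) (h : a = 3 ∧ b = 0 ∨ a = 0 ∧ b = 3) : dm (φ u) ≤ 2 * n := by
  subst hm h2
  have key : ∀ x y : Fin 3 × Fin 3, 4 ^ x.1.1 + 4 ^ x.2.1 * 2 ≡ 4 ^ y.1.1 + 4 ^ y.2.1 * 2 [MOD 7] → decide (x.1 < x.2 + 2) = decide (y.1 < y.2 + 2) →
    x = y := by decide
  have k1 : ∀ x y : Fin 3 × Fin 3, lm E ζ x.1 * lm E ζ x.2 ^ 2 ^ 1 = lm E ζ y.1 * lm E ζ y.2 ^ 2 ^ 1 →
      decide (x.1 < x.2 + 2) = decide (y.1 < y.2 + 2) → x = y := fun x y k => key x y (by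
    simp only [lm, hE, pow_one, ← pow_mul, ← pow_add] at k
    exact D.prim.eq_orderOf ▸ (isOfFinOrder_iff_pow_eq_one.2 ⟨7, by omega, D.prim.pow_eq_one⟩).pow_eq_pow_iff_modEq.1 k)
  rcases h with ⟨rfl, rfl⟩ | ⟨rfl, rfl⟩
  · refine (Ex.dm hirr hv hψ ((D.exs.1.mul (D.exs.1.frob 2 1)).congr fun g => ?_) _ k1).trans (by simp)
    rw [hf, xi]; ring
  · refine (Ex.dm hirr hv hψ ((D.exs.2.1.mul (D.exs.2.1.frob 2 1)).congr fun g => ?_) _ fun x y k => k1 x y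
      (inv_injective (by simpa only [inv_pow, mul_inv] using k))).trans (by simp)
    rw [hf, xi, pow_zero, one_mul, pow_one, ← pow_succ']; rfl

theorem le_eight {i : ℕ} (ha : a = p ^ i) (hb : b = a) : n ≤ 8 := by
  subst hb ha
  refine (Ex.dim hirr hv hψ ((D.exs.2.2.frob p i).congr fun g => ?_)).trans (by simp)
  rw [hf, xi, mul_pow]; rfl

theorem ev_sym {r i : ℕ} (hr : r ^ 2 < m) (ha : a = r * p ^ i) (hb : b = a) : ev (φ u) 1 ≤ (3 + r - 1).choose r := by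
  subst hb ha
  refine (Ex.ev hirr hv hψ ((((D.exs.1.pow r).mul (D.exs.2.1.pow r)).frob p i).congr fun g => ?_) Prod.fst
    fun e e' k k' k1 => Prod.ext k1 (D.inj' hr ?_)).trans (card_Mn r).le
  · rw [hf, xi, mul_pow, pow_mul, pow_mul]; rfl
  · have k2 := fr_inj p i (k.trans k'.symm)
    rw [k1] at k2
    exact mul_left_cancel₀ (Finset.prod_ne_zero_iff.2 fun l _ => pow_ne_zero _ (D.ne l)) k2

theorem ev_ad {i j : ℕ} (ha : a = p ^ i + p ^ j) (hb : b = a) : ev (φ u) 1 ≤ 10 := by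
  subst hb ha
  obtain ⟨ν, hν, n0, n1, n2⟩ := D.ad
  have n3 : ∀ a b, ν (.inl a) ^ p ^ i * ν (.inr b) ^ p ^ j ≠ 1 := fun a b e => by
    rw [n1, one_pow, one_mul] at e
    exact absurd (n2 (.inl a) b ((n1 a).trans (fr_inj p j ((one_pow _).trans e.symm)))) Sum.inl_ne_inr
  have n4 : ∀ a b, ν (.inr a) ^ p ^ i * ν (.inl b) ^ p ^ j ≠ 1 := fun a b e => by
    rw [n1, one_pow, mul_one] at e
    exact absurd (n2 (.inl b) a ((n1 b).trans (fr_inj p i ((one_pow _).trans e.symm)))) Sum.inl_ne_inr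
  refine (Ex.ev (B := (Fin 2 × Fin 2) ⊕ Fin 6) hirr hv hψ (((hν.frob p i).mul (hν.frob p j)).congr fun g => ?_)
    (fun x => x.1.elim (fun a => x.2.elim (fun b => .inl (a, b)) .inr) .inr) ?_).trans (by simp)
  · rw [hf, xi, mul_pow, mul_pow, pow_add, pow_add, mul_mul_mul_comm]; rfl
  rintro ⟨a | a, b | b⟩ ⟨a' | a', b' | b'⟩ k k' e
  all_goals first | exact absurd k (n3 _ _) | exact absurd k (n4 _ _) | exact absurd k' (n3 _ _) | exact absurd k' (n4 _ _) | skip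
  · simpa using e
  · simp at e
  · simp at e
  · obtain rfl : a = a' := by simpa using e
    exact Prod.ext rfl (n2 _ _ (fr_inj p j (mul_left_cancel₀ (pow_ne_zero _ (n0 _)) (k.trans k'.symm))))

end Cfsg.Agent.N2C.RD.A2
end

-- part: N2/Cl/RD/A2
section
/-!
# N2 (S3519), defining characteristic: the row `L₃` (helper38)
-/

set_option autoImplicit false
set_option linter.unusedSectionVars false

namespace Cfsg.Agent.N2C.RD.A2

open Matrix CoxeterSystem Cfsg.Agent.ChevalleyStructure.CoxeterGeom Cfsg.Agent.Tits.Roots Cfsg.Agent.Tits.Core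
  Cfsg.Agent.Nodes.Reps Cfsg.Agent.Nodes.BNOf Cfsg.Agent.Nodes.Bruhat Cfsg.Agent.Nodes.LeviDec
  Cfsg.Agent.Omega.CR Cfsg.Agent.Omega.FOne.Lift.Sd Cfsg.Agent.H905.Md Cfsg.Agent.Nodes.RootsA Module
open Cfsg Cfsg.Geo Cfsg.Agent.H902 Cfsg.Agent.N2C.RX Cfsg.Agent.H915.LD Cfsg.Agent.H887.DS
open Cfsg.Agent.H911 (lin)
open Cfsg.Agent.LieRecognition.BNCox (cA)
open Cfsg.Agent.H650.Ppd (edge_pow_of_card)
open scoped MatrixGroups

theorem free6 {m : ℕ} (h6 : m.Coprime 6) {x : ZMod m} (hx : x ^ 2 - x + 1 = 0) {k : ℕ} (h0 : 0 < k) (hk : k < 6) {i : ZMod m}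
    (h : x ^ k * i = i) : i = 0 := by
  refine ((ZMod.isUnit_iff_coprime 6 m).2 h6.symm).mul_right_eq_zero.1 ?_
  push_cast
  interval_cases k
  · linear_combination (-6 * x) * h + 6 * i * hx
  · linear_combination (-2 * (x + 1)) * h + 2 * i * (x + 2) * hx
  · linear_combination (-3) * h + 3 * i * (x + 1) * hx
  · linear_combination (2 * (x - 2)) * h - 2 * i * (x ^ 3 - x ^ 2 - 2 * x - 1) * hx
  · linear_combination (6 * (x - 1)) * h - 6 * i * (x ^ 4 - x ^ 2 - x) * hx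

theorem ord6 {m : ℕ} (h1 : 1 < m) (h6 : m.Coprime 6) {x : ZMod m} (hx : x ^ 2 - x + 1 = 0) : orderOf x = 6 := by
  have := Fact.mk h1
  rw [orderOf_eq_iff (by omega)]
  exact ⟨by linear_combination (x ^ 4 + x ^ 3 - x - 1) * hx, fun k hk h0 e => one_ne_zero (free6 h6 hx h0 hk (by rw [e, one_mul]))⟩

theorem ord3 {m : ℕ} (h1 : 1 < m) (h6 : m.Coprime 6) {x : ZMod m} (hx : x ^ 2 + x + 1 = 0) : orderOf x = 3 := by
  have h := orderOf_pow' (-x) (n := 4) (by decide)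
  rwa [ord6 h1 h6 (x := -x) (by linear_combination hx), show (-x) ^ 4 = x by linear_combination (x ^ 2 - x) * hx] at h

theorem cop6 {m q : ℕ} (h3 : m.Coprime 3) (hd : m ∣ q ^ 2 + q + 1) : m.Coprime 6 := by
  refine Nat.Coprime.mul_right (m := 2) (n := 3) (Nat.Coprime.coprime_dvd_left hd (Nat.coprime_two_right.2 ?_)) h3
  rw [show q ^ 2 + q + 1 = q * (q + 1) + 1 by ring]
  exact (Nat.even_mul_succ_self q).add_one

theorem exists_r {q : ℕ} (hq : 2 ≤ q) : ∃ r, r.Prime ∧ 4 < r ∧ r.Coprime 3 ∧ r ∣ q ^ 2 + q + 1 := by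
  obtain ⟨r, hr, h2, h3, hd⟩ := A3.exists_r hq
  exact ⟨r, hr, (hr.five_le_of_ne_two_of_ne_three h2 h3), (Nat.coprime_primes hr Nat.prime_three).2 h3, hd⟩

theorem exists_m {q : ℕ} (hq : 5 ≤ q) : ∃ m, 9 < m ∧ m.Coprime 3 ∧ m ∣ q ^ 2 + q + 1 := by
  obtain ⟨x, h0, h1⟩ : ∃ x, 3 ≤ x ∧ 3 * x + 1 ∣ q ^ 2 + q + 1 := by
    obtain ⟨k, rfl | rfl | rfl⟩ : ∃ k, q = 3 * k ∨ q = 3 * k + 1 ∨ q = 3 * k + 2 := ⟨q / 3, by omega⟩
    exacts [⟨3 * k ^ 2 + k, by nlinarith, 1, by ring⟩, ⟨k ^ 2 + k, by nlinarith, 3, by ring⟩,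
      ⟨3 * k ^ 2 + 5 * k + 2, by nlinarith, 1, by ring⟩]
  exact ⟨_, by omega, (Nat.coprime_comm.1 ((Nat.Prime.coprime_iff_not_dvd Nat.prime_three).2 (by omega))), h1⟩

theorem dvd_sq {q m : ℕ} (h : m ∣ q ^ 2 + q + 1) : m ∣ (q ^ 2) ^ 2 + q ^ 2 + 1 := by
  rcases q with _ | q
  · simpa using h
  · exact h.trans ⟨q ^ 2 + q + 1, by ring⟩

variable {t : Kd} {n q p T b : ℕ} {K : Type} [Field K] [Fintype K] {P : Subgroup (GL (Fin n) K)} {G : Prop} {c f : P → ℕ}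

theorem six (M : Md0 t q p T b P G c f) (ht : bil t) {m : ℕ} (h1 : 1 < m) (h3 : m.Coprime 3) (hd : m ∣ q ^ 2 + q + 1)
    (hp : m.Coprime p) {u : P} (hu : u ^ m = 1) : 6 * dm (u : GL (Fin n) K) ≤ 6 * ev (u : GL (Fin n) K) 1 ^ 2 +
      (n - ev (u : GL (Fin n) K) 1) ^ 2 ∧ 6 ∣ n - ev (u : GL (Fin n) K) 1 := by
  have : NeZero m := ⟨by omega⟩
  have := M.char
  obtain ⟨μ, D⟩ := exists_muD M.core M.prime hp hu
  obtain ⟨h4, h5⟩ := D.fr M
  have key : ∀ i, μ (-(q : ZMod m) * i) = μ i := fun i => by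
    rw [neg_mul, h5 ht]
    cases t
    · exact ht.elim
    · exact ht.elim
    all_goals simpa [fr] using h4 i
  have hx : (-(q : ZMod m)) ^ 2 - -(q : ZMod m) + 1 = 0 := by
    have k : (q : ZMod m) ^ 2 + q + 1 = 0 := by exact_mod_cast (ZMod.natCast_eq_zero_iff _ m).2 hd
    linear_combination k
  let g : (ZMod m)ˣ := ⟨-q, 1 + q, by linear_combination -hx, by linear_combination -hx⟩
  have hg : orderOf g = 6 := orderOf_units.symm.trans (ord6 h1 (cop6 h3 hd) hx)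
  have h6 := D.free (Γ := Subgroup.zpowers g) (Subgroup.zpowers_le.2 key) fun y hy i hi _ e => by
    obtain ⟨k, hk, rfl⟩ := Finset.mem_image.1 (mem_zpowers_iff_mem_range_orderOf.1 hy)
    rw [hg, Finset.mem_range] at hk
    rcases k.eq_zero_or_pos with rfl | h0
    · exact pow_zero _
    · exact absurd (free6 (cop6 h3 hd) hx h0 hk (by simpa [g] using e)) hi
  rwa [Nat.card_zpowers, hg] at h6

/-- the degree of the field of the socle -/
def vv : Kd → ℕ → ℕ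
  | .U, j => 2 * j
  | _, j => j

/-- the bound for the stabiliser -/
def BB (j : ℕ) (t : Kd) : Bd := .s (2 * vv t j) (8 * vv t j)

variable {E : Type} [Field E] [Fintype E]

variable (t q p T b P G c f) in
/-- the data -/
structure Cx (j : ℕ) (φ : SL(2 + 1, E) →* GL (Fin n) K) : Prop where
  M : Md t q p T b P G c f
  nd : ∃ a, 1 ≤ a ∧ Fintype.card E = p ^ a ∧ Nd (.L 3) p a (Soc P)
  iso : Nonempty (Soc P ≃* ProjectiveSpecialLinearGroup (Fin (2 + 1)) E)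
  card : Nat.card E = Nat.card K ^ j
  pos : 1 ≤ j
  range : φ.range = P
  ker : φ.ker ≤ Subgroup.center _

namespace Cx

variable {j : ℕ} {φ : SL(2 + 1, E) →* GL (Fin n) K} (X : Cx t q p T b P G c f j φ)
include X

theorem card' : Nat.card E = q ^ vv t j := by
  rw [X.card, Nat.card_eq_fintype_card, X.M.card]
  cases t
  case U => exact (pow_mul ..).symm
  all_goals rfl

theorem hB : HB q b 1 (BB j t) := by
  obtain ⟨a, -, h1, N⟩ := X.nd
  exact .s rfl (X.M.toMd0.bnd N (w := 1) (v := vv t j) (by rw [pow_one, ← h1, ← X.card', Nat.card_eq_fintype_card]) one_pos le_rfl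
    (one_mul _).ge (by rw [one_mul, mul_comm]; rfl))

theorem cop {m : ℕ} (h : m ∣ Nat.card E ^ 2 + Nat.card E + 1) : m.Coprime p := by
  obtain ⟨a, h0, h1, -⟩ := X.nd
  refine Nat.Coprime.coprime_dvd_left h ((Nat.coprime_comm.1 ((Nat.Prime.coprime_iff_not_dvd X.M.prime).2 fun e => ?_)))
  have h2 : p ∣ Nat.card E := by rw [Nat.card_eq_fintype_card, h1]; exact dvd_pow_self p (by omega)
  exact X.M.prime.one_lt.ne' (Nat.dvd_one.1 ((Nat.dvd_add_right (dvd_add (dvd_pow h2 two_ne_zero) h2)).1 e))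

theorem el (y : SL(2 + 1, E)) : φ y ∈ P := X.range ▸ ⟨y, rfl⟩

theorem el_pow {y : SL(2 + 1, E)} {m : ℕ} (h : y ^ m = 1) : (⟨φ y, X.el y⟩ : P) ^ m = 1 :=
  Subtype.ext (by rw [SubmonoidClass.coe_pow, ← map_pow, h, map_one, OneMemClass.coe_one])

/-- elements of prime order -/
theorem useP {k : Type} [Field k] {ι : E →+* k} {r e m : ℕ} {y : SL(2 + 1, E)} {ζ : k} (hr : r.Prime) (D : Dz ι r y ζ)
    (he : orderOf ((fr t q : ℤ) : ZMod r) = e) (h1 : e ≠ 1) (hk : ∀ s, e ∣ s → kb t ∣ s → 6 ∣ s) (hm : ev (φ y) 1 ≤ m)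
    (h : chkP t n (BB j t) 6 e (fun x _ => Nat.blt m x) = true) : G := by
  have := Fact.mk hr
  exact X.M.of_P (u := ⟨φ y, X.el y⟩) hr ((Nat.coprime_primes hr X.M.prime).1 (X.cop D.dvd)) (by have := D.lt; omega)
    (orderOf_eq_prime (X.el_pow D.pow) fun e => D.noncentral (X.ker (congrArg Subtype.val e))) he h1 (by decide)
    (fun s h1 h2 _ => hk s h1 h2) (by rw [← Bool.not_eq_true, Nat.blt_eq]; exact hm.not_gt) (X.M.toMd0.cq _) X.hB h

theorem ex : ∃ a, Nd (.L 3) p a (Soc P) ∧ p ^ a ≤ Fintype.card K ^ j := by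
  obtain ⟨a, -, h1, h2⟩ := X.nd
  exact ⟨a, h2, by rw [← h1, ← Nat.card_eq_fintype_card, X.card, Nat.card_eq_fintype_card]⟩

theorem cD (u : P) {D : ℕ} (hu : dm (u : GL (Fin n) K) ≤ D) (h : 4 * n + 3 * D + 18 * j + 6 ≤ n ^ 2) : G := by
  obtain ⟨a, N, h1⟩ := X.ex
  exact X.M.toMd0.ct_dm N h1 (k := 6) le_rfl u hu (show _ + 2 * (j * 9) + _ ≤ _ by omega)

variable [hp : Fact p.Prime] [CharP K p] [CharP E p] [CharP (AlgebraicClosure K) p] [Nonempty (Fin n)]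

/-- the matrix coefficient -/
theorem coef (ι : E →+* AlgebraicClosure K) :
    (∀ L : Submodule (AlgebraicClosure K) (Fin n → AlgebraicClosure K), (∀ g, ∀ w ∈ L, lin (acRep φ) g w ∈ L) → L = ⊥ ∨ L = ⊤) ∧
    ∃ v ≠ 0, ∃ ψ : Dual (AlgebraicClosure K) (Fin n → AlgebraicClosure K), ψ ≠ 0 ∧ ∃ a b, a < Nat.card E ∧ b < Nat.card E ∧
      (∀ g, ψ (lin (acRep φ) g v) = xi ι a b g) ∧ (a ≠ 0 ∨ b ≠ 0) ∧ 3 * 2 ^ j ≤ n + 3 ∧
      (a ≠ 0 → b ≠ 0 → 6 * 2 ^ j ≤ n + 6 ∧ 3 * ((Ds p a).card + (Ds p b).card) ≤ n + 6) := by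
  have : Finite (cA 2).Group := finite_W (cA 2).toCoxeterSystem (isCartan 2)
  have R := A3.Cx.R (E := E) (l := 2) (p := p)
  have hirr := ac_irr R A3.Cx.hG slT_comm X.range X.M.core.absIrred
  have hD := finrank_D R hirr slT_comm
  obtain ⟨v, hv, hv0, ψ, hψ, x, y, hx, hy, hx0, hy0, hf⟩ := exists_coef p hirr ι le_rfl fun i _ => by
    fin_cases i
    exacts [.inl rfl, .inr rfl]
  have io : ∀ i, i ∉ A3.JJ φ → 2 ^ j ≤ A3.II φ i + 2 := fun i hi => by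
    obtain ⟨d, h1, h2⟩ := edge_pow_of_card R A3.Cx.hG slT_comm X.range X.M.core.absIrred (H650.Ppd.nd_A i) hi X.card
    simpa only [hD] using ((Nat.pow_le_pow_left h1 j).trans h2.ge).trans (finrank_Io R hirr i)
  obtain ⟨i, hi⟩ : ∃ i, i ∉ A3.JJ φ := exists_not_mem R hirr (by
    have := five_le X.M.dim
    rw [hD, finrank_fin_fun]
    omega)
  refine ⟨irr_all hirr, v, hv0, ψ, hψ, x, y, hx, hy, hf, ?_, ?_, fun h0 h1 => ?_⟩
  · fin_cases i
    exacts [.inl (mt (hx0 0 rfl).2 hi), .inr (mt (hy0 1 rfl).2 hi)]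
  · have h1 : 3 + 3 * A3.II φ i ≤ n := by
      have k := dim_ge_A R hirr hi
      rw [hD, finrank_fin_fun] at k
      fin_cases i <;> exact k
    have := io i hi
    omega
  · have k0 := mt (hx0 0 rfl).1 h0
    have k1 := mt (hy0 1 rfl).1 h1
    have h2 : 6 + 3 * (A3.II φ 0 + A3.II φ 1) ≤ n := by
      have k := dim_ge_two R hirr (i := (0 : Fin 2)) (j := (1 : Fin 2)) Nat.one_pos k0 k1
      rwa [hD, finrank_fin_fun, show ((0 : Fin 2) : Fin 2).val = 0 from rfl, show ((1 : Fin 2) : Fin 2).val = 1 from rfl,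
        card_flg_2_01] at k
    have h3 := io 0 k0
    have h4 := io 1 k1
    have h5 : (Ds p x).card ≤ A3.II φ 0 + 2 := by
      simpa only [hD] using (Ds_le_Le_zero ι le_rfl p hv hf hx (i := 0) rfl).trans (finrank_Io R hirr 0)
    have h6 : (Ds p y).card ≤ A3.II φ 1 + 2 := by
      simpa only [hD] using (Ds_le_Le_last ι le_rfl p hv hf hy (i := 1) rfl).trans (finrank_Io R hirr 1)
    omega

/-- linear groups -/
theorem lin_case (ht : t = .L) : G := by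
  subst ht
  obtain ⟨e⟩ := X.iso
  obtain ⟨-, -, -, -, -, -, -, -, -, -, -, hj, -⟩ := X.coef (exists_emb E (AlgebraicClosure K) p).some
  have h5 : 5 ≤ n := X.M.dim
  have hq := X.M.toMd0.q_ge
  have hE : Nat.card E = q ^ j := X.card'
  have key : n < 12 → ∃ φ : SL(2 + 1, E) →* GL (Fin n) K, φ.range = P ∧ ∃ (ι : E →+* AlgebraicClosure K) (a b : ℕ),
      (∀ {m y ζ}, Dz ι m y ζ → (∀ {r i}, r ^ 2 < m → a = r * p ^ i ∧ b = 0 ∨ a = 0 ∧ b = r * p ^ i → dm (φ y) ≤ n) ∧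
        (Nat.card E = 4 → m = 7 → p = 2 → a = 3 ∧ b = 0 ∨ a = 0 ∧ b = 3 → dm (φ y) ≤ 2 * n)) ∧ a < Nat.card E ∧ b < Nat.card E ∧
      ((b = 0 ∧ OneCase p 3 a n ∨ a = 0 ∧ OneCase p 3 b n) ∨ n = 9 ∧ Nat.card E = Nat.card K) := fun h => by
    obtain ⟨φ, h1, -, -, hirr, ι, v, ψ, x, y, hv, hψ, hx, hy, hf, hc⟩ := exists_rep3 p X.M.core e (by simpa using h)
    rw [Fintype.card_fin] at hc
    refine ⟨φ, h1, ι, x, y, fun D => ⟨dm_sym hirr hv hψ D p hf, dm_nine hirr hv hψ D p hf⟩, hx, hy, ?_⟩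
    rcases hc with hc | hc | ⟨⟨i, k, rfl, rfl, rfl | h9⟩, -⟩
    exacts [.inl (.inl hc), .inl (.inr hc), absurd (sd_of_lin p h1 (sd_of_eq hirr one_le_two hv hψ hf)) X.M.frm,
      .inr ⟨h9, card_eq_of_dvd (r := 1) (i := i) X.pos X.card.symm le_rfl hp.out.one_lt
        (by simpa using dvd_zero p hirr hv hψ le_rfl hf)⟩]
  obtain rfl | rfl | h3 : j = 1 ∨ j = 2 ∨ 3 ≤ j := by have := X.pos; omega
  · rcases Nat.lt_or_ge n 8 with h | h
    swap
    · exact X.M.sieve (F := fun t _ => t != .L) h X.hB nofun (by decide +kernel)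
    obtain ⟨φ, h1, ι, x, y, hD, -, -, hc⟩ := key (by omega)
    have k : ∀ z, OneCase p 3 z n → n = 6 ∧ ∃ i, z = 2 * p ^ i := by
      rintro z (⟨r, i, hr, -, rfl, h2⟩ | ⟨-, -, -, -, h2⟩)
      · rcases (choose_cases hr h2).1 rfl (by omega) with ⟨-, h4⟩ | ⟨rfl, h4⟩ | ⟨-, h4⟩
        exacts [by omega, ⟨h4, i, rfl⟩, by omega]
      · omega
    obtain ⟨r, -, h4, h6, hd⟩ := exists_r hq
    obtain ⟨u, ζ, D⟩ := exists_dz ι p h4 h6 (by rwa [hE, pow_one])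
    obtain ⟨rfl, i, hi⟩ : n = 6 ∧ ∃ i, x = 2 * p ^ i ∧ y = 0 ∨ x = 0 ∧ y = 2 * p ^ i := by
      rcases hc with (⟨h7, h8⟩ | ⟨h7, h8⟩) | h7
      exacts [(k _ h8).imp_right fun ⟨i, hi⟩ => ⟨i, .inl ⟨hi, h7⟩⟩, (k _ h8).imp_right fun ⟨i, hi⟩ => ⟨i, .inr ⟨h7, hi⟩⟩, by omega]
    exact X.M.toMd0.of_crude ⟨φ u, h1 ▸ ⟨u, rfl⟩⟩ ((hD D).1 h4 hi) X.hB (by decide +kernel)
  · rcases Nat.lt_or_ge n 10 with h | h
    swap
    · exact X.M.sieve (F := fun t _ => t != .L) h X.hB nofun (by decide +kernel)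
    obtain rfl : n = 9 := by omega
    rcases hq.eq_or_lt with rfl | hq
    · obtain ⟨φ, h1, ι, x, y, hD, hx, hy, hc⟩ := key (by omega)
      obtain rfl : p = 2 := by
        obtain ⟨a, h0, h2⟩ := X.M.pow
        exact (Nat.prime_dvd_prime_iff_eq hp.out Nat.prime_two).1 (h2 ▸ dvd_pow_self p h0.ne')
      have k : ∀ z, z < 4 → OneCase 2 3 z 9 → z = 3 := by
        rintro z hz (⟨r, i, hr, -, rfl, h2⟩ | ⟨i, l, h2, rfl, -⟩)
        · rcases (choose_cases hr h2).1 rfl (by omega) with ⟨-, h4⟩ | ⟨-, h4⟩ | ⟨-, h4⟩ <;> omega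
        · have h4 : 2 ^ (i + 1) ≤ 2 ^ l := Nat.pow_le_pow_right two_pos h2
          have := Nat.two_pow_pos i
          omega
      obtain ⟨u, ζ, D⟩ := exists_dz (m := 7) ι 2 (by decide) (by decide) (by rw [hE]; decide)
      refine X.M.toMd0.of_crude ⟨φ u, h1 ▸ ⟨u, rfl⟩⟩ ((hD D).2 hE rfl rfl ?_) X.hB (by decide +kernel)
      rw [hE] at hx hy hc
      rcases hc with (⟨h7, h8⟩ | ⟨h7, h8⟩) | ⟨-, h7⟩
      exacts [.inl ⟨k _ hx h8, h7⟩, .inr ⟨h7, k _ hy h8⟩, absurd ((Nat.card_eq_fintype_card.trans X.M.card).symm.trans h7.symm) (by decide)]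
    · obtain ⟨s, rfl⟩ : ∃ s, q = s + 1 := ⟨q - 1, by omega⟩
      obtain ⟨r, hr, h4, h6, hd⟩ := exists_r (q := s) (by omega)
      obtain ⟨u, ζ, D⟩ := exists_dz (exists_emb E (AlgebraicClosure K) p).some p h4 h6
        (by rw [hE]; exact hd.trans ⟨(s + 1) ^ 2 + (s + 1) + 1, by ring⟩)
      refine X.useP hr D (ord6 hr.one_lt (cop6 h6 hd) ?_) (by decide) (fun _ h _ => h) (ev_le_n _ _) (by decide +kernel)
      have k : (s : ZMod r) ^ 2 + s + 1 = 0 := by exact_mod_cast (ZMod.natCast_eq_zero_iff _ r).2 hd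
      simp only [fr]
      push_cast
      linear_combination k
  · obtain ⟨a, N, h1⟩ := X.ex
    have h2 : 2 * j + 2 ≤ 2 ^ j := by
      obtain ⟨k, rfl⟩ := Nat.exists_eq_add_of_le' h3
      have := Nat.lt_two_pow_self (n := k)
      rw [pow_add]
      omega
    have h4 : (6 * j + 3) ^ 2 ≤ n ^ 2 := Nat.pow_le_pow_left (by omega) 2
    refine X.M.toMd0.ct_scL N rfl h1 (k := 6) le_rfl (show _ + 2 * (j * 9) + _ + _ ≤ _ from ?_)
    have h6 : 36 * j + 36 ≤ n ^ 2 := by nlinarith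
    omega

/-- the other kinds -/
theorem form_case (ht : t ≠ .L) : G := by
  obtain ⟨e⟩ := X.iso
  obtain ⟨ι⟩ := exists_emb E (AlgebraicClosure K) p
  obtain ⟨hirr, v, hv, ψ, hψ, x, y, hx, hy, hf, h0, -, hb'⟩ := X.coef ι
  have h5 := five_le X.M.dim
  have hq := X.M.toMd0.q_ge
  have hE := X.card'
  have hs : bil t → Cj P (p ^ 0) := fun h g hg => by
    have k := X.M.frm
    rw [pow_zero, pow_one]
    cases t
    exacts [h.elim, h.elim, (k.2.1 g hg).symm, (k.2 g hg).symm, (k.2 g hg).symm, (k.2 g hg).symm]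
  obtain ⟨k, hk⟩ : ∃ k, Cj P (p ^ k) := by
    by_cases h : bil t
    · exact ⟨0, hs h⟩
    obtain ⟨a, -, ha⟩ := X.M.pow
    cases t
    case L => exact absurd rfl ht
    case U => exact ⟨a, ha ▸ X.M.frm.1⟩
    all_goals exact absurd trivial h
  have hx0 : x ≠ 0 := by
    rintro rfl
    exact not_cj_last p hirr hv hψ le_rfl (h0.resolve_left (· rfl)) hf X.range X.M.core.absIrred hk
  have hy0 : y ≠ 0 := by
    rintro rfl
    exact not_cj_zero p hirr hv hψ le_rfl hx0 hf X.range X.M.core.absIrred hk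
  obtain ⟨h1, h2⟩ := hb' hx0 hy0
  rcases Nat.lt_or_ge j 3 with hj | h3
  swap
  · have h4 : 2 * j + 2 ≤ 2 ^ j := by
      obtain ⟨k, rfl⟩ := Nat.exists_eq_add_of_le' h3
      have := Nat.lt_two_pow_self (n := k)
      rw [pow_add]
      omega
    obtain ⟨u, hu⟩ := X.M.small
    have h6 : 42 * n ≤ n ^ 2 := by rw [pow_two]; exact Nat.mul_le_mul_right _ (by omega)
    exact X.cD u hu (by omega)
  obtain ⟨r, hr, h4, h6, hd⟩ := exists_r hq
  have hr0 : (q : ZMod r) ^ 2 + q + 1 = 0 := by exact_mod_cast (ZMod.natCast_eq_zero_iff _ r).2 hd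
  by_cases hU : t = .U
  · subst hU
    obtain rfl | rfl : j = 1 ∨ j = 2 := by have := X.pos; omega
    swap
    · exact X.M.sieve (lo := 18) (F := fun t _ => t != .U) (by omega) X.hB nofun (by decide +kernel)
    rcases Nat.lt_or_ge n 13 with h | h
    swap
    · exact X.M.sieve (F := fun t _ => t != .U) h X.hB nofun (by decide +kernel)
    obtain ⟨u, ζ, D⟩ := exists_dz ι p h4 h6 (by rw [hE]; exact dvd_sq hd)
    refine X.useP hr D (ord6 hr.one_lt (cop6 h6 hd) ?_) (by decide) (fun _ h _ => h) (m := 12) ((ev_le_n _ _).trans (by omega)) ?_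
    · simp only [fr]
      push_cast
      linear_combination hr0
    · clear hf hv hψ hirr hk hs X
      interval_cases n <;> decide +kernel
  have hb : bil t := by
    cases t
    exacts [absurd rfl ht, absurd rfl hU, trivial, trivial, trivial, trivial]
  have hv' : vv t j = j := by
    cases t
    case U => exact absurd rfl hU
    all_goals rfl
  rw [hv'] at hE
  obtain rfl : y = x := by
    by_contra h
    obtain ⟨z, hz⟩ := exists_ne ι h hy hx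
    have k := cj_xi p hirr hv hψ hf one_le_two X.range X.M.core.absIrred (hs hb) (up ![z - 1, 0, 0] * lo ![1, 0, 0])
    rw [xi_up_lo, xi_up_lo] at k
    exact hz (by simpa using k)
  obtain ⟨u, ζ, D⟩ := exists_dz ι p h4 h6 (by
    obtain rfl | rfl : j = 1 ∨ j = 2 := by have := X.pos; omega
    exacts [by rwa [hE, pow_one], by rw [hE]; exact dvd_sq hd])
  have hP : ∀ {m lo k : ℕ}, ev (φ u) 1 ≤ m → lo ≤ n → n < lo + k → allK (fun t => t == .L || t == .U || (List.range' lo k).all fun n =>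
      !dimB t n || chkP t n (BB j t) 6 3 fun x _ => Nat.blt m x) = true → G := fun {m lo k} hm k1 k2 h => by
    refine X.useP hr D (e := 3) (ord3 hr.one_lt (cop6 h6 hd) ?_) (by decide) (fun s k3 k4 => ?_) hm ?_
    · cases t
      case U => exact absurd rfl hU
      all_goals simpa [fr] using hr0
    · have : 2 ∣ s := by
        cases t
        exacts [absurd rfl ht, absurd rfl hU, k4, k4, k4, k4]
      omega
    · have k3 := allK_sound h t
      simp only [Bool.or_eq_true, beq_iff_eq, ht, hU, false_or, List.all_eq_true] at k3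
      simpa only [dimB_of X.M.dim, Bool.not_true, Bool.false_eq_true, false_or] using k3 n (List.mem_range'_1.2 ⟨k1, k2⟩)
  rcases Nat.lt_or_ge n (3 * j + 18) with hn | hn
  swap
  · obtain rfl | rfl : j = 1 ∨ j = 2 := by have := X.pos; omega
    all_goals exact X.M.sieve (F := fun _ _ => false) hn X.hB nofun (by decide +kernel)
  rcases Ds_small hp.out y (by omega) (by omega) with ⟨s, i, k1, k2, rfl, k3⟩ | ⟨i, l, -, rfl, k3⟩
  swap
  · obtain rfl | rfl : j = 1 ∨ j = 2 := by have := X.pos; omega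
    all_goals exact hP (lo := 18) (k := 6) (ev_ad hirr hv hψ D p hf rfl rfl) (by omega) (by omega) (by decide +kernel)
  obtain rfl : j = 1 := by
    have k4 := card_eq_of_dvd X.pos X.card.symm k1 k2 (dvd_zero p hirr hv hψ le_rfl hf)
    exact Nat.pow_right_injective (a := Nat.card K) Finite.one_lt_card (X.card.symm.trans (k4.trans (pow_one _).symm))
  obtain rfl | rfl | rfl : s = 1 ∨ s = 2 ∨ s = 3 := by omega
  · exact hP (m := 8) (lo := 5) (k := 4) ((ev_le_n _ _).trans (le_eight hirr hv hψ D p hf (one_mul _) rfl)) h5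
      (by have := le_eight hirr hv hψ D p hf (one_mul _) rfl; omega) (by decide +kernel)
  · have h7 : n ≠ 12 := fun k => not_twelve p X.M.core (by omega) (by omega) (by simpa using k) e
    exact hP (m := 6) (lo := 13) (k := 8) (ev_sym hirr hv hψ D p hf h4 rfl rfl) (by omega) (by omega) (by decide +kernel)
  · have h7 : 5 ≤ q := by
      obtain ⟨a, k4, rfl⟩ := X.M.pow
      exact (hp.out.five_le_of_ne_two_of_ne_three (by omega) (by omega)).trans (Nat.le_self_pow k4.ne' p)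
    obtain ⟨m, k4, k5, k6⟩ := exists_m h7
    obtain ⟨u, ζ, D⟩ := exists_dz ι p (by omega) k5 (by rwa [hE, pow_one])
    have k7 : ev (φ u) 1 ≤ 10 := ev_sym hirr hv hψ D p hf k4 rfl rfl
    obtain ⟨k8, z, k9⟩ := six X.M.toMd0 hb (by omega) k5 k6 (X.cop D.dvd) (X.el_pow D.pow)
    refine X.cD ⟨φ u, X.el u⟩ le_rfl ?_
    change 6 * dm (φ u) ≤ 6 * ev (φ u) 1 ^ 2 + (n - ev (φ u) 1) ^ 2 at k8
    change n - ev (φ u) 1 = _ at k9
    change _ + 3 * dm (φ u) + _ + _ ≤ _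
    generalize dm (φ u) = d at k8 ⊢
    generalize ev (φ u) 1 = w at k7 k8 k9
    obtain rfl | rfl | rfl : n = 18 ∨ n = 19 ∨ n = 20 := by omega
    all_goals interval_cases w <;> omega

end Cx

end A2

theorem row_a2 : Row (fA 3) := fun t n q p T b K _ _ P G c f M ⟨E, _, _, _, _, ⟨e⟩⟩ => by
  have := Fact.mk M.prime
  have := M.char
  have := M.core.nonempty
  have : CharP (AlgebraicClosure K) p := charP_of_injective_algebraMap (algebraMap K _).injective p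
  obtain ⟨a, ha, hE⟩ := exists_f E p
  obtain ⟨φ, hφ, hk, -⟩ := H905.Md.psl_cover (l := 2) p M.core.perfect (by omega) (fun h => by omega) e
  obtain ⟨j, h1, h2⟩ := H905.Md.psl_card (l := 2) p M.core.absIrred M.core.perfect (by omega) (fun h => by omega) e M.core.no_subfield
  have X : A2.Cx t q p T b P G c f j φ := ⟨M, ⟨a, ha, hE, nd_A M.core.simple M.core.nonabelian M.prime ha hE (by omega) (by omega) e⟩,
    ⟨e⟩, h2.symm, h1, hφ, hk⟩
  exact (em (t = .L)).elim X.lin_case X.form_case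

end Cfsg.Agent.N2C.RD
end

-- part: N2/Cl/RD/Mn2
section
/-!
# N2 (S3519), defining characteristic: `PΩ⁻_8(s)` in degree `8` over the field of `s ^ 2` elements (helper92)

* **`eight`**.
-/

set_option autoImplicit false
set_option linter.unusedSectionVars false

namespace Cfsg.Agent.N2C.RD.Mn

open Cfsg Cfsg.Geo Cfsg.Agent.H902 Cfsg.Agent.N2C.Cyc Cfsg.Agent.N2C.RX Cfsg.Agent.H915.LD Subgroup

theorem ev_ne {n : ℕ} {K : Type} [Field K] {u : GL (Fin n) K} (hu : u ≠ 1) : ev u 1 ≠ n := fun h => hu (by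
  have h1 : Module.End.eigenspace (Matrix.toLin' (u : Matrix (Fin n) (Fin n) K)) 1 = ⊤ :=
    Submodule.eq_top_of_finrank_eq (h.trans (Module.finrank_fin_fun K).symm)
  refine Units.ext (Matrix.toLin'.injective (LinearMap.ext fun v => ?_))
  have h2 : v ∈ Module.End.eigenspace (Matrix.toLin' (u : Matrix (Fin n) (Fin n) K)) 1 := h1 ▸ Submodule.mem_top
  rw [Module.End.mem_eigenspace_iff.1 h2, one_smul, Units.val_one, Matrix.toLin'_one, LinearMap.id_apply])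

theorem num_s {s : ℕ} (hs : 3 ≤ s) : 64 * s * (s ^ 2 + 1) ^ 3 ≤ 5 * (s ^ 2) ^ 5 := by
  have h1 : 9 ≤ s ^ 2 := Nat.pow_le_pow_left hs 2
  have h2 : 27 ≤ s ^ 3 := Nat.pow_le_pow_left hs 3
  have h3 : (9 * (s ^ 2 + 1)) ^ 3 ≤ (10 * s ^ 2) ^ 3 := Nat.pow_le_pow_left (by omega) 3
  refine Nat.le_of_mul_le_mul_left ?_ (show 0 < 729 by norm_num)
  calc 729 * (64 * s * (s ^ 2 + 1) ^ 3) = 64 * s * (9 * (s ^ 2 + 1)) ^ 3 := by ring
    _ ≤ 64 * s * (10 * s ^ 2) ^ 3 := Nat.mul_le_mul_left _ h3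
    _ = 64000 * s ^ 7 := by ring
    _ ≤ 729 * 5 * s ^ 3 * s ^ 7 := Nat.mul_le_mul_right _ (by omega)
    _ = _ := by ring

theorem gcd_le {q x : ℕ} (hq : 1 ≤ q) (h : q % 2 = 0 → x % 2 = 1) : Nat.gcd 4 x ≤ Nat.gcd 2 (q - 1) ^ 3 := by
  rcases Nat.mod_two_eq_zero_or_one q with h1 | h1
  · rw [show Nat.gcd 4 x = 1 from (Nat.coprime_pow_left_iff two_pos 2 x).2 (Nat.coprime_two_left.2 (Nat.odd_iff.2 (h h1)))]
    exact Nat.one_le_pow _ _ (Nat.gcd_pos_of_pos_left _ two_pos)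
  · rw [Nat.gcd_eq_left (show 2 ∣ q - 1 by omega)]
    exact (ct_gcd x).2.trans (by norm_num)

variable {t : Kd} {q p T b : ℕ} {K : Type} [Field K] [Fintype K] {P : Subgroup (GL (Fin 8) K)} {G : Prop} {c f : P → ℕ}
  (M : Md t q p T b P G c f)
include M

/-- the centraliser of an element with the eigenvalues `1, 1` and six others -/
theorem cen_le (ht : bil t) {r : ℕ} (hr : r.Prime) (h5 : 5 ≤ r) (hrp : r ≠ p) (ho : orderOf ((q : ℕ) : ZMod r) = 3) {u : P}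
    (hu : orderOf u = r) : ev (u : GL (Fin 8) K) 1 = 2 ∧ ∃ d, d ≤ 10 ∧
      c u * zz t q * q ^ dl t 2 ≤ kp t 2 * q ^ es t d 2 * (q + 1) ^ dl t 2 := by
  have := Fact.mk hr
  obtain ⟨μ, h1, h2, h3, -, h4, h6, h7⟩ := M.semi r u hrp (by omega) hu
  have hf : ((fr t q : ℤ) : ZMod r) = (q : ℕ) := by
    cases t
    exacts [ht.elim, ht.elim, Int.cast_natCast q, Int.cast_natCast q, Int.cast_natCast q, Int.cast_natCast q]
  rw [hf] at h4 h7
  have hq : orderOf (-1 * ((q : ℕ) : ZMod r)) = 6 := by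
    have h8 : orderOf (-1 : ZMod r) = 2 := by rw [orderOf_neg_one, ZMod.ringChar_zmod_n, if_neg (by omega)]
    rw [(Commute.all _ _).orderOf_mul_eq_mul_orderOf_of_coprime (by rw [h8, ho]; norm_num), h8, ho]
  have h0 : -1 * ((q : ℕ) : ZMod r) ≠ 0 := by
    intro e
    rw [e, orderOf_eq_zero_iff'.2 (fun k hk => by rw [zero_pow hk.ne']; exact zero_ne_one)] at hq
    omega
  obtain ⟨h8, h9⟩ := free_of (μ := μ) (Γ := zpowers (Units.mk0 _ h0)) (zpowers_le.2 fun i => by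
    rw [Units.val_mk0, mul_assoc, neg_one_mul, h6 ht, h4]) fun g _ i hi _ e =>
    Units.ext (mul_right_cancel₀ hi (e.trans (one_mul i).symm))
  rw [Nat.card_zpowers, ← orderOf_units, Units.val_mk0, hq, h1] at h8 h9
  have h10 : μ 0 ≠ 8 := h2 ▸ ev_ne fun e => by
    rw [show u = 1 from Subtype.ext e, orderOf_one] at hu
    omega
  have h11 : μ 0 ≤ 8 := h1 ▸ Finset.single_le_sum (fun _ _ => Nat.zero_le _) (Finset.mem_univ 0)
  have h12 : μ 0 = 2 := by omega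
  have h13 := h7 3 _ ho rfl
  have e1 : eq t 3 = 0 := by
    cases t
    exacts [rfl, ht.elim, rfl, rfl, rfl, rfl]
  rw [nu, if_pos e1, pow_zero, pow_zero, mul_one, mul_one, h12, ww, if_neg (fun e => by
    have h14 := (Nat.prime_dvd_prime_iff_eq hr Nat.prime_two).1 (hr.dvd_of_dvd_pow (show r ∣ 2 ^ 3 from e.2))
    omega), one_mul] at h13
  rw [h12, ← h3] at h8
  exact ⟨h2 ▸ h12, _, by omega, h13⟩

variable {a : ℕ} (N : Nd (.DD 4) p a (Soc P)) (hq : q = (p ^ a) ^ 2)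
include N hq

omit M in
theorem b_le' (M : Md0 t q p T b P G c f) : b ≤ 2 * a * q ^ 14 := by
  rw [hq, ← pow_mul]
  exact M.b_le N

/-- the orthogonal kinds -/
theorem eight_O (ht : bil t) (h1 : dl t 2 = 1) (h2 : kp t 2 = 2) (h3 : ∀ d, es t d 2 = (d - 2) / 2) (hz : zz t q = Nat.gcd 2 (q - 1))
    (hT : oP 4 q ≤ zz t q ^ 3 * T) : G := by
  have hq2 := M.q_ge
  have hs := N.two_le
  have ha := N.real.hf
  have hb := b_le' N hq M.toMd0
  have key : ∀ {r : ℕ} {u : P}, r.Prime → 5 ≤ r → r ≠ p → orderOf ((q : ℕ) : ZMod r) = 3 → orderOf u = r →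
      ev (u : GL (Fin 8) K) 1 = 2 ∧ c u * zz t q ≤ 2 * q ^ 3 * (q + 1) := fun hr h5 hrp ho hu => by
    obtain ⟨h4, d, hd, h6⟩ := cen_le M ht hr h5 hrp ho hu
    rw [h1, h2, h3, pow_one, pow_one] at h6
    refine ⟨h4, Nat.le_of_mul_le_mul_right (h6.trans ?_) (show 0 < q by omega)⟩
    calc 2 * q ^ ((d - 2) / 2) * (q + 1) ≤ 2 * q ^ 4 * (q + 1) := by
          gcongr
          · omega
          · omega
      _ = _ := by ring
  rcases hs.eq_or_lt with h4 | h4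
  · obtain ⟨rfl, rfl⟩ := (Nat.Prime.pow_eq_iff Nat.prime_two).1 h4.symm
    obtain rfl : q = 4 := hq
    have hN : Nat.card (Soc P) = 197406720 := by
      have h5 := N.ord_M
      have e1 : oD .M (2 * 4) (2 ^ 1) = 1 := by decide
      have e2 : oI .M (2 * 4) (2 ^ 1) = 197406720 := by decide
      rwa [e1, e2, one_mul] at h5
    have h7 : Nat.Prime 7 := by norm_num
    have := Fact.mk h7
    obtain ⟨g, hg⟩ := exists_prime_orderOf_dvd_card' (G := Soc P) 7 (by rw [hN]; norm_num)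
    obtain ⟨u, rfl, hu⟩ := exists_lift h7 (not_dvd_scal M.core h7 (Or.inl (by norm_num))) hg
    obtain ⟨h5, h6⟩ := key h7 (by norm_num) (by norm_num) (orderOf_eq_prime (by decide) (by decide)) hu
    have hz1 : zz t 4 = 1 := hz
    have h8 := M.fsyl u 7 h7 (by norm_num) (by rw [hz1]; norm_num) hu
      (fun h => N.not_dvd_of h7 (by norm_num) (by norm_num) (by decide) (h.trans M.ba)) fun g hg' => by
        obtain ⟨x, hx⟩ := syl_conj h7 (by rw [hN]; norm_num) hg' hg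
        obtain ⟨j, hj⟩ := (mem_powers_iff_mem_zpowers.2 (hx ▸ mem_zpowers g : g ∈ zpowers (x * toSoc P u * x⁻¹)))
        exact ⟨j, (isConj_iff.2 ⟨x, conj_pow.symm.trans hj⟩).symm⟩
    have h9 : 7 ≤ Nat.card (normalizer (zpowers (toSoc P u) : Set (Soc P))) := by
      rw [← hg, ← Nat.card_zpowers]
      exact card_le_of_le le_normalizer
    have h10 : Nat.card (Soc P) ≤ b := Nat.le_of_dvd (Nat.pos_of_dvd_of_pos M.ba N.aut_pos) M.nb
    rw [hz1, mul_one] at h6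
    rw [hz1, one_pow, one_mul, show oP 4 4 = 67010895544320000 by decide] at hT
    rw [h5, hN] at h8
    rw [hN] at h10
    have h11 : f u * 7 * b ≤ 640 * 6 * 197406720 := le_trans (by gcongr) (h8.trans (by gcongr; exact h6))
    have h12 : f u ≤ 548 := by
      have h13 : f u * 7 * 197406720 ≤ f u * 7 * b := Nat.mul_le_mul_left _ h10
      omega
    refine M.good u (Nat.le_of_mul_le_mul_left ?_ (show 0 < 7 by norm_num))
    calc 7 * (f u ^ 3 * b) = f u ^ 2 * (f u * 7 * b) := by ring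
      _ ≤ 548 ^ 2 * (640 * 6 * 197406720) := by gcongr
      _ ≤ _ := by omega
  · obtain ⟨r, u, hr, h5, -, h6, h7, hu, -⟩ := M.ppd N (k := 6) ⟨by norm_num, Or.inr ⟨rfl, by norm_num⟩⟩ (by omega) (by
      rintro ⟨rfl, e⟩
      obtain rfl : a = 1 := by omega
      omega)
    obtain ⟨-, h8⟩ := key hr h6 h7 (by
      rw [hq, ← pow_mul, ord_pow h5 (by omega), Nat.gcd_mul_left, Nat.mul_div_mul_left _ _ (by omega)]
      rfl) hu
    have h9 := two_mul_le M.prime.two_le a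
    have h10 := num_s h4
    rw [← hq] at h10
    have h11 : 5 * q ^ 28 ≤ 8 * oP 4 q := oP_ge hq2 (m := 3) le_rfl
    refine M.good u (Nat.le_of_mul_le_mul_left (le_trans ?_ hT) (pow_pos M.ct_zz 3))
    refine Nat.le_of_mul_le_mul_left (le_trans ?_ h11) (show 0 < 8 by norm_num)
    have h12 := M.fc u
    calc 8 * (zz t q ^ 3 * (f u ^ 3 * b)) ≤ 8 * (zz t q ^ 3 * (c u ^ 3 * (p ^ a * q ^ 14))) := by
          gcongr
          exact hb.trans (Nat.mul_le_mul_right _ h9)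
      _ = 8 * ((c u * zz t q) ^ 3 * (p ^ a * q ^ 14)) := by ring
      _ ≤ 8 * ((2 * q ^ 3 * (q + 1)) ^ 3 * (p ^ a * q ^ 14)) := by gcongr
      _ = 64 * p ^ a * (q + 1) ^ 3 * q ^ 23 := by ring
      _ ≤ 5 * q ^ 5 * q ^ 23 := Nat.mul_le_mul_right _ h10
      _ = _ := by ring

omit hq in
/-- **degree `8`** -/
theorem eight (hK : Fintype.card K = (p ^ a) ^ 2) (hS : SD P) : G := by
  have h := M.frm
  have hq := M.card
  have hd := M.dim
  have ho := M.ord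
  have hq2 := M.q_ge
  have ha := N.real.hf
  rw [hK] at hq
  have h4 : q % 2 = 0 → q ^ 4 % 2 = 0 := fun e => Nat.even_iff.1 ((Nat.even_iff.2 e).pow_of_ne_zero (by norm_num))
  have h5 : 0 < q ^ 4 := by positivity
  cases t
  · exact (h hS).elim
  · exact (h.2 hS).elim
  · have hb := b_le' N hq.symm M.toMd0
    obtain ⟨r, u, hr, h6, h7, hu, h8⟩ : ∃ (r : ℕ) (u : P), r.Prime ∧ 5 ≤ r ∧ r ≠ p ∧ orderOf u = r ∧
        orderOf ((q : ℕ) : ZMod r) = 3 := by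
      rw [show q = p ^ (a * 2) by rw [pow_mul]; exact hq.symm]
      by_cases h6 : p = 2 ∧ a * 3 = 6
      · obtain ⟨r, u, hr, h5, -, h7, h8, hu, -⟩ := M.ppd N (k := 6) ⟨by norm_num, Or.inr ⟨rfl, by norm_num⟩⟩ (by omega) (by omega)
        exact ⟨r, u, hr, h7, h8, hu, by
          rw [ord_pow h5 (by omega), Nat.gcd_mul_left, Nat.mul_div_mul_left _ _ (by omega)]
          rfl⟩
      · obtain ⟨r, u, hr, h5, -, h7, h8, hu, -⟩ := M.ppd N (k := 3) ⟨by norm_num, Or.inl (by norm_num)⟩ (by omega) h6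
        exact ⟨r, u, hr, h7, h8, hu, by
          rw [ord_pow h5 (by omega), Nat.gcd_mul_left, Nat.mul_div_mul_left _ _ (by omega)]
          rfl⟩
    obtain ⟨-, d, hd, h9⟩ := cen_le M trivial hr h6 h7 h8 hu
    have h10 : c u * zz .S q * q ^ 0 ≤ 1 * q ^ ((d + 2) / 2) * (q + 1) ^ 0 := h9
    have h11 : f u ≤ q ^ 6 := by
      rw [pow_zero, pow_zero, mul_one, mul_one, one_mul] at h10
      exact (M.fc u).trans ((Nat.le_mul_of_pos_right _ M.ct_zz).trans (h10.trans (Nat.pow_le_pow_right (by omega) (by omega))))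
    have h12 : 2 * q ^ 36 ≤ 3 * oSp 4 q := oSp_ge' hq2 4
    have h13 : Nat.gcd 2 (q - 1) * T = oSp 4 q := ho
    have h14 : oSp 4 q ≤ 2 * T := h13 ▸ Nat.mul_le_mul_right _ (Nat.gcd_le_left _ two_pos)
    have h15 : 2 * a ≤ q := (two_mul_le M.prime.two_le a).trans ((Nat.le_self_pow two_ne_zero _).trans hq.le)
    have h16 : 3 ≤ q ^ 3 := le_trans (by norm_num) (Nat.pow_le_pow_left hq2 3)
    refine M.good u (Nat.le_of_mul_le_mul_left (le_trans ?_ (show q ^ 36 ≤ 3 * T by omega)) (show 0 < 3 by norm_num))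
    calc 3 * (f u ^ 3 * b) ≤ q ^ 3 * ((q ^ 6) ^ 3 * (q * q ^ 14)) := by
          gcongr
          exact hb.trans (Nat.mul_le_mul_right _ h15)
      _ = _ := by ring
  · have := hd.2.1
    omega
  · refine eight_O M N hq.symm trivial rfl rfl (fun _ => rfl) rfl ?_
    have h6 : Nat.gcd 4 (q ^ 4 - 1) * T = oP 4 q := ho
    exact h6 ▸ Nat.mul_le_mul_right _ (gcd_le (by omega) fun e => by have := h4 e; omega)
  · refine eight_O M N hq.symm trivial rfl rfl (fun _ => rfl) rfl ((oP_le_oM 4 q).trans ?_)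
    have h6 : Nat.gcd 4 (q ^ 4 + 1) * T = oM 4 q := ho
    exact h6 ▸ Nat.mul_le_mul_right _ (gcd_le (by omega) fun e => by have := h4 e; omega)

end Cfsg.Agent.N2C.RD.Mn
end

-- part: N2/Cl/RD/Mn3
section
/-!
# N2 (S3519), defining characteristic, `PΩ⁻_{2m}`: root data of types `B₃` and `B₄` (helper92)

* `w41`, `w43`, `w30`, `w32`, `two_nodes` : criterion W;  `pl` : criterion PL;  `spin` : the module of degree `8`.
-/

set_option autoImplicit false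
set_option linter.unusedSectionVars false
set_option linter.style.longLine false

namespace Cfsg.Agent.N2C.RD.Mn

section abs

open CoxeterSystem Cfsg.Agent.ChevalleyStructure.CoxeterGeom Cfsg.Agent.Tits.Roots Cfsg.Agent.Tits.Core
  Cfsg.Agent.Tits.Exchange Cfsg.Agent.Nodes.Reps Cfsg.Agent.Nodes.BNOf Cfsg.Agent.Nodes.StabComb
  Cfsg.Agent.Nodes.Bruhat Cfsg.Agent.Nodes.OppDec Cfsg.Agent.Nodes.LeviDec Cfsg.Agent.KFacts.RgdOpp
  Cfsg.Agent.Omega.CR Cfsg.Agent.Omega.FOne.Lift.Sd Cfsg.Agent.H911 Cfsg.Agent.H905.Md Cfsg.Agent.Nodes.RGDLib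
open Cfsg Cfsg.Geo Module
open Cfsg.Agent.H915.LD
open Cfsg.Agent.Nodes.TypeC (isCartan A)
open Cfsg.Agent.N2C.RD.Rg

variable {W Y : Type*} [Group W] [Group Y] {p : ℕ} {T : Subgroup Y} [Finite Y] [Finite W] [hp : Fact p.Prime]
  {n : ℕ} {K : Type} [Field K] [Finite K] [CharP K p] {P : Subgroup (GL (Fin n) K)} {φ : Y →* GL (Fin n) K}

theorem ind_zero {I : Type*} [DecidableEq I] {J : Set I} {i : I} (hi : i ∉ J) : ∀ s ∈ J, (Pi.single i 1 : I → ℤ) s = 0 :=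
  fun s hs => Pi.single_eq_of_ne (by rintro rfl; exact hi hs) _

section four

variable {cs : CoxeterSystem (CoxeterMatrix.B 4) W} {nn : Fin 4 → Y} {X : (Fin 4 → ℤ) → Subgroup Y}
  (R : RGD cs (isCartan 4) p T nn X) (hC : Core P) (hG : GG cs (isCartan 4) T X = ⊤)
  (hT : ∀ s ∈ T, ∀ t ∈ T, s * t = t * s) (hφ : φ.range = P)
include R hC hG hT hφ

private noncomputable def _root_.Cfsg.Agent.LsF.f6aca71_16 : {f // @Cfsg.Agent.Nodes.TypeC.Cf = f} := ⟨_, by first | (delta Cfsg.Agent.Nodes.TypeC.Cf; rewrite [Cfsg.Agent.LsF.nadd_pat, Cfsg.Agent.LsF.isub_pat, Cfsg.Agent.LsF.decLt_eq, Cfsg.Agent.LsF.dite_eq]; exact rfl) | exact rfl⟩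
private noncomputable def _root_.Cfsg.Agent.LsF.f6aca71_17 : {f // @Cfsg.Agent.Nodes.TypeC.wt = f} := ⟨_, by first | (delta Cfsg.Agent.Nodes.TypeC.wt Function.update Pi.single; rewrite [Cfsg.Agent.LsF.ineg_pat, Cfsg.Agent.LsF.dFinEq_eq, Cfsg.Agent.LsF.dBoolEq_eq, Cfsg.Agent.LsF.ite_eq, Cfsg.Agent.LsF.dite_eq]; exact rfl) | exact rfl⟩
private noncomputable def _root_.Cfsg.Agent.LsF.f6aca71_18 : {f // @Cfsg.Agent.Nodes.TypeC.nx = f} := ⟨_, by first | (delta Cfsg.Agent.Nodes.TypeC.nx; rewrite [Cfsg.Agent.LsF.nadd_pat, Cfsg.Agent.LsF.decLt_eq, Cfsg.Agent.LsF.dite_eq]; exact rfl) | exact rfl⟩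
private noncomputable def _root_.Cfsg.Agent.LsF.f6aca71_19 : {f // @Cfsg.Agent.Nodes.TypeC.bt = f} := ⟨_, by first | (delta Cfsg.Agent.Nodes.TypeC.bt; rewrite [Cfsg.Agent.LsF.f6aca71_17.2, Cfsg.Agent.LsF.f6aca71_18.2, Cfsg.Agent.LsF.instIAdd_eq]; exact rfl) | exact rfl⟩
private noncomputable def _root_.Cfsg.Agent.LsF.f6aca71_20 : {f // @Cfsg.Agent.Nodes.TypeC.A = f} := ⟨_, by first | (delta Cfsg.Agent.Nodes.TypeC.A; rewrite [Cfsg.Agent.LsF.f6aca71_16.2, Cfsg.Agent.LsF.f6aca71_19.2]; exact rfl) | exact rfl⟩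
theorem w41 (hi : (1 : Fin 4) ∉ Jx cs (isCartan 4) X (lin (acRep φ))) :
    24 ≤ n ∧ ∃ u : P, dm (u : GL (Fin n) K) ≤ 3 * n + (n - 24) * (3 + (n - 24)) :=
  exists_dm_le R hC hG hT hφ (ind_zero hi) [0, 1, 2, 3] [([], 8), ([1], 8), ([1, 2], 8)] [] [] [] (fun e he => absurd he (by simp))
    (by (refine of_decide_eq_true ?_; (try (delta Cfsg.Agent.H905.DC.fire Cfsg.Agent.N2C.RD.Rg.cv Cfsg.Agent.N2C.RD.Rg.orb Cfsg.Agent.N2C.RD.Rg.pts Function.update Pi.single; rewrite [Cfsg.Agent.LsF.dPiF_pat, Cfsg.Agent.LsF.f6aca71_20.2, Cfsg.Agent.LsF.imul_pat, Cfsg.Agent.LsF.isub_pat, Cfsg.Agent.LsF.lappend_pat, Cfsg.Agent.LsF.iterate_eq, Cfsg.Agent.LsF.map_eq, Cfsg.Agent.LsF.foldl_eq, Cfsg.Agent.LsF.flatMap_eq, Cfsg.Agent.LsF.range_eq, Cfsg.Agent.LsF.instIDecEq_eq, Cfsg.Agent.LsF.dFinEq_eq, Cfsg.Agent.LsF.dNodup_eq, Cfsg.Agent.LsF.dite_eq, Cfsg.Agent.LsF.decide_eq])); decide +kernel)) List.nodup_nil (o :=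 3) (o' := 0) (m := 24) (m' := 0) rfl rfl rfl rfl

theorem w43 (hi : (3 : Fin 4) ∉ Jx cs (isCartan 4) X (lin (acRep φ))) :
    16 ≤ n ∧ ∃ u : P, dm (u : GL (Fin n) K) ≤ 2 * n + (n - 16) * (2 + (n - 16)) :=
  exists_dm_le R hC hG hT hφ (ind_zero hi) [0, 1, 2, 3] [([], 8), ([3, 2], 8)] [] [] [] (fun e he => absurd he (by simp))
    (by decide +kernel) List.nodup_nil (o := 2) (o' := 0) (m := 16) (m' := 0) rfl rfl rfl rfl

end four

variable {cs : CoxeterSystem (CoxeterMatrix.B 3) W} {nn : Fin 3 → Y} {X : (Fin 3 → ℤ) → Subgroup Y}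
  (R : RGD cs (isCartan 3) p T nn X) (hC : Core P) (hG : GG cs (isCartan 3) T X = ⊤)
  (hT : ∀ s ∈ T, ∀ t ∈ T, s * t = t * s) (hφ : φ.range = P)
include R hC hG hT hφ

theorem w30 (hi : (0 : Fin 3) ∉ Jx cs (isCartan 3) X (lin (acRep φ)))
    (hd : 3 ≤ finrank (AlgebraicClosure K) (Le cs (isCartan 3) T X (lin (acRep φ)) {0})) :
    18 ≤ n ∧ ∃ u : P, dm (u : GL (Fin n) K) ≤ 3 * n + (n - 18) * (3 + (n - 18)) :=
  exists_dm_le R hC hG hT hφ (ind_zero hi) [0, 1, 2] [([], 6)] [] [((0, []), 6), ((0, [1]), 6)] [] (fun e he => by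
      simp only [List.append_nil, List.mem_cons, List.not_mem_nil, or_false] at he
      rcases he with rfl | rfl <;> exact hd)
    (by decide +kernel) (by decide +kernel) (o := 3) (o' := 0) (m := 18) (m' := 0) rfl rfl rfl rfl

theorem w32 (hi : (2 : Fin 3) ∉ Jx cs (isCartan 3) X (lin (acRep φ)))
    (hd : 3 ≤ finrank (AlgebraicClosure K) (Le cs (isCartan 3) T X (lin (acRep φ)) {2})) :
    20 ≤ n ∧ ∃ u : P, dm (u : GL (Fin n) K) ≤ 3 * n + (n - 18) * (4 + (n - 20)) :=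
  exists_dm_le R hC hG hT hφ (ind_zero hi) [0, 1, 2] [([], 6)] [([2, 1], 2)] [((2, []), 6), ((2, [1]), 6)] [] (fun e he => by
      simp only [List.append_nil, List.mem_cons, List.not_mem_nil, or_false] at he
      rcases he with rfl | rfl <;> exact hd)
    (by decide +kernel) (by decide +kernel) (o := 3) (o' := 1) (m := 18) (m' := 2) rfl rfl rfl rfl

theorem two_nodes {i : Fin 3} (hi : i ∉ Jx cs (isCartan 3) X (lin (acRep φ))) (hi2 : i ≠ 2)
    (h2 : (2 : Fin 3) ∉ Jx cs (isCartan 3) X (lin (acRep φ))) : 24 ≤ n := by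
  have hc : ∀ s ∈ Jx cs (isCartan 3) X (lin (acRep φ)), (Pi.single i 1 + Pi.single 2 1 : Fin 3 → ℤ) s = 0 := fun s hs => by
    rw [Pi.add_apply, ind_zero hi s hs, ind_zero h2 s hs, add_zero]
  obtain rfl | rfl : i = 0 ∨ i = 1 := by
    clear hi hc
    revert i
    decide
  · exact (exists_dm_le R hC hG hT hφ hc [0, 1, 2] [([], 6), ([0], 6), ([0, 1], 6), ([2, 1], 6)] [] [] [] (fun e he => absurd he (by simp))
      (by decide +kernel) List.nodup_nil (o := 4) (o' := 0) (m := 24) (m' := 0) rfl rfl rfl rfl).1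
  · exact (exists_dm_le R hC hG hT hφ hc [0, 1, 2] [([], 6), ([1], 6), ([2], 6), ([2, 1], 6)] [] [] [] (fun e he => absurd he (by simp))
      (by decide +kernel) List.nodup_nil (o := 4) (o' := 0) (m := 24) (m' := 0) rfl rfl rfl rfl).1

/-- criterion PL -/
theorem pl (h1 : (1 : Fin 3) ∉ Jx cs (isCartan 3) X (lin (acRep φ))) (h2 : (2 : Fin 3) ∈ Jx cs (isCartan 3) X (lin (acRep φ)))
    {r : ℕ} (hr : r.Prime) (hrp : r ≠ p) (hrT : ¬ r ∣ Nat.card T) (hd : r ∣ 1 + Nat.card (X (sr 2)))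
    (he : ∀ d, 0 < d → r ∣ Nat.card K ^ d - 1 → 4 ≤ d) :
    ∃ u : P, u ^ r = 1 ∧ 16 + ev (u : GL (Fin n) K) 1 ≤ n ∧ 4 ≤ ev (u : GL (Fin n) K) 1 := by
  obtain ⟨s, hs, hE⟩ := exists_el1 R hr hrp hrT hd
  have hsr : s ^ r = 1 := hs ▸ pow_orderOf_eq_one s
  refine ⟨⟨φ s, by rw [← hφ]; exact ⟨s, rfl⟩⟩, Subtype.ext (by
    show φ s ^ r = 1
    rw [← map_pow, hsr, map_one]), ?_, ?_⟩
  · exact levi_ev R hC hG hT hφ (ind_zero h1) [2] (by simpa using hE) hr hrp hsr [[1], [1, 0], [1, 0, 2, 1], [1, 0, 2, 1, 0]]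
      [![1, 0, 0], ![0, 2, 1]] (by decide +kernel) (by decide +kernel) (by decide +kernel) (by decide +kernel) he
  · refine fix_ev R hC hG hT hφ (ind_zero h1) hE.1 hsr ((Nat.Prime.coprime_iff_not_dvd hr).2 hrT)
      [[], [1, 2, 1], [1, 2, 1, 0], [1, 0, 2, 1, 0, 2, 1]] (fun ω hω i hi m hm => ?_) (by decide +kernel)
    obtain rfl : i = 2 := hi
    have hm2 : m ≠ 2 := fun e => hm (e ▸ h2)
    clear hm
    revert ω m
    decide +kernel

/-- the module of degree `8` -/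
theorem spin (hi : (2 : Fin 3) ∉ Jx cs (isCartan 3) X (lin (acRep φ)))
    (hJ : ∀ j, j ∉ Jx cs (isCartan 3) X (lin (acRep φ)) → j = 2)
    (hd : finrank (AlgebraicClosure K) (Le cs (isCartan 3) T X (lin (acRep φ)) {2}) ≤ 2)
    (hZ : ∀ S : Subgroup Y, T ≤ S → (∀ w, X (rep cs (isCartan 3) w (sr 2)) ≤ S) → ∀ x, IsRoot cs (isCartan 3) x → X x ≤ S) :
    n ≤ 8 := by
  have hne := hC.nonempty
  have hchar : CharP (AlgebraicClosure K) p := charP_of_injective_algebraMap (algebraMap K _).injective p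
  have hirr := ac_irr R hG hT hφ hC.absIrred
  have hD := finrank_D R hirr hT
  have h := dim_le_Z R hirr hi hJ (by rw [hD]; exact hd) hZ
    [[], [2], [2, 1], [2, 1, 0], [2, 1, 2], [2, 1, 0, 2], [2, 1, 0, 2, 1], [2, 1, 0, 2, 1, 2]] (by decide +kernel) (by decide +kernel)
    [![0, 0, 1], ![0, 2, 1], ![2, 2, 1], ![0, 0, -1], ![0, -2, -1], ![-2, -2, -1]] (by decide +kernel) (by decide +kernel)
    [[], [1], [0, 1]] (by decide +kernel) (by decide +kernel)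
  rwa [hD, Module.finrank_fintype_fun_eq_card, Fintype.card_fin] at h

end abs

section gen

open CoxeterSystem Cfsg.Agent.ChevalleyStructure.CoxeterGeom Cfsg.Agent.Tits.Roots Cfsg.Agent.Tits.Core
  Cfsg.Agent.Nodes.Reps Cfsg.Agent.Nodes.BNOf Cfsg.Agent.Nodes.Bruhat Cfsg.Agent.Nodes.RGDLib
open Cfsg.Agent.Nodes Cfsg.Agent.Nodes.WittRoot Cfsg.Agent.Nodes.WittRGD Cfsg.Agent.Nodes.WittAll Cfsg.Agent.Nodes.WittInst
open Cfsg.Agent.Nodes.TypeC (isCartan ee wt exists_of_isRoot)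
open Cfsg.Agent.TitsThree.Siegel Cfsg.Agent.TitsThree.SiegelGen Cfsg.Agent.TitsThree.WittFrame Cfsg.Agent.TitsThree.FrameCN
  Cfsg.Agent.TitsThree.WBridge Cfsg.Agent.TitsThree.KSideO Cfsg.Agent.TitsThree Cfsg.Agent.TitsThree.StdData
open Cfsg.Agent.LieClassical Cfsg.Agent.LieClassical.OrthCore Cfsg.Agent.LieClassical.OrthTrans
open Cfsg.Agent.LieClassical.OrthSimple Cfsg.Agent.LieClassical.OrthFinite Cfsg.Agent.LieClassical.OrthForms
open Cfsg.Agent.Nodes.RGDLift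
open Cfsg.Agent.H156.Ppd (Cov)
open Cfsg.Agent.H948.Ppd Cfsg.Agent.H948.Ppd.Minus

theorem gen_Z {F V : Type*} [Field F] [AddCommGroup V] [Module F V] {H : HForm F V} (Fr : Frame H (Fin 3))
    (hs : ∀ t : F, ∃ p q : Fr.Adm, H.h p.w q.w = t) {W : Type*} [Group W] (cs : CoxeterSystem (CoxeterMatrix.B 3) W)
    {S : Subgroup (V ≃ₗ[F] V)} (h : ∀ w, rg Fr (rep cs (isCartan 3) w (sr 2)) ≤ S) {x : Fin 3 → ℤ}
    (hx : IsRoot cs (isCartan 3) x) : rg Fr x ≤ S := by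
  have hZ : ∀ a, ZG Fr a ≤ S := by
    intro a
    have key : ∀ a : Fin 3 × Bool, ∃ ω ∈ ([[], [2], [1], [1, 2], [0, 1], [0, 1, 2]] : List (List (Fin 3))),
        ee (H925.Nat.rf (TypeC.A 3) 2 ω) = wt a + wt a := by decide +kernel
    obtain ⟨ω, -, e⟩ := key a
    have h1 := h (cs.wordProd ω)
    rwa [H925.Nat.rep_wordProd_sr, rg_eq Fr (Or.inr rfl) e, PG_self] at h1
  obtain ⟨a, b, hab, e⟩ := exists_of_isRoot cs hx
  rw [rg_eq Fr hab e]
  rcases hab with hab | rfl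
  · rw [PG_ne Fr hab]
    rintro _ ⟨t, rfl⟩
    obtain ⟨p, q, e1⟩ := hs (H.σ (-((Fr.η b)⁻¹ * t)))
    have h1 := Fr.Z_mul_Z hab p q
    rw [e1, H.σσ, mul_neg, _root_.neg_neg, mul_inv_cancel_left₀ (Fr.η_ne b)] at h1
    rw [eq_mul_inv_of_mul_eq h1.symm]
    exact mul_mem (mul_mem (hZ a ⟨p, rfl⟩) (hZ b ⟨q, rfl⟩)) (inv_mem (mul_mem (hZ b ⟨q, rfl⟩) (hZ a ⟨p, rfl⟩)))
  · rw [PG_self]
    exact hZ a

variable {K : Type} [Field K] [Finite K] {a b : K}
  (hab : ∀ z₁ z₂ : K, z₁ ^ 2 + a * z₁ * z₂ + b * z₂ ^ 2 = 0 → z₁ = 0 ∧ z₂ = 0)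

theorem adm_surj {m : ℕ} (t : K) :
    ∃ p q : (toFrame (wminus m K a b hab)).Adm, (HO (minusForm m K a b)).h p.w q.w = t := by
  have key : ∀ x y : EE a b, (HO (minusForm m K a b)).h (adm hab x).w (adm (m := m) hab y).w =
      2 * x.re * y.re + a * (x.re * y.im + x.im * y.re) + 2 * b * x.im * y.im := fun x y => by
    rw [HO_h, polar_minusForm]
    simp [adm, ia]
  by_cases h2 : (2 : K) = 0
  · have ha : a ≠ 0 := by
      rintro rfl
      obtain ⟨c, rfl⟩ := FiniteField.isSquare_of_char_two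
        (CharP.ringChar_of_prime_eq_zero Nat.prime_two (by exact_mod_cast h2) : ringChar K = 2) b
      exact one_ne_zero (hab c 1 (by linear_combination (c * c) * h2)).2
    exact ⟨adm hab ⟨a⁻¹ * t, 0⟩, adm hab ⟨0, 1⟩, by rw [key]; field_simp; ring⟩
  · exact ⟨adm hab ⟨2⁻¹ * t, 0⟩, adm hab ⟨1, 0⟩, by rw [key]; field_simp; ring⟩

/-- the root groups of the orbit of the last node generate -/
theorem gen_cov {p : ℕ} [Fact p.Prime] [CharP K p] (hG : Good (minusForm 3 K a b))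
    (hA : AmbT (toFrame (wminus 3 K a b hab)) p (MM hab hG).I) {F : Type} [Field F] {n : ℕ} {P : Subgroup (GL (Fin n) F)}
    {Y : Type} [Group Y] [Finite Y] {f : Y →* (MM hab hG).I} {φ : Y →* GL (Fin n) F} {n₁ : Fin 3 → Y}
    (C : Cov (CoxeterMatrix.B 3).toCoxeterSystem (isCartan 3) p (TB (MM hab hG)) (NB hA (pM hab)) (XB (MM hab hG)) P f φ n₁)
    (S : Subgroup Y) (hT : (TB (MM hab hG)).comap f ≤ S)
    (h : ∀ w, RGDLift.lft p f (XB (MM hab hG) (rep (CoxeterMatrix.B 3).toCoxeterSystem (isCartan 3) w (sr 2))) ≤ S) (x : Fin 3 → ℤ)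
    (hx : IsRoot (CoxeterMatrix.B 3).toCoxeterSystem (isCartan 3) x) : RGDLift.lft p f (XB (MM hab hG) x) ≤ S := by
  have hWf : Finite (CoxeterMatrix.B 3).Group := TypeC.finite_W (CoxeterMatrix.B 3).toCoxeterSystem
  have := finite_GL (K := K) (ν := (Fin 3 ⊕ Fin 3) ⊕ Fin 2)
  have R := rgdB hA (pc_ne hab) (CoxeterMatrix.B 3).toCoxeterSystem
  have h1 := gen_Z (toFrame (wminus 3 K a b hab)) (adm_surj hab) (CoxeterMatrix.B 3).toCoxeterSystem
    (S := (S.map f).map (MM hab hG).I.subtype) (fun w g hg => by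
      have h2 : (⟨g, hA.rg_le _ hg⟩ : (MM hab hG).I) ∈ XB (MM hab hG) _ := hg
      rw [← map_lft C.ker C.cop C.surj (R.pgrp' ((isRoot_sr _ _ 2).act w))] at h2
      exact ⟨_, Subgroup.map_mono (h w) h2, rfl⟩) hx
  intro y hy
  obtain ⟨_, ⟨z, hz, rfl⟩, e⟩ := h1 (map_lft_le p f _ ⟨y, hy, rfl⟩)
  have h2 : z⁻¹ * y ∈ S := hT (by
    simp only [Subgroup.mem_comap, map_mul, map_inv, show f z = f y from Subtype.ext e, inv_mul_cancel]
    exact one_mem _)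
  rw [← mul_inv_cancel_left z y]
  exact mul_mem hz h2

end gen

end Cfsg.Agent.N2C.RD.Mn
end

-- part: N2/Cl/RD/Mn4
section
/-!
# N2 (S3519), defining characteristic: the rows `PΩ⁻_{2m}` (helper92)

* **`rowM4`** : `Row (fM 4)`;  **`rowM`** : `Row (fM m)`, `m ≥ 5`.
-/

set_option autoImplicit false
set_option linter.unusedSectionVars false
set_option linter.style.longLine false

namespace Cfsg.Agent.N2C.RD

namespace Mn

section md

open Cfsg Cfsg.Geo Cfsg.Agent.N2C.RX Cfsg.Agent.H915.LD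

variable {t : Kd} {n q p T b : ℕ} {K : Type} [Field K] [Fintype K] {P : Subgroup (GL (Fin n) K)} {G : Prop} {c f : P → ℕ}
  (M : Md0 t q p T b P G c f)
include M

theorem sc_y {l a j : ℕ} (N : Nd (.DD (l + 1)) p a (Soc P)) (hs : (p ^ a) ^ 2 ≤ Fintype.card K ^ j) (y : ℕ) (hy : y ≤ n)
    (h : 4 * (j * (2 * l ^ 2 + 3 * l + 2)) + 36 + 16 * y ≤ y ^ 2) : G := by
  have h1 : 16 ≤ y := by
    by_contra h2
    have h3 : y ^ 2 ≤ 16 * y := by rw [sq]; exact Nat.mul_le_mul_right _ (by omega)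
    omega
  obtain ⟨x, rfl⟩ := Nat.exists_eq_add_of_le' h1
  refine sc_ge M N hs hy ?_
  have e1 : 2 * (l + 1) ^ 2 - (l + 1) + 1 = 2 * l ^ 2 + 3 * l + 2 := by
    have : 2 * (l + 1) ^ 2 = 2 * l ^ 2 + 3 * l + 1 + (l + 1) := by ring
    omega
  have e2 : (x + 16) ^ 2 = (x + 16) * x + 16 * (x + 16) := by ring
  rw [e1]
  omega

/-- the natural degree -/
theorem nat {m a : ℕ} (N : Nd (.DD m) p a (Soc P)) (hn : n = 2 * m) (hK : Fintype.card K = p ^ a) (h1 : FixQ P) : False := by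
  subst hn
  have h := M.frm
  have hq := M.card
  have hd := M.dim
  have ho := N.ord_M
  rw [← hK, hq] at ho
  cases t
  · exact h (H879.Nine.sd_of_fixQ h1)
  · exact h.2 (H879.Nine.sd_of_fixQ h1)
  · exact h.2.2 h1
  · have := hd.2.1
    omega
  · exact M.ct_notP ho
  · exact M.not_nat ho

end md

theorem six_le {l : ℕ} (hl : 5 ≤ l) : 6 * l + 2 ≤ 2 ^ l := by
  induction l, hl using Nat.le_induction with
  | base => norm_num
  | succ l hl ih => rw [pow_succ]; omega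

section main

open CoxeterSystem Cfsg.Agent.ChevalleyStructure.CoxeterGeom Cfsg.Agent.Tits.Roots Cfsg.Agent.Tits.Core
  Cfsg.Agent.Nodes.Reps Cfsg.Agent.Nodes.BNOf Cfsg.Agent.Nodes.Bruhat Cfsg.Agent.Nodes.RGDLib
open Cfsg.Agent.Nodes Cfsg.Agent.Nodes.WittRoot Cfsg.Agent.Nodes.WittRGD Cfsg.Agent.Nodes.WittAll Cfsg.Agent.Nodes.WittInst
open Cfsg.Agent.Nodes.TypeC (isCartan)
open Cfsg.Agent.TitsThree.Siegel Cfsg.Agent.TitsThree.SiegelGen Cfsg.Agent.TitsThree.WittFrame Cfsg.Agent.TitsThree.FrameCN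
  Cfsg.Agent.TitsThree.WBridge Cfsg.Agent.TitsThree.KSideO Cfsg.Agent.TitsThree Cfsg.Agent.TitsThree.StdData
open Cfsg.Agent.LieClassical Cfsg.Agent.LieClassical.OrthCore Cfsg.Agent.LieClassical.OrthTrans
open Cfsg.Agent.LieClassical.OrthSimple Cfsg.Agent.LieClassical.OrthFinite Cfsg.Agent.LieClassical.OrthForms
open Cfsg.Agent.H915.LD Cfsg.Agent.H911 Cfsg.Agent.H905.Md Cfsg.Agent.H925.Nat
open Cfsg.Agent.H156.Ppd (Cov lrep exists_cov)
open Cfsg.Agent.Omega.CR Cfsg.Agent.Omega.FOne.Lift.Sd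
open Cfsg Cfsg.Geo QuadraticMap Cfsg.Agent.N2C.RX
open scoped MatrixGroups Matrix
open Cfsg.Agent.H948.Ppd hiding Nd
open Cfsg.Agent.H948.Ppd.Minus

variable {t : Kd} {n q p T₀ b₀ : ℕ} {F : Type} [Field F] [Fintype F] {P : Subgroup (GL (Fin n) F)} {G : Prop} {c g : P → ℕ}
  {K : Type} [Field K] [Fintype K] [hp : Fact p.Prime] [CharP F p] [CharP K p] {a b : K}
  {hab : ∀ z₁ z₂ : K, z₁ ^ 2 + a * z₁ * z₂ + b * z₂ ^ 2 = 0 → z₁ = 0 ∧ z₂ = 0} {l : ℕ} {hG : Good (minusForm l K a b)}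
  {hA : AmbT (toFrame (wminus l K a b hab)) p (MM hab hG).I} {Y : Type} [Group Y] [Finite Y] {f : Y →* (MM hab hG).I}
  {φ : Y →* GL (Fin n) F} {n₁ : Fin l → Y} {e : ℕ}

/-- the last node is in the support -/
theorem caseB (M : Md t q p T₀ b₀ P G c g) (N : Nd (.DD (l + 1)) p e (Soc P)) (hK : Fintype.card K = p ^ e) (hl : 3 ≤ l)
    (C : Cov (CoxeterMatrix.B l).toCoxeterSystem (isCartan l) p (TB (MM hab hG)) (NB hA (pM hab)) (XB (MM hab hG)) P f φ n₁)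
    (hT : ∀ s ∈ (TB (MM hab hG)).comap f, ∀ t ∈ (TB (MM hab hG)).comap f, s * t = t * s)
    (hpow : ∀ t ∈ (TB (MM hab hG)).comap f, t ^ Nat.card K ^ 2 = t) (hS : l = 3 → n = 8 → SD P)
    {i : Fin l} (hi : (i : ℕ) + 1 = l) (hiJ : i ∉ JB (MM hab hG) p f φ) : G := by
  have hC := M.core
  have hWf : Finite (CoxeterMatrix.B l).Group := TypeC.finite_W (CoxeterMatrix.B l).toCoxeterSystem
  have he := N.real.hf
  have hK' : Nat.card K = p ^ e := Nat.card_eq_fintype_card.trans hK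
  obtain ⟨j, hj, hjK⟩ := C.exists_j hC hT (a := e * 2) (by omega) (by rw [pow_mul, ← hK']; exact hpow)
  rw [pow_mul] at hjK
  have hs : (p ^ e) ^ 2 ≤ Fintype.card F ^ j := by rw [← hjK, Nat.card_eq_fintype_card]
  obtain ⟨E, _, _, _, σ', h1, -, N'⟩ := node_last hab hG hA hi
  obtain ⟨σ, -, N₁⟩ := lift_nd C (pc_ne hab) N'
  have hd := edge_pow_B hC C hT hiJ N₁ (s := j) (by rw [h1, hjK, hK'])
  obtain ⟨ε, hε, h3⟩ := bound_last hC C hT hi hiJ
  rw [Fintype.card_fin] at h3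
  obtain ⟨x, rfl⟩ : ∃ x, j = x + 1 := ⟨j - 1, by omega⟩
  have h4 := eps_ge hd hε
  have h5 : 2 ^ 3 ≤ 2 ^ l := Nat.pow_le_pow_right two_pos hl
  rcases Nat.eq_zero_or_pos x with rfl | hx
  swap
  · have h6 : 2 ^ 2 ≤ 2 ^ (l - 1) := Nat.pow_le_pow_right two_pos (by omega)
    have h7 : l * 2 ^ 2 * (2 * x) ≤ l * 2 ^ (l - 1) * ε := by gcongr
    refine sc_y M.toMd0 N hs (8 + l * 2 ^ 2 * (2 * x)) (by omega) ?_
    obtain ⟨u, rfl⟩ := Nat.exists_eq_add_of_le hl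
    obtain ⟨v, rfl⟩ := Nat.exists_eq_add_of_le hx
    ring_nf
    omega
  rcases Nat.lt_or_ge l 5 with h6 | h6
  swap
  · refine sc_y M.toMd0 N hs (6 * l + 2) ((six_le h6).trans (by omega)) ?_
    obtain ⟨u, rfl⟩ := Nat.exists_eq_add_of_le h6
    ring_nf
    omega
  obtain rfl | rfl : l = 3 ∨ l = 4 := by omega
  · obtain rfl : i = 2 := Fin.ext (show (i : ℕ) = 2 by omega)
    rcases Nat.lt_or_ge n 23 with h7 | h7
    swap
    · exact sc_y M.toMd0 N hs 23 h7 (by norm_num)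
    rcases Nat.lt_or_ge 2 (dB (MM hab hG) p f φ 2) with h8 | h8
    · obtain ⟨h9, u, hu⟩ := w32 C.rgd hC C.hGG hT C.range hiJ h8
      refine ct_h M.toMd0 N hs u hu ?_
      clear hu
      interval_cases n <;> norm_num
    have h9 := spin C.rgd hC C.hGG hT C.range hiJ (fun k hk => by_contra fun hk2 => by
      have := two_nodes C.rgd hC C.hGG hT C.range hk hk2 hiJ
      omega) h8 (gen_cov hab hG hA C)
    obtain rfl : n = 8 := by omega
    exact eight M N (by rw [← hjK, zero_add, pow_one, Nat.card_eq_fintype_card]) (hS rfl rfl)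
  · obtain rfl : i = 3 := Fin.ext (show (i : ℕ) = 3 by omega)
    rcases Nat.lt_or_ge n 25 with h7 | h7
    swap
    · exact sc_y M.toMd0 N hs 25 h7 (by norm_num)
    obtain ⟨h9, u, hu⟩ := w43 C.rgd hC C.hGG hT C.range hiJ
    refine ct_h M.toMd0 N hs u hu ?_
    clear hu
    interval_cases n <;> norm_num

/-- type `B₃`, the middle node -/
theorem mid {hG : Good (minusForm 3 K a b)} {hA : AmbT (toFrame (wminus 3 K a b hab)) p (MM hab hG).I} {f : Y →* (MM hab hG).I}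
    {n₁ : Fin 3 → Y} (M : Md0 t q p T₀ b₀ P G c g) (N : Nd (.DD (3 + 1)) p e (Soc P)) (hK : Nat.card K = p ^ e) (hF : Nat.card F = p ^ e)
    (C : Cov (CoxeterMatrix.B 3).toCoxeterSystem (isCartan 3) p (TB (MM hab hG)) (NB hA (pM hab)) (XB (MM hab hG)) P f φ n₁)
    (hT : ∀ s ∈ (TB (MM hab hG)).comap f, ∀ t ∈ (TB (MM hab hG)).comap f, s * t = t * s)
    (hpow : ∀ t ∈ (TB (MM hab hG)).comap f, t ^ Nat.card K ^ 2 = t)
    (h1 : (1 : Fin 3) ∉ JB (MM hab hG) p f φ) (h2 : (2 : Fin 3) ∈ JB (MM hab hG) p f φ) : G := by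
  have hWf : Finite (CoxeterMatrix.B 3).Group := TypeC.finite_W (CoxeterMatrix.B 3).toCoxeterSystem
  have he := N.real.hf
  have hs : (p ^ e) ^ 2 ≤ Fintype.card F ^ 2 := by rw [← hF, Nat.card_eq_fintype_card]
  rcases Nat.lt_or_ge n 27 with h7 | h7
  swap
  · exact sc_y M N hs 27 h7 (by norm_num)
  obtain ⟨r, hr, ho, -, hrp⟩ := H370.Rg.exists_rk (f := e) (k := 4) hp.out (by omega) (by omega)
  have := Fact.mk hr
  have hd := H370.Rg.dvd_q_pow_sub hr ho (by omega)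
  have hrp' : r ≠ p := fun e => hrp (e ▸ dvd_rfl)
  obtain ⟨E, _, _, _, σ', h3, -, N'⟩ := node_last hab hG hA (i := 2) rfl
  obtain ⟨σ, -, N₁⟩ := lift_nd C (pc_ne hab) N'
  have h4 : Nat.card E = Nat.card (RGDLift.lft p f (XB (MM hab hG) (sr 2))) :=
    Nat.card_congr (Equiv.ofBijective (fun x => ⟨σ (SLTwo.U x), (N₁.up _).2 ⟨x, rfl⟩⟩)
      ⟨fun x y h => N₁.U_inj C.rgd (congrArg Subtype.val h), fun y => by
        obtain ⟨x, hx⟩ := (N₁.up _).1 y.2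
        exact ⟨x, Subtype.ext hx⟩⟩)
  have h5 : ¬ r ∣ (p ^ e) ^ 2 - 1 := fun h => absurd ((hd 2).1 h) (by norm_num)
  obtain ⟨u, hu, h8, h9⟩ := pl C.rgd M.core C.hGG hT C.range h1 h2 hr hrp' (fun h => h5 (by
    obtain ⟨⟨x, hx⟩, h6⟩ := exists_prime_orderOf_dvd_card' r h
    rw [← Subgroup.orderOf_coe] at h6
    have h10 := hpow x hx
    have h11 : 1 ≤ (p ^ e) ^ 2 := Nat.one_le_pow _ _ (pow_pos hp.out.pos _)
    rw [hK, ← Nat.sub_add_cancel h11, pow_succ, mul_eq_right] at h10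
    exact h6 ▸ orderOf_dvd_of_pow_eq_one h10)) (by
    have h6 := (hd 4).2 dvd_rfl
    rw [show (p ^ e) ^ 4 - 1 = ((p ^ e) ^ 2 + 1) * ((p ^ e) ^ 2 - 1) by
      rw [show (p ^ e) ^ 4 = ((p ^ e) ^ 2) ^ 2 by ring]; exact Nat.sq_sub_sq _ 1] at h6
    rw [← h4, h3, hK, add_comm]
    exact (hr.dvd_mul.1 h6).resolve_right h5) fun d h0 h6 => Nat.le_of_dvd h0 ((hd d).1 (hF ▸ h6))
  have h10 := dm_ppd M hr hrp' hu (e := 4) (by
    rw [← Nat.card_eq_fintype_card, hF, ord_pow ho (by omega), Nat.gcd_mul_right_left, Nat.mul_div_cancel_left _ (by omega)]) (by norm_num)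
  refine ct_h M N hs u le_rfl ?_
  generalize ev (u : GL (Fin n) F) 1 = x at h8 h9 h10
  have h11 : x ≤ 10 := by omega
  have h12 : 20 ≤ n := by omega
  interval_cases n <;> interval_cases x <;> omega

/-- the last node is not in the support -/
theorem caseA (M : Md0 t q p T₀ b₀ P G c g) (N : Nd (.DD (l + 1)) p e (Soc P)) (hK : Fintype.card K = p ^ e) (hl : 3 ≤ l)
    (C : Cov (CoxeterMatrix.B l).toCoxeterSystem (isCartan l) p (TB (MM hab hG)) (NB hA (pM hab)) (XB (MM hab hG)) P f φ n₁)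
    (hT : ∀ s ∈ (TB (MM hab hG)).comap f, ∀ t ∈ (TB (MM hab hG)).comap f, s * t = t * s)
    (hpow : ∀ t ∈ (TB (MM hab hG)).comap f, t ^ Nat.card K ^ 2 = t)
    (hJ : ∀ i : Fin l, (i : ℕ) + 1 = l → i ∈ JB (MM hab hG) p f φ) : G := by
  have hC := M.core
  have hWf : Finite (CoxeterMatrix.B l).Group := TypeC.finite_W (CoxeterMatrix.B l).toCoxeterSystem
  have he := N.real.hf
  have hK' : Nat.card K = p ^ e := Nat.card_eq_fintype_card.trans hK
  have hlong : ∀ i : Fin l, (i : ℕ) + 1 < l → ∃ σ : SL(2, K) →* Y,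
      H948.Ppd.Nd ((TB (MM hab hG)).comap f) (fun x => RGDLift.lft p f (XB (MM hab hG) x)) i σ := by
    intro i hi
    obtain ⟨σ', -, N'⟩ := node_long hab hG hA hi
    obtain ⟨σ, -, N₁⟩ := lift_nd C (pc_ne hab) N'
    exact ⟨σ, N₁⟩
  obtain ⟨j, hj, hjK⟩ := pow_of_J C.rgd hC C.hGG hT C.range C.gen (a := e) (by omega) fun i => by
    by_cases hi : (i : ℕ) + 1 < l
    · obtain ⟨σ, N₁⟩ := hlong i hi
      exact ⟨K, _, σ, N₁, Or.inr fun x => by rw [← hK, FiniteField.pow_card]⟩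
    · obtain ⟨E, _, _, _, σ', -, -, N'⟩ := node_last hab hG hA (i := i) (by omega)
      obtain ⟨σ, -, N₁⟩ := lift_nd C (pc_ne hab) N'
      exact ⟨E, _, σ, N₁, Or.inl (hJ i (by omega))⟩
  have hs : (p ^ e) ^ 2 ≤ Fintype.card F ^ (j * 2) := by rw [pow_mul, ← hjK, Nat.card_eq_fintype_card]
  have hlt : ∀ i, i ∉ JB (MM hab hG) p f φ → (i : ℕ) + 1 < l := fun i hi => by
    have h1 : (i : ℕ) + 1 ≠ l := fun e => hi (hJ i e)
    omega
  have hedge : ∀ i, i ∉ JB (MM hab hG) p f φ → ∃ m, 2 ≤ m ∧ dB (MM hab hG) p f φ i = m ^ j := fun i hi => by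
    obtain ⟨σ, N₁⟩ := hlong i (hlt i hi)
    exact edge_pow_B hC C hT hi N₁ (by rw [hjK, hK'])
  obtain ⟨x, rfl⟩ : ∃ x, j = x + 1 := ⟨j - 1, by omega⟩
  by_cases hall : ∀ i, i ∉ JB (MM hab hG) p f φ → i = ⟨0, by omega⟩
  · have ho : (⟨0, by omega⟩ : Fin l) ∉ JB (MM hab hG) p f φ := by
      obtain ⟨i, hi⟩ := exists_node hC C hT
      rwa [← hall i hi]
    obtain ⟨ε, hε, h3⟩ := bound_first hC C hT (by omega) rfl ho
    rw [Fintype.card_fin] at h3
    have h4 := eps_ge (hedge _ ho) hε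
    rcases Nat.eq_zero_or_pos x with rfl | hx
    · rcases Nat.lt_or_ge 2 (dB (MM hab hG) p f φ ⟨0, by omega⟩) with h8 | h8
      · rcases hl.eq_or_lt with rfl | h5
        · rcases Nat.lt_or_ge n 27 with h7 | h7
          swap
          · exact sc_y M N hs 27 h7 (by norm_num)
          obtain ⟨h9, u, hu⟩ := w30 C.rgd hC C.hGG hT C.range ho h8
          refine ct_h M N hs u hu ?_
          clear hu
          interval_cases n <;> norm_num
        · have h6 : 2 * l * (l - 1) * 1 ≤ 2 * l * (l - 1) * ε := Nat.mul_le_mul_left _ (by omega)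
          refine sc_y M N hs (2 * l + 2 * l * (l - 1) * 1) (by omega) ?_
          obtain ⟨u, rfl⟩ := Nat.exists_eq_add_of_le' (show 4 ≤ l from h5)
          rw [show u + 4 - 1 = u + 3 from rfl]
          ring_nf
          omega
      have hspan : Submodule.span K (Set.range (mt (MM hab hG).I)) = ⊤ :=
        span_E hG (by rw [Fintype.card_sum, Fintype.card_sum, Fintype.card_fin, Fintype.card_fin]; omega)
      obtain ⟨τ, θ, hθ⟩ := identify_B hC hA (pc_ne hab) (by omega) hspan C hT (o := ⟨0, by omega⟩) rfl hall h8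
      have hcj : CjOf (omegaGL (quadFormMinus l F (τ a) (τ b))) P := by
        refine cjOf_of (mem_omega_iff'' hG) (map_omega_glm τ fun v => ?_) hθ
        rw [coe_minusForm]
        exact quadFormMinus_map τ a b v
      have hab' : ∀ z₁ z₂ : F, z₁ ^ 2 + τ a * z₁ * z₂ + τ b * z₂ ^ 2 = 0 → z₁ = 0 ∧ z₂ = 0 := by
        intro z₁ z₂ hz
        obtain ⟨z₁, rfl⟩ := τ.surjective z₁
        obtain ⟨z₂, rfl⟩ := τ.surjective z₂
        rw [← map_pow, ← map_pow, ← map_mul, ← map_mul, ← map_mul, ← map_add, ← map_add] at hz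
        obtain ⟨h1, h2⟩ := hab _ _ ((map_eq_zero τ).1 hz)
        rw [h1, h2, map_zero]
        exact ⟨rfl, rfl⟩
      have hQ : FixQ P := hcj.fixQ (by
        rw [← coe_minusForm]
        exact H925.isND_of_nondeg (nondeg_minusForm l F (τ a) (τ b) hab'))
      have h5 := hcj.card_eq
      rw [Fintype.card_fin, Fintype.card_sum, Fintype.card_sum, Fintype.card_fin, Fintype.card_fin] at h5
      exact (nat M N (by omega) (by rw [← hjK, zero_add, pow_one, Nat.card_eq_fintype_card]) hQ).elim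
    rcases hl.eq_or_lt with rfl | h5
    · rcases (show 1 ≤ x from hx).eq_or_lt with rfl | h6
      · refine sc_y M N hs 42 ?_ (by norm_num)
        rcases Nat.lt_or_ge 4 (dB (MM hab hG) p f φ ⟨0, by omega⟩) with h8 | h8
        · omega
        · have h7 := d_ge (by omega) (hedge _ ho)
          have h9 := rank_minus hC hab hG (by norm_num) hA C hT (o := ⟨0, by omega⟩) rfl
            (fun i => ⟨hall i, fun h0 => by rw [h0]; exact ho⟩) (by rw [hK', ← hjK]) (by omega)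
          rw [Fintype.card_fin] at h9
          omega
      · refine sc_y M N hs (6 + 24 * x) (by omega) ?_
        obtain ⟨v, rfl⟩ := Nat.exists_eq_add_of_le' (show 2 ≤ x from h6)
        ring_nf
        omega
    · have h6 : 2 * l * 3 * (2 * x) ≤ 2 * l * (l - 1) * ε := by
        gcongr
        omega
      refine sc_y M N hs (8 + 2 * l * 3 * (2 * x)) (by omega) ?_
      obtain ⟨u, rfl⟩ := Nat.exists_eq_add_of_le' (show 4 ≤ l from h5)
      obtain ⟨v, rfl⟩ := Nat.exists_eq_add_of_le' (show 1 ≤ x from hx)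
      ring_nf
      omega
  push Not at hall
  obtain ⟨i, hi, hi0⟩ := hall
  have hi1 : 1 ≤ (i : ℕ) := Nat.one_le_iff_ne_zero.2 fun h => hi0 (Fin.ext h)
  have hi2 := hlt i hi
  have hd := d_ge (by omega) (hedge i hi)
  rcases hl.eq_or_lt with rfl | h5
  · obtain rfl : i = 1 := Fin.ext (show (i : ℕ) = 1 by omega)
    rcases Nat.eq_zero_or_pos x with rfl | hx
    · exact mid M N hK' (by rw [← hjK, zero_add, pow_one]) C hT hpow hi (hJ 2 rfl)
    obtain ⟨ε, hε, h3⟩ := bound_mid hC C hT hi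
    rw [Fintype.card_fin] at h3
    refine sc_y M N hs (12 + 48 * x) (by omega) ?_
    obtain ⟨v, rfl⟩ := Nat.exists_eq_add_of_le' (show 1 ≤ x from hx)
    ring_nf
    omega
  have h3 := bound_all hC C hT hi
  rw [Fintype.card_fin] at h3
  by_cases h6 : l = 4 ∧ (i : ℕ) = 1
  · obtain ⟨rfl, h6⟩ := h6
    obtain rfl : i = 1 := Fin.ext h6
    rcases Nat.eq_zero_or_pos x with rfl | hx
    · rcases Nat.lt_or_ge n 30 with h7 | h7
      swap
      · exact sc_y M N hs 30 h7 (by norm_num)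
      obtain ⟨h9, u, hu⟩ := w41 C.rgd hC C.hGG hT C.range hi
      refine ct_h M N hs u hu ?_
      clear hu
      interval_cases n <;> norm_num
    · have h7 : 24 * dB (MM hab hG) p f φ 1 ≤ 2 * n := h3
      refine sc_y M N hs (24 * (x + 1)) (by omega) ?_
      obtain ⟨v, rfl⟩ := Nat.exists_eq_add_of_le' (show 1 ≤ x from hx)
      ring_nf
      omega
  have h7 : 8 * l ≤ l.choose (i + 1) * 2 ^ ((i : ℕ) + 1) := by
    rcases hi1.eq_or_lt with h8 | h8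
    · rw [← h8, Nat.choose_two_right]
      have h9 : 2 * (l * (l - 1) / 2) = l * (l - 1) := Nat.mul_div_cancel' (Nat.even_mul_pred_self l).two_dvd
      have h10 : l * 4 ≤ l * (l - 1) := Nat.mul_le_mul_left _ (by omega)
      omega
    · rw [mul_comm]
      exact Nat.mul_le_mul (TypeB.le_choose (by omega) hi2) (Nat.pow_le_pow_right two_pos (show 3 ≤ (i : ℕ) + 1 by omega))
  have h8 := (Nat.mul_le_mul h7 hd).trans h3
  refine sc_y M N hs (8 * l * (x + 1)) (by rw [mul_left_comm] at h8; omega) ?_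
  obtain ⟨u, rfl⟩ := Nat.exists_eq_add_of_le' (show 4 ≤ l from h5)
  ring_nf
  omega

omit hp [CharP F p] in
theorem row (M : Md t q p T₀ b₀ P G c g) (hl : 3 ≤ l) (hab : ∀ z₁ z₂ : K, z₁ ^ 2 + a * z₁ * z₂ + b * z₂ ^ 2 = 0 → z₁ = 0 ∧ z₂ = 0)
    (e : Soc P ≃* POmega K (quadFormMinus l K a b)) : G := by
  have hp : Fact p.Prime := ⟨M.prime⟩
  have hFp := M.char
  have hC := M.core
  obtain ⟨e₀, he, hK⟩ := exists_f K p
  have N : Nd (.DD (l + 1)) p e₀ (Soc P) := nd_M hC.simple hC.nonabelian M.prime he hK (by omega) hab e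
  have hG := good_minus (m := l) hab (by omega)
  have hA := ambT_minus hab p (by omega) hG
  have e' := e
  rw [← coe_minusForm] at e'
  have hperf : commutator ↥(MM hab hG).I = ⊤ := H911.Five.commutator_top hG.E_perfect
  obtain ⟨Y, _, _, f, φ, n₁, C⟩ := exists_covB hC hA (pc_ne hab) (by omega) hperf e'
  obtain ⟨hT, hpow⟩ := lift_comm_pow C (pc_ne hab) (torus_comm_minus hab hG (by omega) hA) (N₀ := Nat.card K ^ 2)
    fun i => nodes hab hG hA i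
  by_cases hJ : ∀ i : Fin l, (i : ℕ) + 1 = l → i ∈ JB (MM hab hG) p f φ
  · exact caseA M.toMd0 N hK hl C hT hpow hJ
  · push Not at hJ
    obtain ⟨i, hi, hiJ⟩ := hJ
    exact caseB M N hK hl C hT hpow (fun h1 h2 => H218.SdFin.sd_PO_minus p hC hab hl (by rw [Fintype.card_fin]; omega)
      (by rw [Fintype.card_fin]; omega) e) hi hiJ

end main

end Mn

/-- **[N2D-m]** -/
theorem rowM4 : Row (fM 4) := fun _ _ _ _ _ _ _ _ _ _ _ _ _ M ⟨_, _, _, _, _, _, h, ⟨e⟩⟩ => Mn.row M le_rfl h e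

/-- **[N2D-m]** -/
theorem rowM : ∀ m, 5 ≤ m → Row (fM m) :=
  fun _ hm _ _ _ _ _ _ _ _ _ _ _ _ _ M ⟨_, _, _, _, _, _, h, ⟨e⟩⟩ => Mn.row M (by omega) h e

end Cfsg.Agent.N2C.RD
end

-- part: N2/Cl/RD/SzRS
section
/-!
# N2 (S3519), defining characteristic: the row of the Suzuki groups (helper37)

* `SR.fin8`, `SR.c_ss`, `SR.sq_bd` : sharp forms of the criterion;  `SR.sz_dim` : `n = 4 ^ k`, `|K| ^ j = 2 ^ (2 l + 1)`, `j ≤ k`;
* **`row_szD : Row fSz`**.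
-/

set_option autoImplicit false
set_option linter.unusedSectionVars false

namespace Cfsg.Agent.N2C.RD

open Cfsg Cfsg.Geo Matrix Cfsg.Agent.H915.LD Cfsg.Agent.H905.Md Cfsg.Agent.N2C.RX Cfsg.Agent.H902

namespace SR

theorem sq_bd {q c x y k a b z : ℕ} (hq : 0 < q) (hb : 0 < b) (hab : b * (q + 1) ≤ a * q) (hx : x ≤ y)
    (h : c * q ^ k ≤ 4 * q ^ x * (q + 1) ^ k) (hz : 16 * (a ^ k) ^ 2 ≤ (b ^ k) ^ 2 * q ^ z) : c ^ 2 ≤ q ^ (2 * y + z) := by
  have h1 : q ^ x ≤ q ^ y := Nat.pow_le_pow_right hq hx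
  refine Nat.le_of_mul_le_mul_right ?_ (show 0 < (b ^ k * q ^ k) ^ 2 by positivity)
  calc c ^ 2 * (b ^ k * q ^ k) ^ 2 = (b ^ k * (c * q ^ k)) ^ 2 := by ring
    _ ≤ (b ^ k * (4 * q ^ y * (q + 1) ^ k)) ^ 2 := Nat.pow_le_pow_left (Nat.mul_le_mul_left _ (h.trans (by gcongr))) 2
    _ = (4 * q ^ y * (b * (q + 1)) ^ k) ^ 2 := by rw [mul_pow b (q + 1)]; ring
    _ ≤ (4 * q ^ y * (a * q) ^ k) ^ 2 := by gcongr
    _ = 16 * (a ^ k) ^ 2 * (q ^ y * q ^ k) ^ 2 := by rw [mul_pow a q]; ring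
    _ ≤ (b ^ k) ^ 2 * q ^ z * (q ^ y * q ^ k) ^ 2 := Nat.mul_le_mul_right _ hz
    _ = _ := by ring

theorem odd_of_pow {K : Type} [Field K] [Fintype K] {p j l : ℕ} (hp : p.Prime) [CharP K p]
    (h : Fintype.card K ^ j = p ^ (2 * l + 1)) : ∃ a, 1 ≤ a ∧ Fintype.card K = p ^ a ∧ a * j = 2 * l + 1 ∧ j % 2 = 1 := by
  obtain ⟨a, ha, h1⟩ := exists_f K p
  rw [h1, ← pow_mul] at h
  have h2 := Nat.pow_right_injective hp.two_le h
  exact ⟨a, ha, h1, h2, Nat.odd_iff.1 (Nat.odd_mul.1 (h2 ▸ odd_two_mul_add_one l)).2⟩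

variable {t : Kd} {n q p T b : ℕ} {K : Type} [Field K] [Fintype K] {P : Subgroup (GL (Fin n) K)} {G : Prop} {c f : P → ℕ}

theorem bil_of (M : Md0 t q p T b P G c f) (h : SD P) : bil t := by
  have k := M.frm
  cases t
  exacts [absurd h k, absurd h k.2, trivial, trivial, trivial, trivial]

theorem fin8 (M : Md0 t q p T b P G c f) (u : P) {x y : ℕ} (hc : c u ^ 2 ≤ q ^ x) (hb : 8 * b ≤ q ^ y)
    (h : 3 * x + 2 * y ≤ Gn.mm t n) : G := by
  have hq := M.q_ge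
  refine M.good u ((Nat.pow_le_pow_iff_left two_ne_zero).1 (Nat.le_of_mul_le_mul_left ?_ (show 0 < 64 by norm_num)))
  calc 64 * (f u ^ 3 * b) ^ 2 = (f u ^ 2) ^ 3 * (8 * b) ^ 2 := by ring
    _ ≤ (q ^ x) ^ 3 * (q ^ y) ^ 2 :=
      Nat.mul_le_mul (Nat.pow_le_pow_left ((Nat.pow_le_pow_left (M.fc u) 2).trans hc) 3) (Nat.pow_le_pow_left hb 2)
    _ = q ^ (3 * x + 2 * y) := by ring
    _ ≤ _ := (Nat.pow_le_pow_right (by omega) h).trans (Gn.low hq M.dim M.ord)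

theorem c_ss (M : Md t q p T b P G c f) (ht : t = .O ∨ t = .P ∨ t = .M) {u : P} {m : ℕ} (ho : Odd m) (hp : m.Coprime p)
    (hu : u ^ m = 1) : c u * q ^ (n / 2) ≤
      4 * q ^ ((dm (u : GL (Fin n) K) - ev (u : GL (Fin n) K) 1) / 2) * (q + 1) ^ (n / 2) := by
  have := M.char
  have h1 := M.ss u (Or.inr (hp.coprime_dvd_left (orderOf_dvd_of_pow_eq_one hu)))
  rw [e2_odd M.prime (congrArg Subtype.val hu) ho] at h1
  have h2 : c u * q ^ kk t n ≤ k4 t * q ^ es t (dm (u : GL (Fin n) K)) (ev (u : GL (Fin n) K) 1) * (q + 1) ^ kk t n := by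
    refine Nat.le_of_mul_le_mul_left ?_ M.ct_zz
    calc _ = c u * zz t q * q ^ kk t n := by ring
      _ ≤ _ := h1
      _ ≤ zz t q * k4 t * _ * _ := by gcongr; exact Nat.gcd_le_right _ M.ct_zz
      _ = _ := by ring
  rcases ht with rfl | rfl | rfl <;> exact h2

open Cfsg.Agent.H861.SzN Cfsg.Agent.H909.Ppd in
theorem sz_dim [CharP K 2] (hC : Core P) {E : Type} [Field E] [Fintype E] {l : ℕ} (hl : 1 ≤ l)
    (hE : Fintype.card E = 2 ^ (2 * l + 1)) (e : Soc P ≃* Lie.Sz E (2 ^ (l + 1))) :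
    ∃ j k, j % 2 = 1 ∧ Fintype.card K ^ j = 2 ^ (2 * l + 1) ∧ j ≤ k ∧ n = 4 ^ k := by
  classical
  have : Fact (Nat.Prime 2) := ⟨Nat.prime_two⟩
  obtain ⟨ι⟩ := H861.SzN.exists_emb K hE
  obtain ⟨φ, S, -, hS, hcard, htr⟩ := sz_model hC hl hE e ι
  obtain ⟨j, -, hj⟩ := card_pow_eq (F := K) 2 (a := 2 * l + 1) (by omega)
    (pow_eq_of_no_subfield hC.absIrred hC.no_subfield 2 _ fun g hg => by
      rw [← hE]
      exact (sz_both hC.absIrred hC.perfect hl hE e hg).1)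
  rw [Nat.card_eq_fintype_card] at hj
  obtain ⟨a, -, h1, h2, h3⟩ := odd_of_pow Nat.prime_two hj
  refine ⟨j, S.card, h3, hj, le_card hS h2 (image_eq ι hE fun x => ?_), by rwa [Fintype.card_fin] at hcard⟩
  obtain ⟨g, rfl⟩ := trace_surj hE x
  rw [← htr, ← map_pow, ← h1, FiniteField.pow_card]

theorem sixteen_mul_le {k : ℕ} (h : 3 ≤ k) : 16 * k ≤ 4 ^ k := by
  induction k, h using Nat.le_induction with
  | base => norm_num
  | succ k _ ih => rw [pow_succ]; omega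

end SR

open SR Xc

/-- **the row of the Suzuki groups** -/
theorem row_szD : Row fSz := by
  rintro t n q p T b K _ _ P G c f M ⟨rfl, E, _, _, l, hl, hE, ⟨e⟩⟩
  have := M.char
  have hC := M.core
  have D := nd_Sz hC.simple hC.nonabelian hl hE e
  obtain ⟨j, k, hj, h1, h2, h3⟩ := sz_dim hC hl hE e
  have h4 : b ≤ (2 * l + 1) * (2 ^ (2 * l + 1)) ^ 5 := (M.toMd0.b_le D).trans_eq (congrArg (· * _) (one_mul _))
  have h5 := two_mul_le le_rfl (2 * l + 1)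
  have hb : b ≤ Fintype.card K ^ (6 * j) := by
    rw [mul_comm 6, pow_mul, h1, pow_succ' _ 5]
    exact h4.trans (Nat.mul_le_mul_right _ (by omega))
  by_cases hk : 3 ≤ k
  · have h6 := sixteen_mul_le hk
    exact sc_mul M.toMd0 hb (by omega) (x := 16) (y := 6) (by omega) (by omega) (by norm_num)
  have h6 := five_le M.dim
  obtain rfl : k = 2 := by
    by_contra h7
    have h8 : 4 ^ k ≤ 4 ^ 1 := Nat.pow_le_pow_right (by norm_num) (by omega)
    omega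
  obtain rfl : j = 1 := by omega
  obtain rfl : n = 16 := h3
  have hbil := bil_of M.toMd0 fun g hg => (sz_both hC.absIrred hC.perfect hl hE e hg).2
  have hK := G2.card_bil M.toMd0 hbil
  rw [pow_one] at h1
  have hq : q = 2 ^ (2 * l + 1) := hK.symm.trans h1
  have h8 : 8 ≤ q := hq ▸ Nat.pow_le_pow_right two_pos (show 3 ≤ 2 * l + 1 by omega)
  by_cases ht : t = .O ∨ t = .P ∨ t = .M
  swap
  · obtain rfl : t = .S := by
      cases t
      exacts [hbil.elim, hbil.elim, rfl, absurd (by simp) ht, absurd (by simp) ht, absurd (by simp) ht]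
    obtain ⟨u, hu⟩ := M.small
    exact fin M.toMd0 u (c_le M.toMd0 u hu) (hK ▸ hb) (by decide)
  obtain ⟨r, hr, h9, -, h10, h11, h12, -⟩ := D.ppd (k := 4) (Or.inr rfl) (by omega) (by omega)
  have := Fact.mk hr
  have hcop : r.Coprime 2 := (Nat.coprime_primes hr Nat.prime_two).2 h11
  obtain ⟨x, hx⟩ := exists_prime_orderOf_dvd_card' r h12
  obtain ⟨u, hu, h13⟩ := exists_lift hr (not_dvd_scal hC hr (Or.inl fun d =>
    h11 ((Nat.prime_dvd_prime_iff_eq hr Nat.prime_two).1 (hr.dvd_of_dvd_pow (n := 4) d)))) hx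
  have h14 : u ^ r = 1 := h13 ▸ pow_orderOf_eq_one u
  by_cases h15 : 12 ≤ ev (u : GL (Fin 16) K) 1
  · have h16 := (Nat.pow_le_pow_left h15 2).trans (G2.sq_ev M.toMd0 hcop h14)
    obtain ⟨y, hy⟩ := M.scott u (by
      rw [hu]
      rintro rfl
      rw [orderOf_one] at hx
      omega)
    by_cases h17 : dm (y : GL (Fin 16) K) ≤ 57
    · exact crit M.toMd0 y h17 hb (by norm_num)
    · exact crit M.toMd0 (u * y) (d := 57) (by omega) hb (by norm_num)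
  obtain ⟨μ, hμ⟩ := exists_muD hC Nat.prime_two hcop h14
  let g : (ZMod r)ˣ := ZMod.unitOfCoprime (Fintype.card K) (h1 ▸ hcop.symm.pow_left _)
  have h16 := hμ.free (Γ := Subgroup.zpowers g) ((Subgroup.zpowers_le).2 hμ.frob) fun x _ i h0 _ hx =>
    Units.ext ((mul_eq_right₀ h0).1 hx)
  rw [Nat.card_zpowers, ← orderOf_units, show (g : ZMod r) = ((2 ^ (2 * l + 1) : ℕ) : ZMod r) by rw [← h1]; rfl,
    ord_pow h9 (by omega), Nat.gcd_eq_right (Dvd.intro _ rfl), Nat.mul_div_cancel_left _ (by omega)] at h16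
  have h17 : (dm (u : GL (Fin 16) K) - ev (u : GL (Fin 16) K) 1) / 2 ≤ 36 := by
    obtain ⟨h18, h19⟩ := h16
    obtain h | h | h : ev (u : GL (Fin 16) K) 1 = 0 ∨ ev (u : GL (Fin 16) K) 1 = 4 ∨ ev (u : GL (Fin 16) K) 1 = 8 := by omega
    all_goals rw [h] at h18 ⊢; omega
  have h18 : 8 ^ 3 ≤ q ^ 3 := Nat.pow_le_pow_left h8 3
  refine fin8 M.toMd0 u (sq_bd (a := 9) (b := 8) (z := 3) (by omega) (by norm_num) (by omega) h17
    (c_ss M ht (hr.odd_of_ne_two h11) hcop h14) (by norm_num; omega)) (y := 7) ?_ ?_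
  · rw [← hq] at h4 h5
    calc 8 * b ≤ 4 * (2 * (2 * l + 1)) * q ^ 5 := by rw [← mul_assoc, mul_assoc]; exact Nat.mul_le_mul_left 8 h4
      _ ≤ q * q * q ^ 5 := by gcongr; omega
      _ = _ := by ring
  · rcases ht with rfl | rfl | rfl <;> decide

end Cfsg.Agent.N2C.RD
end

-- part: N2/Cl/RD/SzRR
section
/-!
# N2 (S3519), defining characteristic: the row of the small Ree groups (helper37)

* `SR.ree_dim` : `|K| ^ j = s`, and `4 ^ j ≤ n` or `s - 2 ≤ n`;  `SR.ree_gen` : the two Coxeter tori generate;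
* **`row_reeD : Row fRee`**.
-/

set_option autoImplicit false
set_option linter.unusedSectionVars false

namespace Cfsg.Agent.N2C.RD

open Cfsg Cfsg.Geo Matrix Cfsg.Agent.H915.LD Cfsg.Agent.H905.Md Cfsg.Agent.N2C.RX Cfsg.Agent.H902
open Cfsg.Agent.H963.ReeSep (IsA ar)

namespace SR

variable {n : ℕ} {K : Type} [Field K] [Fintype K] {P : Subgroup (GL (Fin n) K)} {E : Type} [Field E] [Fintype E] {l : ℕ}

open Cfsg.Agent.ChevalleyStructure.Ree Cfsg.Agent.H141.ReeK Cfsg.Agent.H909.Ppd Cfsg.Agent.H909.ReeKer Cfsg.Agent.H911 in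
theorem ree_dim [CharP K 3] (hC : Core P) (hl : 1 ≤ l) (hE : Fintype.card E = 3 ^ (2 * l + 1))
    (e : Soc P ≃* Lie.twistedG2 E (3 ^ l)) :
    ∃ j, j % 2 = 1 ∧ Fintype.card K ^ j = 3 ^ (2 * l + 1) ∧ (4 ^ j ≤ n ∨ 3 ^ (2 * l + 1) - 2 ≤ n) := by
  have : Fact (Nat.Prime 3) := ⟨Nat.prime_three⟩
  obtain ⟨j, hj0, hj⟩ := card_pow_eq (F := K) 3 (a := 2 * l + 1) (by omega)
    (pow_eq_of_no_subfield hC.absIrred hC.no_subfield 3 _ fun g hg => by
      rw [← hE]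
      exact (ree_both hC.absIrred hC.perfect hl hE e hg).1)
  rw [Nat.card_eq_fintype_card] at hj
  obtain ⟨a, ha, h1, h2, h3⟩ := odd_of_pow Nat.prime_three hj
  refine ⟨j, h3, hj, ?_⟩
  obtain ⟨θ, c⟩ := Normal.exists_ctx hE
  obtain ⟨ι⟩ := H141.ReeK.exists_emb K hE
  obtain ⟨φ, v, ψ, r, hφ, -, hr1, hr2, hψv, hU, hT, -, -, -, hker⟩ := core_coef hC hl hE e c ι
  have hper := period hC hE c ι hφ (by
    rintro rfl
    rw [map_zero] at hψv
    exact zero_ne_one hψv) hU hT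
  have h4 : 3 ^ 1 ≤ 3 ^ a := Nat.pow_le_pow_right (by norm_num) ha
  have h5 := Gm_mul a j
  rw [h2] at h5
  rw [hE, Nat.card_eq_fintype_card, h1, show 3 ^ (2 * l + 1) - 1 = Gm a j * (3 ^ a - 1) by omega] at hper
  obtain ⟨t, rfl⟩ := Nat.dvd_of_mul_dvd_mul_right (by omega) hper
  have h6 := per_le (V := Fin n → AlgebraicClosure K) ι hl hE h2 (t := t) (Nat.pos_of_ne_zero (by rintro rfl; omega))
    (Nat.le_of_mul_le_mul_left (by omega) (Gm_pos (g := a) hj0))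
    (f := fun t u w => ψ.comp (lin (acRep φ) (Data.U E (3 ^ l) t u w)))
    (w := fun t u w => lin (acRep φ) (Data.N c * Data.U E (3 ^ l) t u w * Data.N c) v) (by rw [mul_comm t]; exact hker)
  rwa [Module.finrank_fin_fun, hE] at h6

theorem ree_gen (hl : 1 ≤ l) (hE : Fintype.card E = 3 ^ (2 * l + 1)) :
    ∃ x y : Lie.twistedG2 E (3 ^ l), IsA l (orderOf x) ∧ IsA l (orderOf y) ∧
      Subgroup.closure ({x, y} : Set (Lie.twistedG2 E (3 ^ l))) = ⊤ := by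
  have := H125.TwoRee.finite_ree hl hE
  have C := H963.ReeFive.ctx_of_equiv hl hE (MulEquiv.refl _)
  have key : ∀ A : Subgroup (Lie.twistedG2 E (3 ^ l)), IsCyclic A → ∃ x : Lie.twistedG2 E (3 ^ l), orderOf x = Nat.card A :=
    fun A h => by
      obtain ⟨x, hx⟩ := (Subgroup.isCyclic_iff_exists_zpowers_eq_top A).1 h
      exact ⟨x, by rw [← Nat.card_zpowers, hx]⟩
  obtain ⟨A, a1, a2, -⟩ := C.torA
  obtain ⟨B, b1, b2, -⟩ := C.torB
  obtain ⟨x, hx⟩ := key A a1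
  obtain ⟨y, hy⟩ := key B b1
  rw [a2] at hx
  rw [b2] at hy
  refine ⟨x, y, Or.inl hx, Or.inr hy, ?_⟩
  by_contra h
  obtain ⟨r, hr⟩ := H125.ReeSub.exists_zs l
  have h1 := (H125.ReeFull.cop_factor l).mul_dvd_of_dvd_of_dvd
    (hx ▸ Subgroup.orderOf_dvd_natCard _ (Subgroup.subset_closure (k := {x, y}) (Or.inl rfl)))
    (hy ▸ Subgroup.orderOf_dvd_natCard _ (Subgroup.subset_closure (k := {x, y}) (Or.inr rfl)))
  have h2 := (Nat.le_of_dvd Nat.card_pos h1).trans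
    (H125.TwoRee.card_le_of_dvd hl hE hr _ h (hr.dvd_Q.trans (H125.ReeFull.factor l ▸ h1)))
  have h3 := (IsA.facts (m := l) (Or.inl rfl) hl).1
  have h4 := Nat.le_of_mul_le_mul_right h2 (Nat.succ_pos _)
  omega

theorem nine_le {a : ℕ} (h : 3 ≤ a) : 9 * a ≤ 3 ^ a := by
  induction a, h using Nat.le_induction with
  | base => norm_num
  | succ a _ ih => rw [pow_succ]; omega

theorem num6 {n e d : ℕ} (h1 : 14 ≤ n) (h2 : n ≤ 20) (h3 : 2 * e ≤ n) (h : 6 * d ≤ 6 * e ^ 2 + (n - e) ^ 2 ∧ 6 ∣ n - e) :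
    3 * d + 4 * n + 2 * 8 + 6 ≤ n ^ 2 := by
  obtain ⟨h4, k, h5⟩ := h
  obtain rfl : n = e + 6 * k := by omega
  have h6 : k ≤ 3 := by omega
  have h7 : e ≤ 10 := by omega
  rw [Nat.add_sub_cancel_left] at h4
  interval_cases k <;> interval_cases e <;> omega

end SR

open SR Xc

/-- **the row of the small Ree groups** -/
theorem row_reeD : Row fRee := by
  rintro t n q p T b K _ _ P G c f M ⟨rfl, E, _, _, l, hl, hE, ⟨e⟩⟩
  have := M.char
  have hC := M.core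
  have D := nd_Ree hC.simple hC.nonabelian hl hE e
  obtain ⟨j, hj, h1, h2⟩ := ree_dim hC hl hE e
  have h4 : 9 * b ≤ (3 ^ (2 * l + 1)) ^ 8 := by
    rw [pow_succ' _ 7]
    refine (Nat.mul_le_mul_left 9 (M.toMd0.b_le D)).trans ?_
    rw [← mul_assoc]
    exact Nat.mul_le_mul_right _ (le_trans (le_of_eq (congrArg (9 * ·) (one_mul _))) (nine_le (by omega)))
  have hb : b ≤ Fintype.card K ^ (8 * j) := by
    rw [mul_comm 8, pow_mul, h1]
    omega
  have h27 := (ar hl).q27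
  rcases h2 with h2 | h2
  swap
  · obtain ⟨a, ha, h3, -⟩ := odd_of_pow Nat.prime_three h1
    have h5 := nine_le (a := 2 * l + 1) (by omega)
    refine sc M.toMd0 (δ := 16 * l + 6) ?_ ?_
    · refine le_trans (Nat.le_of_mul_le_mul_left (h4.trans_eq (b := _) (c := 9 * 3 ^ (16 * l + 6)) (by ring)) (by norm_num))
        (Nat.pow_le_pow_left ?_ _)
      exact h3 ▸ Nat.le_self_pow (by omega) 3
    · have h6 : 25 * n ≤ n ^ 2 := by rw [sq]; exact Nat.mul_le_mul_right _ (by omega)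
      omega
  by_cases h3 : 3 ≤ j
  · have h5 := H909.ReeKer.four_mul_le h3
    exact sc_mul M.toMd0 hb (by omega) (x := 12) (y := 9) (by omega) (by omega) (by norm_num)
  obtain rfl : j = 1 := by omega
  by_cases h21 : 21 ≤ n
  · have h6 : 21 * n ≤ n ^ 2 := by rw [sq]; exact Nat.mul_le_mul_right _ h21
    exact sc M.toMd0 hb (by omega)
  have hbil := bil_of M.toMd0 fun g hg => (ree_both hC.absIrred hC.perfect hl hE e hg).2
  have hq : q ^ 1 = 3 ^ (2 * l + 1) := G2.card_bil M.toMd0 hbil ▸ h1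
  obtain ⟨φ, hφ, -⟩ := H708.ReeSix.exists_hom hC hl hE e
  let ψ : Lie.twistedG2 E (3 ^ l) →* P := φ.codRestrict P fun x => hφ ▸ ⟨x, rfl⟩
  have hψ : Function.Surjective ψ := fun ⟨g, hg⟩ => by
    obtain ⟨x, rfl⟩ : g ∈ φ.range := hφ ▸ hg
    exact ⟨x, rfl⟩
  obtain ⟨x, y, hx, hy, h5⟩ := ree_gen hl hE
  have h6 := ev_add_le hC (x := ψ x) (y := ψ y)
    (N2.Tg.closure_pair_map ((toSoc P).comp ψ) ((toSoc_surjective P).comp hψ) h5) 1 1
  obtain ⟨z, hz, h7⟩ : ∃ z, IsA l (orderOf z) ∧ 2 * ev ((ψ z : P) : GL (Fin n) K) 1 ≤ n := by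
    by_cases k : 2 * ev ((ψ x : P) : GL (Fin n) K) 1 ≤ n
    exacts [⟨x, hx, k⟩, ⟨y, hy, by omega⟩]
  obtain ⟨a1, a2, a3, -⟩ := hz.facts hl
  have a4 : (orderOf z).Coprime 3 := Nat.coprime_comm.1 (Nat.prime_three.coprime_iff_not_dvd.2 (by omega))
  have a5 : ψ z ^ orderOf z = 1 := by rw [← map_pow, pow_orderOf_eq_one, map_one]
  have h8 := G2.six M.toMd0 hbil (by omega)
    (Nat.Coprime.mul_left (k := orderOf z) (Nat.prime_two.coprime_iff_not_dvd.2 (by omega)) a4.symm) a4 a5 (j := 1)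
    (Or.inr (hq ▸ hz.dvd))
  by_cases h14 : 14 ≤ n
  · exact crit M.toMd0 _ le_rfl hb (num6 h14 (by omega) h7 h8)
  have h9 := H708.ReeSix.ree_eq_seven hC hl hE e (by rw [Fintype.card_fin]; omega)
  rw [Fintype.card_fin] at h9
  subst h9
  obtain rfl : t = .O := by
    have hd := M.dim
    cases t
    exacts [hbil.elim, hbil.elim, absurd hd.2 (by decide), rfl, absurd hd.1 (by decide), absurd hd.1 (by decide)]
  rw [pow_one] at hq
  rw [← hq] at h4 h27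
  obtain ⟨h10, h11⟩ := h8
  have h12 : ev ((ψ z : P) : GL (Fin 7) K) 1 = 1 := by omega
  refine fin8 M.toMd0 _ (sq_bd (a := 28) (b := 27) (y := 3) (z := 1) (by omega) (by norm_num) (by omega) ?_
    (c_ss M (Or.inl rfl) (Nat.odd_iff.2 a3) a4 a5) (by norm_num; omega)) (y := 8) (by omega) (by decide)
  rw [h12] at h10 ⊢
  omega

end Cfsg.Agent.N2C.RD
end

-- part: N2/Cl/RD/Part2
section
/-!
# N2 (S3519), defining characteristic: the rows that are left (helper69)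
-/

set_option autoImplicit false

namespace Cfsg.Agent.N2C.RD

end Cfsg.Agent.N2C.RD
end

private theorem dce_402ef87d9516 : _root_.True := by
  try have : _root_.True := by simp only [_root_.Cfsg.Agent.N2.Tg.O8p.pa.eq_1]
  try have : _root_.True := by simp only [_root_.Cfsg.Agent.N2C.RD.Rg.El.congr_simp]
  try have : _root_.True := by simp only [_root_.Cfsg.Agent.H948.Ppd.Minus.ia.eq_1]
  try have : _root_.True := by simp only [_root_.Cfsg.Agent.N2C.RD.A2.lm.eq_1]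
  try have : _root_.True := by simp only [_root_.Cfsg.Agent.H948.Ppd.Minus.adm.eq_1]
  try have : _root_.True := by simp only [_root_.Cfsg.Agent.N2C.RD.A2.pa.eq_1]
  try have : _root_.True := by simp only [_root_.Cfsg.Agent.N2.Tg.O8p.pb.eq_1]
  try have : _root_.True := by simp only [_root_.Cfsg.Agent.N2.Tg.U56.T5.eq_1]
  exact _root_.True.intro
end
end
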