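import Cfsg.Agent.N2.Ex.Mu.Num.SChk
import Cfsg.Agent.N2.Sp1.Rows
import Cfsg.Agent.N2.Sp1.Rows_mg
import Cfsg.Agent.N2.Sp3.HNv2
import Cfsg.Agent.N2.Cl.RX.LieMain
import Cfsg.Agent.N2.Sp4.F24
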